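import Groth.Agent.FComplLib.Extension
import Groth.Agent.FPLocal.Coprod
import Groth.Prelude.Def_FTors2

/-!
# Torsion modules
-/

set_option autoImplicit false
set_option linter.style.haveILetI false
set_option linter.unusedVariables false
set_option backward.isDefEq.respectTransparency false
set_option backward.isDefEq.respectTransparency.types false
set_option maxHeartbeats 4000000
universe u

open CategoryTheory CategoryTheory.Limits AlgebraicGeometry TopologicalSpace Opposite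

noncomputable section

namespace Groth.Agent.FCompl

variable {𝔛 : FSch.Sys.{u}} {h : 𝔛.IsFormal} {M N : FSch.ModF 𝔛 h} {U : (𝔛.X 0).Opens}

/-- Killed by the open ideal of a level. -/
abbrev KB (M : FSch.ModF 𝔛 h) (n : ℕ) {V : (𝔛.X 0).Opens} (s : M.val.obj (op V)) : Prop :=
  FTors.KilledBy (FTors.openIdealFam 𝔛 h) M n s

/-- Killed on every affine open inside. -/
theorem kb_of_affine {n : ℕ} {V : (𝔛.X 0).Opens} {s : M.val.obj (op V)}
    (H : ∀ (Z : (𝔛.X 0).Opens) (hZ : Z ≤ V), IsAffineOpen Z → ∀ a : OR 𝔛 h Z, pr 𝔛 h Z n a = 0 →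
      a • FPLocal.mres M (homOfLE hZ).op s = 0) : KB M n s := by
  intro W g a₀ ha
  let a : OR 𝔛 h W := a₀
  have ha' : pr 𝔛 h W n a = 0 := ha
  refine eq_zero_of_affine M _ fun Z hZ hZa => ?_
  show FPLocal.mres M (homOfLE hZ).op (a • FPLocal.mres M g.op s) = 0
  rw [mres_smul', ← FPLocal.mres_comp]
  exact H Z (hZ.trans (leOfHom g)) hZa _ (by rw [pr_rsO, ha', map_zero])

/-- Being killed is local. -/
theorem kb_local {n : ℕ} {V : (𝔛.X 0).Opens} {s : M.val.obj (op V)}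
    (H : FPLocal.Locally (Opens.grothendieckTopology _) V fun Z l => KB M n (FPLocal.mres M l.op s)) : KB M n s := by
  intro W g a₀ ha
  let a : OR 𝔛 h W := a₀
  have ha' : pr 𝔛 h W n a = 0 := ha
  obtain ⟨S, hS, hS'⟩ := H
  refine FPLocal.eq_of_cover M (ι := {A : (𝔛.X 0).Opens // ∃ (hA : A ≤ W), S.arrows (homOfLE (hA.trans (leOfHom g)))})
    (fun A => A.1) (fun A => homOfLE A.2.1) (fun x hx => ?_) fun A => ?_
  · obtain ⟨Z, l, hl, hxZ⟩ := hS x (leOfHom g hx)
    exact ⟨⟨Z ⊓ W, inf_le_right, S.downward_closed hl (homOfLE inf_le_left)⟩, hxZ, hx⟩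
  · obtain ⟨A, hA, hSA⟩ := A
    have e := hS' _ hSA (𝟙 A) (rsO 𝔛 h hA a) (by
      show pr 𝔛 h A n (rsO 𝔛 h hA a) = 0
      rw [pr_rsO, ha', map_zero])
    rw [FTors.res_id] at e
    rw [map_zero]
    show FPLocal.mres M (homOfLE hA).op (a • FPLocal.mres M g.op s) = 0
    rw [mres_smul', ← FPLocal.mres_comp]
    exact e

/-- Killed by generators of the open ideal over an affine open. -/
theorem kb_of_gens (hL : 𝔛.IsLocNoethFormal) (hU : IsAffineOpen U) {n : ℕ} {S : Set (OR 𝔛 h U)}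
    (hS : Ideal.span S = II 𝔛 h U ^ (n + 1)) {s : M.val.obj (op U)} (H : ∀ a ∈ S, a • s = 0) : KB M n s := by
  refine kb_of_affine fun Z hZ hZa a ha => ?_
  have h1 : a ∈ Ideal.span (rsO 𝔛 h hZ '' S) := by
    rw [← Ideal.map_span, hS, Ideal.map_pow, II_map hL hU hZa hZ, ← ker_pr hL hZa n, RingHom.mem_ker]
    exact ha
  clear ha
  induction h1 using Submodule.span_induction with
  | mem y hy =>
    obtain ⟨b, hb, rfl⟩ := hy
    rw [← mres_smul', H b hb, map_zero]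
  | zero => exact zero_smul _ _
  | add b c _ _ hb hc => rw [add_smul, hb, hc, add_zero]
  | smul r b _ hb => rw [smul_eq_mul, mul_smul, hb, smul_zero]

/-- Torsion modules. -/
abbrev IsT (M : FSch.ModF 𝔛 h) : Prop := FTors.IsTorsF 𝔛 h M

/-- Torsion sections are locally killed. -/
theorem isTorsSect_iff {V : (𝔛.X 0).Opens} (s : M.val.obj (op V)) :
    FTors.IsTorsSect (FTors.openIdealFam 𝔛 h) M s ↔
      FPLocal.Locally (Opens.grothendieckTopology _) V fun Z l => ∃ n, KB M n (FPLocal.mres M l.op s) :=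
  ⟨fun H => by
      obtain ⟨S, hS, hS'⟩ := (FTors.IsTorsSect.iff_exists s).1 H
      exact ⟨S, hS, hS'⟩,
    fun ⟨S, hS, hS'⟩ => (FTors.IsTorsSect.iff_exists s).2 ⟨S, hS, hS'⟩⟩

theorem isT_of_epi (π : M ⟶ N) [Epi π] (hM : IsT M) : IsT N := by
  intro V s
  obtain ⟨S, hS, hS'⟩ := FPLocal.exists_sieve_preimage π s
  refine FTors.IsTorsSect.of_cover hS fun Z g hg => ?_
  obtain ⟨t, ht⟩ := hS' g hg
  have := FTors.IsTorsSect.hom π (hM Z t)
  rw [show (π.val.app (op Z)).hom t = _ from ht] at this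
  exact this

theorem isT_of_iso (e : M ≅ N) (hM : IsT M) : IsT N := isT_of_epi e.hom hM

theorem isT_sigma {A : Type u} (F : A → FSch.ModF 𝔛 h) (H : ∀ a, IsT (F a)) : IsT (∐ F) := by
  intro V s
  obtain ⟨S, hS, hS'⟩ := FPLocal.locally_exists_finsum F s
  refine FTors.IsTorsSect.of_cover hS fun Z g hg => ?_
  obtain ⟨T, y, hy⟩ := hS' g hg
  show FTors.IsTorsSect _ _ (FPLocal.mres (∐ F) g.op s)
  rw [hy]
  exact Submodule.sum_mem (FTors.torsSub (FTors.openIdealFam 𝔛 h) (∐ F) Z)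
    fun a _ => FTors.IsTorsSect.hom (Sigma.ι F a) (H a Z (y a))

theorem isT_colimit {J : Type u} [SmallCategory J] {D : J ⥤ FSch.ModF 𝔛 h} {c : Cocone D} (hc : IsColimit c)
    (H : ∀ j, IsT (D.obj j)) : IsT c.pt := by
  haveI : Epi (Sigma.desc fun j => c.ι.app j) := ⟨fun {Z} a b hab => hc.hom_ext fun j => by
    have e := congrArg (Sigma.ι (fun j => D.obj j) j ≫ ·) hab
    simp only [Sigma.ι_desc_assoc] at e
    exact e⟩
  exact isT_of_epi (Sigma.desc fun j => c.ι.app j) (isT_sigma _ H)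

theorem isT_gammaT (M : FSch.ModF 𝔛 h) : IsT ((FTors.gammaT 𝔛 h).obj M) := by
  intro V s
  obtain ⟨S, hS, hS'⟩ := (isTorsSect_iff (M := M) s.1).1 s.2
  refine (isTorsSect_iff _).2 ⟨S, hS, fun Z g hg => ?_⟩
  obtain ⟨n, hn⟩ := hS' g hg
  exact ⟨n, fun W k a ha => Subtype.ext (hn k a ha)⟩

/-- Torsion modules are closed under extensions. -/
theorem isT_of_exact (hL : 𝔛.IsLocNoethFormal) {B C : FSch.ModF 𝔛 h} (g : B ⟶ M) (k : M ⟶ C) (w : g ≫ k = 0)
    (e : (ShortComplex.mk g k w).Exact) (hB : IsT B) (hC : IsT C) : IsT M := by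
  classical
  intro V s
  haveI : Epi (kernel.lift k g w) := e.epi_kernelLift
  refine (isTorsSect_iff s).2 (FPLocal.locally_of_near (fun Z Y l q hn => ?_) fun x hx => ?_)
  · obtain ⟨n, hn⟩ := hn
    refine ⟨n, ?_⟩
    rw [FPLocal.mres_comp']
    exact hn.res l
  obtain ⟨Z₀, l₀, hxZ₀, n, hn⟩ := FPLocal.Locally.near ((isTorsSect_iff _).1 (hC V ((k.val.app (op V)).hom s))) hx
  obtain ⟨Z, hZa, hxZ, hZZ₀⟩ := exists_affine_le (𝔛 := 𝔛) hxZ₀
  have hZV : Z ≤ V := hZZ₀.trans (leOfHom l₀)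
  haveI := noetherian (h := h) hL hZa
  obtain ⟨T, hT⟩ : (II 𝔛 h Z ^ (n + 1)).FG := IsNoetherian.noetherian _
  let s₁ : M.val.obj (op Z) := FPLocal.mres M (homOfLE hZV).op s
  have hkill : ∀ a ∈ T, (k.val.app (op Z)).hom (a • s₁) = 0 := fun a ha => by
    rw [map_smul, FPLocal.app_mres]
    refine Eq.trans (congrArg (a • ·) (FPLocal.mres_comp (M := C) l₀.op (homOfLE hZZ₀).op _)) (hn (homOfLE hZZ₀) a ?_)
    show pr 𝔛 h Z n a = 0
    rw [← RingHom.mem_ker, ker_pr hL hZa n, ← hT]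
    exact Ideal.subset_span ha
  choose w' hw' using fun a : ↥T => FPLocal.exists_kernel_preimage k _ (hkill a.1 a.2)
  have hloc : ∀ a : ↥T, FPLocal.Locally (Opens.grothendieckTopology _) Z fun Y q =>
      ∃ m, KB M m (FPLocal.mres M q.op (a.1 • s₁)) := fun a => by
    refine FPLocal.Locally.bind (P := fun Y q => ∃ b, ((kernel.lift k g w).val.app (op Y)).hom b =
      FPLocal.mres (kernel k) q.op (w' a)) (FPLocal.exists_sieve_preimage (kernel.lift k g w) (w' a))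
      fun Y q ⟨b, hb⟩ => ?_
    refine (isTorsSect_iff b).1 (hB Y b) |>.mono fun Y' q' hq' => ?_
    obtain ⟨m, hm⟩ := hq'
    refine ⟨m, ?_⟩
    have e2 : (g.val.app (op Y)).hom b = FPLocal.mres M q.op (a.1 • s₁) := by
      rw [← hw' a, ← FPLocal.app_mres, ← hb]
      exact congrArg (fun f : B ⟶ M => (f.val.app (op Y)).hom b) (kernel.lift_ι k g w).symm
    rw [FPLocal.mres_comp', ← e2, ← FPLocal.app_mres]
    exact hm.hom g
  obtain ⟨Y, q, hxY, hY⟩ := FPLocal.Locally.near (FPLocal.Locally.forall hloc) hxZ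
  obtain ⟨Y', hY'a, hxY', hY'Y⟩ := exists_affine_le (𝔛 := 𝔛) hxY
  have hY'Z : Y' ≤ Z := hY'Y.trans (leOfHom q)
  choose m hm using hY
  let m₀ : ℕ := Finset.univ.sup m
  refine ⟨Y', homOfLE (hY'Z.trans hZV), hxY', n + m₀ + 1, ?_⟩
  refine kb_of_gens hL hY'a (S := {c | ∃ a ∈ T, ∃ b ∈ II 𝔛 h Y' ^ (m₀ + 1), c = b * rsO 𝔛 h hY'Z a}) ?_ ?_
  · refine le_antisymm (Ideal.span_le.2 ?_) ?_
    · rintro _ ⟨a, ha, b, hb, rfl⟩
      rw [show n + m₀ + 1 + 1 = (m₀ + 1) + (n + 1) from by omega, pow_add]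
      refine Ideal.mul_mem_mul hb ?_
      rw [← II_map hL hZa hY'a hY'Z, ← Ideal.map_pow, ← hT]
      exact Ideal.mem_map_of_mem _ (Ideal.subset_span ha)
    · rw [show n + m₀ + 1 + 1 = (m₀ + 1) + (n + 1) from by omega, pow_add, ← II_map hL hZa hY'a hY'Z,
        ← Ideal.map_pow _ _ (n + 1), ← hT, Ideal.map_span, Ideal.mul_le]
      intro b hb c hc
      induction hc using Submodule.span_induction with
      | mem y hy =>
        obtain ⟨a, ha, rfl⟩ := hy
        exact Ideal.subset_span ⟨a, ha, b, hb, rfl⟩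
      | zero => rw [mul_zero]; exact zero_mem _
      | add p p' _ _ hp hp' => rw [mul_add]; exact add_mem hp hp'
      | smul r p _ hp => rw [smul_eq_mul, mul_left_comm]; exact Ideal.mul_mem_left _ r hp
  · rintro _ ⟨a, ha, b, hb, rfl⟩
    have h1 := ((hm ⟨a, ha⟩).mono (Finset.le_sup (Finset.mem_univ _) : m ⟨a, ha⟩ ≤ m₀)) (homOfLE hY'Y) b (by
      show pr 𝔛 h Y' m₀ b = 0
      rw [← RingHom.mem_ker, ker_pr hL hY'a m₀]
      exact hb)
    have h2 : FTors.res M (homOfLE hY'Y) (FPLocal.mres M q.op (a • s₁)) =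
        rsO 𝔛 h hY'Z a • FPLocal.mres M (homOfLE (hY'Z.trans hZV)).op s := by
      show FPLocal.mres M (homOfLE hY'Y).op (FPLocal.mres M q.op (a • s₁)) = _
      rw [← FPLocal.mres_comp]
      refine (mres_smul' hY'Z a s₁).trans ?_
      refine congrArg (rsO 𝔛 h hY'Z a • ·) ?_
      exact (FPLocal.mres_comp (M := M) _ _ s).symm
    rw [h2] at h1
    rw [mul_smul]
    exact h1

end Groth.Agent.FCompl
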