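import Groth.Agent.FComplLib.FinPres

/-!
# The torsion coreflection preserves filtered colimits
-/

set_option autoImplicit false
set_option linter.style.haveILetI false
set_option linter.unusedVariables false
set_option backward.isDefEq.respectTransparency false
set_option backward.isDefEq.respectTransparency.types false
set_option maxHeartbeats 4000000
universe u

open CategoryTheory CategoryTheory.Limits AlgebraicGeometry TopologicalSpace Opposite

noncomputable section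

namespace Groth.Agent.FCompl

variable {𝔛 : FSch.Sys.{u}} {h : 𝔛.IsFormal}

theorem isT_of_mono (hL : 𝔛.IsLocNoethFormal) {C M : FSch.ModF 𝔛 h} (f : C ⟶ M) [Mono f] (hM : IsT M) : IsT C := by
  have hB : IsT (∐ fun a : PEmpty.{u + 1} => (a.elim : FSch.ModF 𝔛 h)) := isT_sigma _ fun a => a.elim
  refine isT_of_exact hL (0 : (∐ fun a : PEmpty.{u + 1} => (a.elim : FSch.ModF 𝔛 h)) ⟶ C) f zero_comp ?_ hB hM
  exact (ShortComplex.exact_iff_mono _ rfl).2 ‹Mono f›

theorem qct_sub_coh (hL : 𝔛.IsLocNoethFormal) {C M : FSch.ModF 𝔛 h} (hC : FSch.IsCohF 𝔛 h C) (f : C ⟶ M) [Mono f]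
    (hM : IsT M) : FTors.IsQCT 𝔛 h C :=
  ⟨isT_of_mono hL f hM, (affQC_of_coh hL hC).isQuasicoherent⟩

/-- A section of a quasi-coherent torsion module lies locally in a coherent quasi-coherent torsion submodule. -/
theorem exists_qct_coh_near (hL : 𝔛.IsLocNoethFormal) {M : FSch.ModF 𝔛 h} (hM : FTors.IsQCT 𝔛 h M)
    {W : (𝔛.X 0).Opens} (m : M.val.obj (op W)) {x : 𝔛.X 0} (hx : x ∈ W) :
    ∃ (C : FSch.ModF 𝔛 h) (i : C ⟶ M), FSch.IsCohF 𝔛 h C ∧ Mono i ∧ FTors.IsQCT 𝔛 h C ∧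
      ∃ (Z : (𝔛.X 0).Opens) (hZ : Z ≤ W) (y : C.val.obj (op Z)), x ∈ Z ∧ (i.val.app (op Z)).hom y = rsF M hZ m := by
  haveI := hM.2
  obtain ⟨K, _, _, q, hq⟩ := ind_of_qct hL hM.1
  obtain ⟨J, _, _, p, hp, hmono⟩ := exists_mono_presentation hL q hq
  obtain ⟨Z, g, hxZ, j, y, hy⟩ := (FPLocal.locally_exists_rep (c := p.cocone) p.isColimit m).near hx
  let i : p.diag.obj j ⟶ M := p.ι.app j
  haveI : Mono i := hmono j
  exact ⟨p.diag.obj j, i, hp j, inferInstance, qct_sub_coh hL (hp j) i hM.1, Z, leOfHom g, y, hxZ, hy⟩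

variable (Q : FSch.ModF 𝔛 h ⥤ (FTors.IsQCT 𝔛 h).FullSubcategory) (adj : (FTors.IsQCT 𝔛 h).ι ⊣ Q)

include adj in
theorem preservesColimit_qct_right (hL : 𝔛.IsLocNoethFormal) [CompactSpace (𝔛.X 0)] {J : Type u} [SmallCategory J]
    [IsFiltered J] (K : J ⥤ FSch.ModF 𝔛 h) : PreservesColimit K Q := by
  refine preservesColimit_of_preserves_colimit_cocone (colimit.isColimit K) ?_
  let c := colimit.cocone K
  have hc : IsColimit c := colimit.isColimit K
  let P := FTors.IsQCT 𝔛 h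
  let F : J ⥤ FSch.ModF 𝔛 h := K ⋙ Q ⋙ P.ι
  let L := colimit.cocone F
  have hLc : IsColimit L := colimit.isColimit F
  have hLq : FTors.IsQCT 𝔛 h L.pt := qct_colimit hL hLc fun j => (Q.obj (K.obj j)).property
  let t : Cocone F := P.ι.mapCocone (Q.mapCocone c)
  let φ : L.pt ⟶ t.pt := hLc.desc t
  have hφ : ∀ j, L.ι.app j ≫ φ = t.ι.app j := fun j => hLc.fac t j
  let ε : ∀ M, (Q.obj M).obj ⟶ M := fun M => adj.counit.app M
  have hεnat : ∀ {M N : FSch.ModF 𝔛 h} (f : M ⟶ N), (Q.map f).hom ≫ ε N = ε M ≫ f := fun f => adj.counit.naturality f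
  have huniv : ∀ {C : FSch.ModF 𝔛 h} (hC : FTors.IsQCT 𝔛 h C) {M : FSch.ModF 𝔛 h} (a b : C ⟶ (Q.obj M).obj),
      a ≫ ε M = b ≫ ε M → a = b := fun {C} hC {M} a b e => by
    let a' : (⟨C, hC⟩ : P.FullSubcategory) ⟶ Q.obj M := ObjectProperty.homMk a
    let b' : (⟨C, hC⟩ : P.FullSubcategory) ⟶ Q.obj M := ObjectProperty.homMk b
    have : a' = b' := (adj.homEquiv _ _).symm.injective (by
      rw [adj.homEquiv_counit, adj.homEquiv_counit]
      exact e)
    exact congrArg (fun f : (⟨C, hC⟩ : P.FullSubcategory) ⟶ Q.obj M => f.hom) this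
  have hlift : ∀ {C : FSch.ModF 𝔛 h} (hC : FTors.IsQCT 𝔛 h C) {M : FSch.ModF 𝔛 h} (g : C ⟶ M),
      ∃ a : C ⟶ (Q.obj M).obj, a ≫ ε M = g := fun {C} hC {M} g => by
    refine ⟨((adj.homEquiv (⟨C, hC⟩ : P.FullSubcategory) M) g).hom, ?_⟩
    exact (adj.homEquiv_counit _ _ _).symm.trans ((adj.homEquiv (⟨C, hC⟩ : P.FullSubcategory) M).symm_apply_apply g)
  haveI : Mono φ := FPLocal.mono_of_locally_zero φ fun W m hm => by
    refine FPLocal.locally_of_near (fun Z Y l q hq => by rw [FPLocal.mres_comp', hq, map_zero]) fun x hx => ?_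
    obtain ⟨Z, g, hxZ, j, y, hy⟩ := (FPLocal.locally_exists_rep (c := L) hLc m).near hx
    obtain ⟨C, i, hC, hi, hCq, Z', hZ', z, hxZ', hz⟩ := exists_qct_coh_near hL (Q.obj (K.obj j)).property y hxZ
    let θ : C ⟶ t.pt := i ≫ t.ι.app j
    haveI : SheafOfModules.IsQuasicoherent.{u} C := hCq.2
    haveI : SheafOfModules.IsQuasicoherent.{u} t.pt := (Q.obj c.pt).property.2
    haveI := isQuasicoherent_kernel θ hL
    haveI := isFiniteType_of_mono hL hC (kernel.ι θ)
    have hD : FSch.IsCohF 𝔛 h (kernel θ) := isCohF_of_qc_ft hL _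
    have hDq : FTors.IsQCT 𝔛 h (kernel θ) := qct_sub_coh hL hD (kernel.ι θ) hCq.1
    have hzθ : (θ.val.app (op Z')).hom z = 0 := by
      show ((t.ι.app j).val.app (op Z')).hom ((i.val.app (op Z')).hom z) = 0
      refine (congrArg ((t.ι.app j).val.app (op Z')).hom hz).trans ?_
      refine (app_rsF (t.ι.app j) hZ' y).trans ?_
      have e : ((t.ι.app j).val.app (op Z)).hom y = 0 := by
        refine Eq.trans (congrArg (fun ψ : F.obj j ⟶ t.pt => (ψ.val.app (op Z)).hom y) (hφ j).symm) ?_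
        refine (congrArg (φ.val.app (op Z)).hom hy).trans ((app_rsF φ (leOfHom g) m).trans ?_)
        rw [hm, map_zero]
      rw [e, map_zero]
    obtain ⟨z₀, hz₀⟩ := FPLocal.exists_kernel_preimage θ z hzθ
    let g₀ : kernel θ ⟶ K.obj j := kernel.ι θ ≫ i ≫ ε (K.obj j)
    obtain ⟨k, f, hf⟩ := exists_eq_zero_colimit hc hL hD g₀ (by
      show (kernel.ι θ ≫ i ≫ ε (K.obj j)) ≫ c.ι.app j = 0
      rw [Category.assoc, Category.assoc, ← hεnat (c.ι.app j)]
      exact (by simp only [θ, Category.assoc]; rfl : _ = (kernel.ι θ ≫ θ) ≫ ε c.pt).trans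
        (by rw [kernel.condition, zero_comp]))
    have hk : kernel.ι θ ≫ i ≫ (Q.map (K.map f)).hom = 0 := huniv hDq _ _ (by
      rw [Category.assoc, Category.assoc, hεnat, zero_comp]
      exact (by simp [g₀] : _ = g₀ ≫ K.map f).trans hf)
    refine ⟨Z', homOfLE hZ' ≫ g, hxZ', ?_⟩
    have hm' : FPLocal.mres L.pt g.op m = ((L.ι.app j).val.app (op Z)).hom y := hy.symm
    show FPLocal.mres L.pt (homOfLE hZ' ≫ g).op m = 0
    rw [FPLocal.mres_comp', hm']
    refine (app_rsF (L.ι.app j) hZ' y).symm.trans ?_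
    refine (congrArg ((L.ι.app j).val.app (op Z')).hom hz.symm).trans ?_
    rw [← L.w f]
    have e0 := congrArg (fun ψ : kernel θ ⟶ F.obj k => (ψ.val.app (op Z')).hom z₀) hk
    show ((L.ι.app k).val.app (op Z')).hom (((Q.map (K.map f)).hom.val.app (op Z')).hom ((i.val.app (op Z')).hom z)) = 0
    rw [← hz₀]
    refine (congrArg ((L.ι.app k).val.app (op Z')).hom e0).trans ?_
    exact map_zero _
  haveI : Epi φ := FPLocal.epi_of_exists_preimage _ fun W m => by
    refine FPLocal.locally_of_near (fun Z Y l q hq => ?_) fun x hx => ?_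
    · obtain ⟨y, hy⟩ := hq
      refine ⟨FPLocal.mres _ l.op y, ?_⟩
      rw [FPLocal.app_mres, hy, ← FPLocal.mres_comp']
    obtain ⟨C, i, hC, hi, hCq, Z, hZ, z, hxZ, hz⟩ := exists_qct_coh_near hL (Q.obj c.pt).property m hx
    obtain ⟨j, g, hg⟩ := exists_factor_colimit hc hL hC (i ≫ ε c.pt)
    obtain ⟨a, ha⟩ := hlift hCq g
    have e : a ≫ (Q.map (c.ι.app j)).hom = i := huniv hCq _ _ (by
      rw [Category.assoc, hεnat, ← Category.assoc]
      exact (congrArg (· ≫ c.ι.app j) ha).trans hg)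
    refine ⟨Z, homOfLE hZ, hxZ, ((a ≫ L.ι.app j).val.app (op Z)).hom z, ?_⟩
    refine Eq.trans ?_ hz
    refine Eq.trans ?_ (congrArg (fun ψ : C ⟶ (Q.obj c.pt).obj => (ψ.val.app (op Z)).hom z) e)
    exact congrArg (fun ψ : F.obj j ⟶ t.pt => (ψ.val.app (op Z)).hom ((a.val.app (op Z)).hom z)) (hφ j)
  haveI : IsIso (hLc.desc t) := isIso_of_mono_of_epi φ
  exact isColimitOfReflects P.ι (hLc.ofPointIso (t := t))

end Groth.Agent.FCompl
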