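import Groth.Agent.FComplLib.IndChar
import Groth.Agent.FPLocal.GlobalFree

/-!
# Global presentations on affine formal schemes
-/

set_option autoImplicit false
set_option linter.style.haveILetI false
set_option linter.unusedVariables false
set_option backward.isDefEq.respectTransparency false
set_option backward.isDefEq.respectTransparency.types false
set_option maxHeartbeats 4000000
universe u

open CategoryTheory CategoryTheory.Limits AlgebraicGeometry TopologicalSpace Opposite

noncomputable section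

namespace Groth.Agent.FCompl

section Site

variable {C : Type u} [SmallCategory C] {J : GrothendieckTopology C} {R : Sheaf J RingCat.{u}}
  {M : SheafOfModules.{u} R} {X : C} (hX : IsTerminal X) {I : Type u} {t : I → M.val.obj (op X)}

include hX in
theorem exists_cokernel_free (hg : GenFin M t) (hr : RelFin M t) :
    ∃ (α β : Type u) (φ : (SheafOfModules.free α : SheafOfModules.{u} R) ⟶ SheafOfModules.free β),
      Nonempty (cokernel φ ≅ M) := by
  classical
  let π : (SheafOfModules.free I : SheafOfModules.{u} R) ⟶ M :=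
    FPLocal.freeDesc fun i => FPLocal.globalHom hX (t i)
  let b := fun (i : I) (U : C) => FPLocal.basisVal (𝟙 (SheafOfModules.free I : SheafOfModules.{u} R)) i U
  have hπ : ∀ i (U : C), (π.val.app (op U)).hom (b i U) = FPLocal.mres M (hX.from U).op (t i) := fun i U => by
    refine (FPLocal.app_basisVal_id π i U).trans ?_
    rw [← FPLocal.mres_basisVal π i (hX.from U)]
    refine congrArg _ ?_
    rw [FPLocal.basisVal, FPLocal.ιFree_freeDesc, FPLocal.gval_globalHom]
  let ρ : FinRel M t → (SheafOfModules.unit R ⟶ SheafOfModules.free I) := fun c =>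
    FPLocal.globalHom hX (∑ i ∈ c.1.support, c.1 i • b i X)
  let φ : (SheafOfModules.free (FinRel M t) : SheafOfModules.{u} R) ⟶ SheafOfModules.free I := FPLocal.freeDesc ρ
  have hρ : ∀ c (U : C), FPLocal.basisVal φ c U =
      ∑ i ∈ c.1.support, (R.obj.map (hX.from U).op).hom (c.1 i) • b i U := fun c U => by
    rw [← FPLocal.mres_basisVal φ c (hX.from U)]
    refine (congrArg (FPLocal.mres (SheafOfModules.free I) (hX.from U).op)
      (by rw [FPLocal.basisVal, FPLocal.ιFree_freeDesc, FPLocal.gval_globalHom] :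
        FPLocal.basisVal φ c X = ∑ i ∈ c.1.support, c.1 i • b i X)).trans ?_
    rw [map_sum]
    refine Finset.sum_congr rfl fun i _ => ?_
    refine (PresheafOfModules.map_smul (SheafOfModules.free I : SheafOfModules.{u} R).val (hX.from U).op (c.1 i) _).trans ?_
    exact congrArg _ (FPLocal.mres_basisVal _ i (hX.from U))
  have hφπ : φ ≫ π = 0 := FPLocal.free_hom_ext fun c => M.unitHomEquiv.injective (Subtype.ext (funext fun U => by
    obtain ⟨U⟩ := U
    show FPLocal.gval (SheafOfModules.ιFree c ≫ φ ≫ π) U = FPLocal.gval (SheafOfModules.ιFree c ≫ 0) U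
    rw [comp_zero]
    show (π.val.app (op U)).hom (FPLocal.basisVal φ c U) = 0
    rw [hρ, map_sum]
    refine Eq.trans (Finset.sum_congr rfl fun i _ => ?_)
      ((congrArg (FPLocal.mres M (hX.from U).op) c.2).trans (map_zero _) |> fun e =>
        (map_sum (FPLocal.mres M (hX.from U).op) (fun i => c.1 i • t i) c.1.support).symm.trans e)
    rw [map_smul, hπ]
    exact (PresheafOfModules.map_smul M.val (hX.from U).op (c.1 i) (t i)).symm))
  let d : cokernel φ ⟶ M := cokernel.desc φ π hφπ
  haveI : Epi d := by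
    haveI : Epi π := by
      refine FPLocal.epi_of_exists_preimage π fun U m => ?_
      obtain ⟨S, hS, hS'⟩ := hg (hX.from U) m
      refine ⟨S, hS, fun W g hW => ?_⟩
      obtain ⟨T, a, ha⟩ := hS' g hW
      refine ⟨∑ i ∈ T, a i • b i W, ?_⟩
      rw [map_sum]
      refine Eq.trans (Finset.sum_congr rfl fun i _ => ?_) ha
      rw [map_smul, hπ, hX.hom_ext (g ≫ hX.from U) (hX.from W)]
    haveI : Epi (cokernel.π φ ≫ d) := by rw [cokernel.π_desc]; infer_instance
    exact epi_of_epi (cokernel.π φ) d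
  haveI : Mono d := by
    refine FPLocal.mono_of_locally_zero d fun U m hm => ?_
    refine FPLocal.Locally.bind (P := fun W g => ∃ z, ((cokernel.π φ).val.app (op W)).hom z =
      FPLocal.mres (cokernel φ) g.op m) (FPLocal.exists_sieve_preimage (cokernel.π φ) m) fun W g ⟨z, hz⟩ => ?_
    refine FPLocal.Locally.bind (locally_free_sum z) fun W₁ g₁ ⟨S, a, ha⟩ => ?_
    let a' : I → R.obj.obj (op W₁) := fun i => if i ∈ S then a i else 0
    have hzero : ∑ i ∈ S, a' i • FPLocal.mres M (hX.from W₁).op (t i) = 0 := by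
      have e := congrArg (π.val.app (op W₁)).hom ha
      have e0 : (π.val.app (op W)).hom z = 0 := by
        rw [← cokernel.π_desc φ π hφπ]
        show (d.val.app (op W)).hom (((cokernel.π φ).val.app (op W)).hom z) = 0
        rw [hz, FPLocal.app_mres, hm, map_zero]
      rw [map_sum, FPLocal.app_mres, e0, map_zero] at e
      refine Eq.trans (Finset.sum_congr rfl fun i hi => ?_) e
      rw [map_smul, hπ]
      exact congrArg (· • _) (if_pos hi)
    refine (hr (hX.from W₁) S a' (fun i hi => if_neg hi) hzero).mono fun W₂ g₂ hg₂ => ?_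
    obtain ⟨T, e, he⟩ := hg₂
    let y := ∑ c ∈ T, e c • FPLocal.basisVal (𝟙 (SheafOfModules.free (FinRel M t) : SheafOfModules.{u} R)) c W₂
    have hy : (φ.val.app (op W₂)).hom y = FPLocal.mres (SheafOfModules.free I) (g₂ ≫ g₁).op z := by
      rw [op_comp, FPLocal.mres_comp, ← ha, map_sum, map_sum]
      let U₁ := S ∪ T.biUnion fun c => c.1.support
      have e1 : ∀ c ∈ T, (φ.val.app (op W₂)).hom (e c • FPLocal.basisVal (𝟙 (SheafOfModules.free (FinRel M t) : SheafOfModules.{u} R)) c W₂) =
          ∑ i ∈ U₁, (e c * (R.obj.map (g₂ ≫ hX.from W₁).op).hom (c.1 i)) • b i W₂ := fun c hc => by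
        rw [map_smul, FPLocal.app_basisVal_id, hρ, Finset.smul_sum, hX.hom_ext (g₂ ≫ hX.from W₁) (hX.from W₂)]
        refine Eq.trans (Finset.sum_congr rfl fun i _ => (mul_smul _ _ _).symm)
          (Finset.sum_subset (fun i hi => Finset.mem_union_right _ (Finset.mem_biUnion.2 ⟨c, hc, hi⟩)) fun i _ hi => ?_)
        rw [show c.1 i = 0 from Finsupp.notMem_support_iff.1 hi, map_zero, mul_zero, zero_smul]
      rw [Finset.sum_congr rfl e1, Finset.sum_comm]
      refine Eq.trans (Finset.sum_congr rfl fun i _ => (Finset.sum_smul.symm.trans (congrArg (· • b i W₂) (he i)))) ?_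
      refine (Finset.sum_subset (Finset.subset_union_left : S ⊆ U₁) fun i _ hi => ?_).symm.trans
        (Finset.sum_congr rfl fun i hi => ?_)
      · show ((R.obj.map g₂.op).hom (if i ∈ S then a i else 0)) • b i W₂ = 0
        rw [if_neg hi, map_zero, zero_smul]
      · show ((R.obj.map g₂.op).hom (if i ∈ S then a i else 0)) • b i W₂ = _
        rw [if_pos hi]
        exact ((PresheafOfModules.map_smul (SheafOfModules.free I : SheafOfModules.{u} R).val g₂.op (a i) _).trans
          (congrArg _ (FPLocal.mres_basisVal _ i g₂))).symm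
    have e2 : ((cokernel.π φ).val.app (op W₂)).hom ((φ.val.app (op W₂)).hom y) = 0 :=
      congrArg (fun p : _ ⟶ cokernel φ => (p.val.app (op W₂)).hom y) (cokernel.condition φ)
    rw [hy, FPLocal.app_mres, hz, ← FPLocal.mres_comp] at e2
    simpa only [← op_comp, Category.assoc] using e2
  haveI : IsIso d := isIso_of_mono_of_epi d
  exact ⟨_, _, φ, ⟨asIso d⟩⟩

end Site

variable {𝔛 : FSch.Sys.{u}} {h : 𝔛.IsFormal}

theorem isCohF_unit (hL : 𝔛.IsLocNoethFormal) : FSch.IsCohF 𝔛 h (SheafOfModules.unit (ModSite.ringSh (𝔛.Osh h))) :=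
  isCohF_of_affine _ fun U hU => by
    refine ⟨PUnit.{u+1}, PEmpty.{u+1}, inferInstance, inferInstance, fun _ => (1 : OR 𝔛 h U),
      fun k => k.elim, fun W g m => ?_, fun k => k.elim, fun W g d hd => ?_⟩
    · refine ⟨⊤, (Opens.grothendieckTopology _).top_mem W, fun Z l _ => ⟨fun _ => (rsO 𝔛 h (leOfHom l) m : OR 𝔛 h Z), ?_⟩⟩
      rw [Fintype.sum_unique]
      show rsO 𝔛 h (leOfHom l) m * rsO 𝔛 h (leOfHom (l ≫ g)) 1 = rsO 𝔛 h (leOfHom l) m
      rw [map_one, mul_one]
    · refine ⟨⊤, (Opens.grothendieckTopology _).top_mem W, fun Z l _ => ⟨fun k => k.elim, fun i => ?_⟩⟩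
      let d0 : OR 𝔛 h W := d PUnit.unit
      have h1 : d0 = 0 := by
        rw [Fintype.sum_unique] at hd
        have h2 : d0 * rsO 𝔛 h (leOfHom g) 1 = 0 := hd
        rwa [map_one, mul_one] at h2
      rw [show d i = 0 from h1, map_zero]
      exact Finset.sum_of_isEmpty _

theorem ind_cokernel_free (hL : 𝔛.IsLocNoethFormal) {α β : Type u} {𝔉 : FSch.ModF 𝔛 h}
    (φ : (SheafOfModules.free α : FSch.ModF 𝔛 h) ⟶ SheafOfModules.free β) (e : cokernel φ ≅ 𝔉) :
    (ObjectProperty.ind.{u} fun 𝔊 : FSch.ModF 𝔛 h => FSch.IsCohF 𝔛 h 𝔊) 𝔉 := by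
  haveI : ∀ γ : Type u, SheafOfModules.IsQuasicoherent.{u} (SheafOfModules.free γ : FSch.ModF 𝔛 h) := fun γ =>
    (affQC_sigma (fun _ : γ => SheafOfModules.unit (ModSite.ringSh (𝔛.Osh h)))
      fun _ => affQC_of_coh hL (isCohF_unit hL)).isQuasicoherent
  haveI := isQuasicoherent_cokernel φ hL
  haveI : SheafOfModules.IsQuasicoherent.{u} 𝔉 :=
    (SheafOfModules.isQuasicoherent.{u} (ModSite.ringSh (𝔛.Osh h))).prop_of_iso e inferInstance
  obtain ⟨J, hJ, hJf, pres, hp, -⟩ := exists_presentation_of_family (C := fun _ : β => SheafOfModules.unit (ModSite.ringSh (𝔛.Osh h)))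
    (fun i => SheafOfModules.ιFree i ≫ cokernel.π φ ≫ e.hom) hL (fun _ => isCohF_unit hL) ⟨fun {Z} a b hab => by
      rw [← cancel_epi (cokernel.π φ ≫ e.hom)]
      refine FPLocal.free_hom_ext fun i => ?_
      have e' := congrArg (Sigma.ι (fun _ : β => SheafOfModules.unit (ModSite.ringSh (𝔛.Osh h))) i ≫ ·) hab
      simp only [Sigma.ι_desc_assoc, Category.assoc] at e' ⊢
      exact e'⟩
  exact ⟨J, hJ, hJf, pres, hp⟩

end Groth.Agent.FCompl
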