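import Groth.Agent.FComplLib.Completion
import Groth.Prelude.Def_FSch6

/-!
# The inverse image of a coherent system along a morphism of formal schemes
-/

set_option autoImplicit false
set_option linter.style.haveILetI false
set_option linter.unusedVariables false
set_option backward.isDefEq.respectTransparency false
set_option backward.isDefEq.respectTransparency.types false
set_option maxHeartbeats 1000000
universe u

open CategoryTheory CategoryTheory.Limits AlgebraicGeometry TopologicalSpace Opposite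

noncomputable section

namespace Groth.Agent.FCompl

variable {𝔛 𝔜 : FSch.Sys.{u}} (φ : 𝔛 ⟶ 𝔜) (hX : 𝔛.IsFormal) (hY : 𝔜.IsFormal) (𝔐 : FSch.ModSys 𝔜)

/-- The map to the direct image of a level of the inverse image system. -/
def lvPullHom (k : ℕ) : 𝔐.realMod hY ⟶
    (FSch.pushF φ hX hY).obj ((FSch.levelMor 𝔛 hX k).push.obj ((FSch.ModSys.pullback φ 𝔐).F k)) :=
  FSch.realProj 𝔜 hY 𝔐.F 𝔐.toPush k ≫
    (FSch.levelMor 𝔜 hY k).push.map ((ModSite.RMor.ofScheme ((φ : FSch.Hom 𝔛 𝔜).app k)).adj.unit.app (𝔐.F k)) ≫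
    (FSch.lvPushSq φ hX hY k).inv.app ((FSch.ModSys.pullback φ 𝔐).F k)

/-- A section of a level moved to the inverse image. -/
def secPull (k : ℕ) (U : (𝔜.X 0).Opens) (m : LM hY 𝔐 U k) :
    LM hX (FSch.ModSys.pullback φ 𝔐) (((φ : FSch.Hom 𝔛 𝔜).app 0) ⁻¹ᵁ U) k :=
  PullbackMod.pullMap ((φ : FSch.Hom 𝔛 𝔜).app k) (𝔐.F k) (FSch.Hom.lvU_preimage φ hX hY k U).ge m

lemma lvPullHom_app (k : ℕ) (U : (𝔜.X 0).Opens) (x : OM hY 𝔐 U) :
    (show LM hX (FSch.ModSys.pullback φ 𝔐) (((φ : FSch.Hom 𝔛 𝔜).app 0) ⁻¹ᵁ U) k from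
      ((lvPullHom φ hX hY 𝔐 k).val.app (op U)).hom x) = secPull φ hX hY 𝔐 k U (pm hY 𝔐 U k x) := rfl

lemma secPull_compat (k : ℕ) (U : (𝔜.X 0).Opens) (m : LM hY 𝔐 U (k + 1)) :
    tm hX (FSch.ModSys.pullback φ 𝔐) (((φ : FSch.Hom 𝔛 𝔜).app 0) ⁻¹ᵁ U) k (secPull φ hX hY 𝔐 (k + 1) U m) =
      secPull φ hX hY 𝔐 k U (tm hY 𝔐 U k m) := by
  let f := fun n => (φ : FSch.Hom 𝔛 𝔜).app n
  let V := f 0 ⁻¹ᵁ U
  let w := secPull φ hX hY 𝔐 (k + 1) U m
  let c : 𝔛.ι k ≫ f (k + 1) = f k ≫ 𝔜.ι k := ((φ : FSch.Hom 𝔛 𝔜).comm k).symm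
  -- transitions as inverse images
  have hT : ∀ (Z : FSch.Sys.{u}) (hZ : Z.IsFormal) (𝔑 : FSch.ModSys Z) (W : (Z.X 0).Opens)
      (y : LM hZ 𝔑 W (k + 1)), tm hZ 𝔑 W k y =
        (𝔑.e k).hom.app _ (PullbackMod.pullMap (Z.ι k) (𝔑.F (k + 1)) (Z.lvU_le hZ k W) y) := by
    intro Z hZ 𝔑 W y
    show (𝔑.F k).presheaf.map (homOfLE (Z.lvU_le hZ k W)).op ((𝔑.toPush k).app (Z.lvU hZ (k + 1) W) y) = _
    rw [FSch.ModSys.toPush, Adjunction.homEquiv_unit]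
    exact (congr($((𝔑.e k).hom.mapPresheaf.naturality (homOfLE (Z.lvU_le hZ k W)).op)
      (((Scheme.Modules.pullbackPushforwardAdjunction (Z.ι k)).unit.app (𝔑.F (k + 1))).app
        (Z.lvU hZ (k + 1) W) y))).symm
  rw [hT, hT]
  let e₃ : 𝔛.lvU hX k V ≤ (f k ≫ 𝔜.ι k) ⁻¹ᵁ 𝔜.lvU hY (k + 1) U :=
    ((FSch.Hom.lvU_preimage φ hX hY k U).ge).trans (Scheme.Hom.preimage_mono _ (𝔜.lvU_le hY k U))
  let z := PullbackMod.pullMap (f k) _ (FSch.Hom.lvU_preimage φ hX hY k U).ge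
    (PullbackMod.pullMap (𝔜.ι k) (𝔐.F (k + 1)) (𝔜.lvU_le hY k U) m)
  have h1 := pullMap_comp c (𝔐.F (k + 1)) (FSch.Hom.lvU_preimage φ hX hY (k + 1) U).ge (𝔛.lvU_le hX k V) e₃ m
  have h2 := pullMap_comp (rfl : f k ≫ 𝔜.ι k = _) (𝔐.F (k + 1)) (𝔜.lvU_le hY k U)
    (FSch.Hom.lvU_preimage φ hX hY k U).ge e₃ m
  simp only [Scheme.Modules.pullbackCongr, eqToIso_refl, Iso.refl_hom, NatTrans.id_app, Category.comp_id] at h2
  have h3 : (FSch.ModSys.pullTrans φ k (𝔐.F (k + 1))).hom.app (𝔛.lvU hX k V)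
      (PullbackMod.pullMap (𝔛.ι k) _ (𝔛.lvU_le hX k V) w) = z := by
    refine (congrArg (((Scheme.Modules.pullbackComp (f k) (𝔜.ι k)).inv.app (𝔐.F (k + 1))).app (𝔛.lvU hX k V))
      (h1.trans h2.symm)).trans ?_
    exact congr(($((Scheme.Modules.pullbackComp (f k) (𝔜.ι k)).hom_inv_id_app (𝔐.F (k + 1)))).app _ z)
  refine (congrArg (((Scheme.Modules.pullback (f k)).map (𝔐.e k).hom).app (𝔛.lvU hX k V)) h3).trans ?_
  exact PullbackMod.pullMap_natural _ _ _ _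

/-- The cone defining the comparison map. -/
def pullCone : Cone (FSch.levelSysOf 𝔛 hX (FSch.ModSys.pullback φ 𝔐).F (FSch.ModSys.pullback φ 𝔐).toPush ⋙
    FSch.pushF φ hX hY) where
  pt := 𝔐.realMod hY
  π := NatTrans.ofOpSequence (lvPullHom φ hX hY 𝔐) fun k => by
    refine (Category.id_comp _).trans ?_
    rw [Functor.comp_map, FSch.levelSysOf_map_succ]
    ext U x
    refine Eq.trans ?_ (show tm hX (FSch.ModSys.pullback φ 𝔐) (((φ : FSch.Hom 𝔛 𝔜).app 0) ⁻¹ᵁ U.unop) k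
      (show LM hX (FSch.ModSys.pullback φ 𝔐) (((φ : FSch.Hom 𝔛 𝔜).app 0) ⁻¹ᵁ U.unop) (k + 1) from
        ((lvPullHom φ hX hY 𝔐 (k + 1)).val.app U).hom x) = _ from rfl)
    refine Eq.trans ?_ (congrArg (tm hX (FSch.ModSys.pullback φ 𝔐) _ k)
      (lvPullHom_app φ hX hY 𝔐 (k + 1) U.unop x)).symm
    refine Eq.trans ?_ (secPull_compat φ hX hY 𝔐 k U.unop _).symm
    rw [tm_pm]
    exact lvPullHom_app φ hX hY 𝔐 k U.unop x

/-- The comparison map. -/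
def pullCmp : (FSch.pullF φ hX hY).obj (𝔐.realMod hY) ⟶ (FSch.ModSys.pullback φ 𝔐).realMod hX :=
  ((FSch.homMor φ hX hY).adj.homEquiv _ _).symm
    ((isLimitOfPreserves (FSch.pushF φ hX hY) (limit.isLimit (FSch.levelSysOf 𝔛 hX (FSch.ModSys.pullback φ 𝔐).F
      (FSch.ModSys.pullback φ 𝔐).toPush))).lift (pullCone φ hX hY 𝔐))

lemma pullCmp_proj (k : ℕ) :
    (FSch.homMor φ hX hY).adj.homEquiv _ _ (pullCmp φ hX hY 𝔐) ≫
      (FSch.pushF φ hX hY).map (FSch.realProj 𝔛 hX (FSch.ModSys.pullback φ 𝔐).F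
        (FSch.ModSys.pullback φ 𝔐).toPush k) = lvPullHom φ hX hY 𝔐 k := by
  rw [pullCmp]
  refine (congrArg (· ≫ _) (Equiv.apply_symm_apply _ _)).trans ?_
  exact (isLimitOfPreserves (FSch.pushF φ hX hY) (limit.isLimit (FSch.levelSysOf 𝔛 hX (FSch.ModSys.pullback φ 𝔐).F
    (FSch.ModSys.pullback φ 𝔐).toPush))).fac (pullCone φ hX hY 𝔐) (op k)

theorem pullCmp_isIso (hLX : 𝔛.IsLocNoethFormal) (hLY : 𝔜.IsLocNoethFormal) (h𝔐 : 𝔐.IsCoh) :
    IsIso (pullCmp φ hX hY 𝔐) := by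
  have hP : (FSch.ModSys.pullback φ 𝔐).IsCoh := fun n => by
    haveI := hLX.2.2 n
    haveI := hLY.2.2 n
    exact PullbackMod.isCoh_pullback _ _ (h𝔐 n)
  let b := FSch.homMor φ hX hY
  haveI : SheafOfModules.IsFinitePresentation (R := ModSite.ringSh (𝔜.Osh hY)) (𝔐.realMod hY) :=
    isCohF_of_affine _ fun U hU => hasRels_realMod 𝔐 hLY h𝔐 hU
  refine isIso_of_pull _ hLX (PullFlat.isFinitePresentation_pull b (F := 𝔐.realMod hY))
    (isCohF_of_affine _ fun U hU => hasRels_realMod _ hLX hP hU) fun k => ?_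
  let a := FSch.levelMor 𝔛 hX k
  let d := FSch.levelMor 𝔜 hY k
  let c := ModSite.RMor.ofScheme ((φ : FSch.Hom 𝔛 𝔜).app k)
  let S : c.push ⋙ d.push ≅ a.push ⋙ b.push := (FSch.lvPushSq φ hX hY k).symm
  let A := (d.adj.comp c.adj).ofNatIsoRight S
  let B := b.adj.comp a.adj
  let L := B.leftAdjointUniq A
  let β' := (d.adj.homEquiv _ _).symm (FSch.realProj 𝔜 hY 𝔐.F 𝔐.toPush k)
  haveI : IsIso β' := isIso_symm_realProj 𝔐 hLY h𝔐 k
  let α : a.pull.obj (b.pull.obj (𝔐.realMod hY)) ⟶ (FSch.ModSys.pullback φ 𝔐).F k :=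
    L.hom.app _ ≫ c.pull.map β'
  haveI : IsIso α := inferInstance
  let β := (a.adj.homEquiv _ _).symm (FSch.realProj 𝔛 hX (FSch.ModSys.pullback φ 𝔐).F
    (FSch.ModSys.pullback φ 𝔐).toPush k)
  haveI : IsIso β := isIso_symm_realProj _ hLX hP k
  suffices e : a.pull.map (pullCmp φ hX hY 𝔐) ≫ β = α by
    haveI : IsIso (a.pull.map (pullCmp φ hX hY 𝔐) ≫ β) := by rw [e]; infer_instance
    exact IsIso.of_isIso_comp_right (a.pull.map (pullCmp φ hX hY 𝔐)) β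
  apply (a.adj.homEquiv _ _).injective
  rw [Adjunction.homEquiv_naturality_left]
  refine (congrArg (pullCmp φ hX hY 𝔐 ≫ ·) (Equiv.apply_symm_apply (a.adj.homEquiv _ _) _)).trans ?_
  apply (b.adj.homEquiv _ _).injective
  rw [Adjunction.homEquiv_naturality_right]
  refine (pullCmp_proj φ hX hY 𝔐 k).trans ?_
  have h1 : b.adj.homEquiv _ _ (a.adj.homEquiv _ _ α) = B.homEquiv _ _ α := by
    rw [Adjunction.comp_homEquiv]
    rfl
  have h2 : B.homEquiv _ _ α = A.homEquiv _ _ (c.pull.map β') := by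
    rw [Adjunction.homEquiv_unit, Adjunction.homEquiv_unit, Functor.map_comp, ← Category.assoc,
      Adjunction.unit_leftAdjointUniq_hom_app]
    rfl
  have h3 : A.homEquiv _ _ (c.pull.map β') = d.adj.homEquiv _ _ (c.adj.homEquiv _ _ (c.pull.map β')) ≫
      S.hom.app _ := by
    have hn := S.hom.naturality (c.pull.map β')
    simp only [Functor.comp_map] at hn
    simp only [A, Adjunction.ofNatIsoRight, Adjunction.homEquiv_unit, Adjunction.comp_unit_app,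
      NatTrans.comp_app, Functor.whiskerLeft_app, Functor.comp_map, Functor.map_comp, Category.assoc]
    exact congrArg (d.adj.unit.app _ ≫ ·) (congrArg (d.push.map (c.adj.unit.app _) ≫ ·) hn.symm)
  rw [h1, h2, h3, ← Category.comp_id (c.pull.map β'), Adjunction.homEquiv_naturality_left,
    Adjunction.homEquiv_id, Adjunction.homEquiv_naturality_right]
  refine Eq.trans ?_ (congrArg (fun z => (z ≫ d.push.map (c.adj.unit.app (𝔐.F k))) ≫ S.hom.app _)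
    (Equiv.apply_symm_apply (d.adj.homEquiv _ _) (FSch.realProj 𝔜 hY 𝔐.F 𝔐.toPush k))).symm
  exact (Category.assoc _ _ _).symm

theorem exists_pullReal_iso (hLX : 𝔛.IsLocNoethFormal) (hLY : 𝔜.IsLocNoethFormal) (h𝔐 : 𝔐.IsCoh) :
    ∃ e : (FSch.pullF φ hX hY).obj (𝔐.realMod hY) ≅ (FSch.ModSys.pullback φ 𝔐).realMod hX,
      ∀ k : ℕ, (FSch.homMor φ hX hY).adj.homEquiv _ _ e.hom ≫
          (FSch.pushF φ hX hY).map (FSch.realProj 𝔛 hX _ _ k) ≫
          (FSch.lvPushSq φ hX hY k).hom.app ((FSch.ModSys.pullback φ 𝔐).F k) =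
        FSch.realProj 𝔜 hY _ _ k ≫
          (FSch.levelMor 𝔜 hY k).push.map
            ((ModSite.RMor.ofScheme ((φ : FSch.Hom 𝔛 𝔜).app k)).adj.unit.app (𝔐.F k)) := by
  haveI := pullCmp_isIso φ hX hY 𝔐 hLX hLY h𝔐
  refine ⟨asIso (pullCmp φ hX hY 𝔐), fun k => ?_⟩
  refine (Category.assoc _ _ _).symm.trans ?_
  refine (congrArg (· ≫ (FSch.lvPushSq φ hX hY k).hom.app ((FSch.ModSys.pullback φ 𝔐).F k))
    (pullCmp_proj φ hX hY 𝔐 k)).trans ?_
  rw [lvPullHom, Category.assoc, Category.assoc, Iso.inv_hom_id_app]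
  exact congrArg (_ ≫ ·) (Category.comp_id _)

end Groth.Agent.FCompl
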