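import Groth.Agent.FComplLib.QCSections
import Groth.Agent.FPLocal.OpensPt

/-!
# Morphisms given on local generators
-/

set_option autoImplicit false
set_option linter.style.haveILetI false
set_option linter.unusedVariables false
set_option backward.isDefEq.respectTransparency false
set_option backward.isDefEq.respectTransparency.types false
set_option maxHeartbeats 1000000
universe u

open CategoryTheory CategoryTheory.Limits AlgebraicGeometry TopologicalSpace Opposite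

noncomputable section

namespace Groth.Agent.FCompl

variable {𝔛 : FSch.Sys.{u}} {h : 𝔛.IsFormal}

/-- Restriction of sections. -/
abbrev rsF (M : FSch.ModF 𝔛 h) {A B : (𝔛.X 0).Opens} (hBA : B ≤ A) :
    M.val.obj (op A) →+ M.val.obj (op B) :=
  FPLocal.mres M (homOfLE hBA).op

lemma rsF_rsF (M : FSch.ModF 𝔛 h) {A B C : (𝔛.X 0).Opens} (hBA : B ≤ A) (hCB : C ≤ B) (x : M.val.obj (op A)) :
    rsF M hCB (rsF M hBA x) = rsF M (hCB.trans hBA) x :=
  (FPLocal.mres_comp (M := M) (homOfLE hBA).op (homOfLE hCB).op x).symm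

lemma app_rsF {M N : FSch.ModF 𝔛 h} (θ : M ⟶ N) {A B : (𝔛.X 0).Opens} (hBA : B ≤ A) (x : M.val.obj (op A)) :
    (θ.val.app (op B)).hom (rsF M hBA x) = rsF N hBA ((θ.val.app (op A)).hom x) :=
  PresheafOfModules.naturality_apply θ.val (homOfLE hBA).op x

lemma rsF_comb (M : FSch.ModF 𝔛 h) {A B C : (𝔛.X 0).Opens} (hBA : B ≤ A) (hAC : A ≤ C) {I : Type u} [Fintype I]
    (d : I → OR 𝔛 h A) (s : I → M.val.obj (op C)) :
    rsF M hBA (∑ i, d i • rsF M hAC (s i)) = ∑ i, rsO 𝔛 h hBA (d i) • rsF M (hBA.trans hAC) (s i) := by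
  rw [map_sum]
  refine Finset.sum_congr rfl fun i _ => ?_
  rw [rsF, mres_smul' hBA]
  exact congrArg (rsO 𝔛 h hBA (d i) • ·) (rsF_rsF M hAC hBA (s i))

/-- A section is zero when it is zero near every point. -/
lemma eq_of_near (M : FSch.ModF 𝔛 h) {W : (𝔛.X 0).Opens} {m n : M.val.obj (op W)}
    (H : ∀ x ∈ W, ∃ (Z : (𝔛.X 0).Opens) (hZ : Z ≤ W), x ∈ Z ∧ rsF M hZ m = rsF M hZ n) : m = n := by
  choose Z hZ hx he using H
  let WW : ↥W → (𝔛.X 0).Opens := fun x => Z x.1 x.2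
  exact FPLocal.eq_of_cover M WW (fun x => homOfLE (hZ x.1 x.2))
    (fun x hxW => ⟨⟨x, hxW⟩, hx x hxW⟩) fun x => he x.1 x.2

variable {C N : FSch.ModF 𝔛 h} {A : Type u} {U : A → (𝔛.X 0).Opens} {I : A → Type u} [∀ a, Fintype (I a)]
  (s : ∀ a, I a → C.val.obj (op (U a))) (t : ∀ a, I a → N.val.obj (op (U a)))

/-- Two combinations of generators with the same value have the same value on the targets. -/
def Compat : Prop :=
  ∀ a b ⦃W : (𝔛.X 0).Opens⦄ (ha : W ≤ U a) (hb : W ≤ U b) (d : I a → OR 𝔛 h W) (d' : I b → OR 𝔛 h W),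
    ∑ i, d i • rsF C ha (s a i) = ∑ i, d' i • rsF C hb (s b i) →
    ∑ i, d i • rsF N ha (t a i) = ∑ i, d' i • rsF N hb (t b i)

/-- The value at `m` is `n`. -/
def IsVal {W : (𝔛.X 0).Opens} (m : C.val.obj (op W)) (n : N.val.obj (op W)) : Prop :=
  ∀ a ⦃Z : (𝔛.X 0).Opens⦄ (hZ : Z ≤ W) (ha : Z ≤ U a) (d : I a → OR 𝔛 h Z),
    ∑ i, d i • rsF C ha (s a i) = rsF C hZ m → ∑ i, d i • rsF N ha (t a i) = rsF N hZ n

variable {s t} (hcov : ∀ x : 𝔛.X 0, ∃ a, x ∈ U a) (hs : ∀ a, FPLocal.Gen C (s a)) (hc : Compat s t)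

include hcov hs in
lemma exists_combo {W : (𝔛.X 0).Opens} (m : C.val.obj (op W)) {x : 𝔛.X 0} (hx : x ∈ W) :
    ∃ (a : A) (Z : (𝔛.X 0).Opens) (hZ : Z ≤ W) (ha : Z ≤ U a) (d : I a → OR 𝔛 h Z), x ∈ Z ∧
      ∑ i, d i • rsF C ha (s a i) = rsF C hZ m := by
  obtain ⟨a, hxa⟩ := hcov x
  obtain ⟨S, hS, hS'⟩ := hs a (homOfLE (inf_le_right : W ⊓ U a ≤ U a)) (rsF C inf_le_left m)
  obtain ⟨Z, g, hg, hxZ⟩ := (Opens.mem_grothendieckTopology _).1 hS x ⟨hx, hxa⟩
  obtain ⟨d, hd⟩ := hS' g hg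
  refine ⟨a, Z, (leOfHom g).trans inf_le_left, (leOfHom g).trans inf_le_right, d, hxZ, hd.trans ?_⟩
  exact rsF_rsF C inf_le_left (leOfHom g) m

include hcov hs hc in
lemma exists_val {W : (𝔛.X 0).Opens} (m : C.val.obj (op W)) : ∃ n, IsVal s t m n := by
  choose a Z hZ ha d hxZ hd using fun x : W => exists_combo hcov hs m x.2
  have hsh : TopCat.Presheaf.IsSheaf (C := AddCommGrpCat.{u}) (X := (𝔛.X 0).carrier) N.val.presheaf := N.isSheaf
  let G : TopCat.Sheaf AddCommGrpCat.{u} (𝔛.X 0).carrier := ⟨_, hsh⟩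
  obtain ⟨n, hn, -⟩ := TopCat.Sheaf.existsUnique_gluing' G Z W (fun x => homOfLE (hZ x))
    (fun x hx => Opens.mem_iSup.2 ⟨⟨x, hx⟩, hxZ ⟨x, hx⟩⟩) (fun x => ∑ i, d x i • rsF N (ha x) (t (a x) i))
    fun x y => by
      show rsF N inf_le_left _ = rsF N inf_le_right _
      rw [rsF_comb N inf_le_left (ha x), rsF_comb N inf_le_right (ha y)]
      refine hc _ _ _ _ _ _ ?_
      rw [← rsF_comb C inf_le_left (ha x), ← rsF_comb C inf_le_right (ha y), hd, hd, rsF_rsF, rsF_rsF]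
  refine ⟨n, fun b Y hY hb e he => eq_of_near N fun x hxY => ?_⟩
  refine ⟨Y ⊓ Z ⟨x, hY hxY⟩, inf_le_left, ⟨hxY, hxZ _⟩, ?_⟩
  have hn' : rsF N (hZ ⟨x, hY hxY⟩) n = _ := hn ⟨x, hY hxY⟩
  rw [rsF_rsF N hY inf_le_left, ← rsF_rsF N (hZ ⟨x, hY hxY⟩) inf_le_right n, hn', rsF_comb N inf_le_left hb, rsF_comb N inf_le_right (ha ⟨x, hY hxY⟩)]
  refine hc _ _ _ _ _ _ ?_
  rw [← rsF_comb C inf_le_left hb, ← rsF_comb C inf_le_right (ha ⟨x, hY hxY⟩), he, hd, rsF_rsF, rsF_rsF]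

include hcov hs in
lemma val_unique {W : (𝔛.X 0).Opens} {m : C.val.obj (op W)} {n n' : N.val.obj (op W)} (H : IsVal s t m n)
    (H' : IsVal s t m n') : n = n' :=
  eq_of_near N fun x hx => by
    obtain ⟨a, Z, hZ, ha, d, hxZ, hd⟩ := exists_combo hcov hs m hx
    exact ⟨Z, hZ, hxZ, (H a hZ ha d hd).symm.trans (H' a hZ ha d hd)⟩

lemma isVal_res {W W' : (𝔛.X 0).Opens} (hW : W' ≤ W) {m : C.val.obj (op W)} {n : N.val.obj (op W)}
    (H : IsVal s t m n) : IsVal s t (rsF C hW m) (rsF N hW n) := fun a Z hZ ha d hd => by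
  rw [rsF_rsF] at hd ⊢
  exact H a _ ha d hd

include hcov hs hc in
lemma isVal_add {W : (𝔛.X 0).Opens} {m m' : C.val.obj (op W)} {n n' : N.val.obj (op W)} (H : IsVal s t m n)
    (H' : IsVal s t m' n') : IsVal s t (m + m') (n + n') := fun a Z hZ ha d hd => by
  refine eq_of_near N fun x hx => ?_
  obtain ⟨b, Y, hY, hb, e, hxY, he⟩ := exists_combo hcov hs (rsF C hZ m) hx
  obtain ⟨b', Y', hY', hb', e', hxY', he'⟩ := exists_combo hcov hs (rsF C (hY.trans hZ) m') hxY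
  refine ⟨Y', hY'.trans hY, hxY', ?_⟩
  have e1 : ∑ i, rsO 𝔛 h hY' (e i) • rsF C (hY'.trans hb) (s b i) = rsF C ((hY'.trans hY).trans hZ) m := by
    rw [← rsF_comb C hY' hb, he, rsF_rsF, rsF_rsF]
  have e2 : ∑ i, e' i • rsF C hb' (s b' i) = rsF C ((hY'.trans hY).trans hZ) m' := by rw [he', rsF_rsF]
  let dd : I a → OR 𝔛 h Y' := fun i => rsO 𝔛 h (hY'.trans hY) (d i)
  have e3 : ∑ i, dd i • rsF C ((hY'.trans hY).trans ha) (s a i) = rsF C ((hY'.trans hY).trans hZ) (m + m') := by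
    rw [← rsF_comb C (hY'.trans hY) ha, hd, rsF_rsF]
  rw [rsF_comb N (hY'.trans hY) ha, rsF_rsF N hZ, map_add, ← H b _ _ _ e1, ← H' b' _ _ _ e2]
  -- compare on a finer cover by the generators of the chart `a`
  refine eq_of_near N fun y hy => ?_
  obtain ⟨S, hS, hS'⟩ := hs a (homOfLE ((hY'.trans hY).trans ha)) (rsF C ((hY'.trans hY).trans hZ) m)
  obtain ⟨V, g, hg, hyV⟩ := (Opens.mem_grothendieckTopology _).1 hS y hy
  obtain ⟨f₀, hf⟩ := hS' g hg
  let f : I a → OR 𝔛 h V := f₀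
  have hf' : ∑ i, f i • rsF C ((leOfHom g).trans ((hY'.trans hY).trans ha)) (s a i) =
      rsF C ((leOfHom g).trans ((hY'.trans hY).trans hZ)) m := hf.trans (rsF_rsF C _ (leOfHom g) m)
  refine ⟨V, leOfHom g, hyV, ?_⟩
  rw [map_add, rsF_comb N (leOfHom g) ((hY'.trans hY).trans ha), rsF_comb N (leOfHom g) (hY'.trans hb),
    rsF_comb N (leOfHom g) hb']
  have f1 := hc a b ((leOfHom g).trans ((hY'.trans hY).trans ha)) ((leOfHom g).trans (hY'.trans hb)) f
    (fun i => rsO 𝔛 h (leOfHom g) (rsO 𝔛 h hY' (e i))) (by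
      rw [hf', ← rsF_comb C (leOfHom g) (hY'.trans hb), e1, rsF_rsF])
  have f2 := hc a b' ((leOfHom g).trans ((hY'.trans hY).trans ha)) ((leOfHom g).trans hb')
    (fun i => rsO 𝔛 h (leOfHom g) (dd i) - f i) (fun i => rsO 𝔛 h (leOfHom g) (e' i)) (by
      simp only [sub_smul, Finset.sum_sub_distrib]
      rw [hf', ← rsF_comb C (leOfHom g) ((hY'.trans hY).trans ha), ← rsF_comb C (leOfHom g) hb', e3, e2, map_add,
        map_add, rsF_rsF, rsF_rsF, add_sub_cancel_left])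
  rw [← f1, ← f2]
  simp only [sub_smul, Finset.sum_sub_distrib]
  exact (add_sub_cancel _ _).symm

include hcov hs hc in
lemma isVal_smul {W : (𝔛.X 0).Opens} (r : OR 𝔛 h W) {m : C.val.obj (op W)} {n : N.val.obj (op W)}
    (H : IsVal s t m n) : IsVal s t (r • m) (r • n) := fun a Z hZ ha d hd => by
  refine eq_of_near N fun x hx => ?_
  obtain ⟨b, Y, hY, hb, e, hxY, he⟩ := exists_combo hcov hs (rsF C hZ m) hx
  refine ⟨Y, hY, hxY, ?_⟩
  have e1 : ∑ i, e i • rsF C hb (s b i) = rsF C (hY.trans hZ) m := by rw [he, rsF_rsF]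
  rw [rsF_comb N hY ha, rsF_rsF N hZ, show rsF N (hY.trans hZ) (r • n) = _ from mres_smul' (hY.trans hZ) r n,
    show FPLocal.mres N (homOfLE (hY.trans hZ)).op n = rsF N (hY.trans hZ) n from rfl, ← H b _ _ _ e1, Finset.smul_sum]
  simp only [← mul_smul]
  refine hc a b _ _ _ _ ?_
  simp only [mul_smul]
  rw [← Finset.smul_sum, e1, ← rsF_comb C hY ha, hd, rsF_rsF]
  exact mres_smul' (hY.trans hZ) r m

/-- A morphism exists with prescribed values on compatible local generators. -/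
theorem exists_hom_of_gens (hcov : ∀ x : 𝔛.X 0, ∃ a, x ∈ U a) (hs : ∀ a, FPLocal.Gen C (s a)) (hc : Compat s t) :
    ∃ σ : C ⟶ N, ∀ a i, (σ.val.app (op (U a))).hom (s a i) = t a i := by
  classical
  choose v hv using fun (W : (𝔛.X 0).Opens) (m : C.val.obj (op W)) => exists_val hcov hs hc m
  let p : C.val.presheaf ⟶ N.val.presheaf :=
    { app := fun W => AddCommGrpCat.ofHom (AddMonoidHom.mk' (v W.unop) fun m m' =>
        val_unique hcov hs (hv _ _) (isVal_add hcov hs hc (hv _ m) (hv _ m')))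
      naturality := fun A B f => by
        ext m
        exact val_unique hcov hs (hv B.unop _) (isVal_res (leOfHom f.unop) (hv A.unop m)) }
  let σ : C ⟶ N := ⟨PresheafOfModules.homMk p fun W r m =>
    val_unique hcov hs (hv _ _) (isVal_smul hcov hs hc r (hv W.unop m))⟩
  refine ⟨σ, fun a i => ?_⟩
  show v (U a) (s a i) = t a i
  have e := hv (U a) (s a i) a le_rfl le_rfl (fun j => if j = i then 1 else 0)
  have h1 : ∀ (M : FSch.ModF 𝔛 h) (z : I a → M.val.obj (op (U a))),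
      ∑ j, (if j = i then (1 : OR 𝔛 h (U a)) else 0) • rsF M le_rfl (z j) = rsF M le_rfl (z i) := fun M z =>
    (Finset.sum_eq_single i (fun j _ hj => by rw [if_neg hj, zero_smul]) fun hi => absurd (Finset.mem_univ i) hi).trans
      ((congrArg (· • rsF M le_rfl (z i)) (if_pos rfl)).trans (one_smul _ _))
  have e' := e (h1 C (s a))
  rw [h1 N (t a)] at e'
  refine Eq.trans ?_ (Eq.trans e'.symm ?_)
  · exact (FPLocal.mres_id (M := N) _).symm
  · exact FPLocal.mres_id (M := N) _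

/-- Morphisms agreeing on local generators are equal. -/
theorem hom_ext_of_gens {f g : C ⟶ N} (hcov : ∀ x : 𝔛.X 0, ∃ a, x ∈ U a) (hs : ∀ a, FPLocal.Gen C (s a))
    (H : ∀ a i, (f.val.app (op (U a))).hom (s a i) = (g.val.app (op (U a))).hom (s a i)) : f = g := by
  ext W m
  refine eq_of_near N fun x hx => ?_
  obtain ⟨a, Z, hZ, ha, d, hxZ, hd⟩ := exists_combo hcov hs m hx
  refine ⟨Z, hZ, hxZ, ?_⟩
  refine (app_rsF f hZ m).symm.trans (Eq.trans ?_ (app_rsF g hZ m))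
  rw [← hd, map_sum, map_sum]
  refine Finset.sum_congr rfl fun i _ => ?_
  rw [map_smul, map_smul, app_rsF, app_rsF, H]

end Groth.Agent.FCompl
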