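import Groth.Agent.FComplLib.QCColimit
import Mathlib.CategoryTheory.ObjectProperty.ColimitsOfShape

/-!
# A quasi-coherent module generated by coherent modules is the union of coherent submodules
-/

set_option autoImplicit false
set_option linter.style.haveILetI false
set_option linter.unusedVariables false
set_option backward.isDefEq.respectTransparency false
set_option backward.isDefEq.respectTransparency.types false
set_option maxHeartbeats 4000000
universe u

open CategoryTheory CategoryTheory.Limits AlgebraicGeometry TopologicalSpace Opposite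

noncomputable section

namespace Groth.Agent.FCompl

variable {𝔛 : FSch.Sys.{u}} {h : 𝔛.IsFormal} {𝔉 : FSch.ModF 𝔛 h} {A : Type u} {C : A → FSch.ModF 𝔛 h}
  (f : ∀ a, C a ⟶ 𝔉)

/-- The map from a finite coproduct. -/
def finMap (S : Finset A) : (∐ fun a : ↥S => C a.1) ⟶ 𝔉 := Sigma.desc fun a => f a.1

lemma image_ι_comp_π {S T : Finset A} (hST : S ≤ T) :
    Abelian.image.ι (finMap f S) ≫ cokernel.π (finMap f T) = 0 := by
  rw [← cancel_epi (Abelian.factorThruImage (finMap f S)), comp_zero, ← Category.assoc, Abelian.image.fac]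
  refine Sigma.hom_ext _ _ fun a => ?_
  have e := congrArg (Sigma.ι (fun a : ↥T => C a.1) ⟨a.1, hST a.2⟩ ≫ ·) (cokernel.condition (finMap f T))
  simp only [finMap, Sigma.ι_desc_assoc, comp_zero] at e ⊢
  exact e

/-- The diagram of the submodules generated by finitely many maps. -/
def finDiag : Finset A ⥤ FSch.ModF 𝔛 h where
  obj S := Abelian.image (finMap f S)
  map {S T} hST := kernel.lift _ (Abelian.image.ι (finMap f S)) (image_ι_comp_π f (leOfHom hST))
  map_id S := by
    rw [← cancel_mono (Abelian.image.ι (finMap f S))]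
    exact (kernel.lift_ι _ _ _).trans (Category.id_comp _).symm
  map_comp {S T R} a b := by
    rw [← cancel_mono (Abelian.image.ι (finMap f R)), Category.assoc]
    refine (kernel.lift_ι _ _ _).trans ?_
    exact ((congrArg (_ ≫ ·) (kernel.lift_ι _ _ _)).trans (kernel.lift_ι _ _ _)).symm

/-- The inclusions of the submodules. -/
def finCocone : Cocone (finDiag f) where
  pt := 𝔉
  ι := { app := fun S => Abelian.image.ι (finMap f S)
         naturality := fun S T a => (kernel.lift_ι _ _ _).trans (Category.comp_id _).symm }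

theorem isIso_finDesc [Epi (Sigma.desc f)] : IsIso (colimit.desc (finDiag f) (finCocone f)) := by
  classical
  let d := colimit.desc (finDiag f) (finCocone f)
  haveI : Mono d := by
    refine FPLocal.mono_of_locally_zero d fun V m hm => ?_
    refine (FPLocal.locally_exists_rep (colimit.isColimit (finDiag f)) m).mono fun W g hg => ?_
    obtain ⟨S, y, hy⟩ := hg
    have h1 : ((Abelian.image.ι (finMap f S)).val.app (op W)).hom y = 0 := by
      have h2 : (d.val.app (op W)).hom (((colimit.ι (finDiag f) S).val.app (op W)).hom y) = 0 := by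
        refine (congrArg (d.val.app (op W)).hom hy).trans ?_
        exact (FPLocal.app_mres d g m).trans ((congrArg (FPLocal.mres _ g.op) hm).trans (map_zero _))
      refine Eq.trans ?_ h2
      exact congrArg (fun p : (finDiag f).obj S ⟶ 𝔉 => (p.val.app (op W)).hom y)
        (colimit.ι_desc (finCocone f) S).symm
    rw [show y = 0 from FPLocal.app_injective_of_mono (Abelian.image.ι (finMap f S)) W (h1.trans (map_zero _).symm)] at hy
    exact hy.symm.trans (map_zero _)
  haveI : Epi d := by
    let s : (∐ C) ⟶ colimit (finDiag f) := Sigma.desc fun a =>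
      Sigma.ι (fun b : ↥({a} : Finset A) => C b.1) ⟨a, Finset.mem_singleton_self a⟩ ≫
        Abelian.factorThruImage (finMap f {a}) ≫ colimit.ι (finDiag f) {a}
    have e : s ≫ d = Sigma.desc f := Sigma.hom_ext _ _ fun a => by
      simp only [s, d, Sigma.ι_desc_assoc, Category.assoc, colimit.ι_desc]
      show _ ≫ _ ≫ Abelian.image.ι (finMap f {a}) = _
      rw [Abelian.image.fac, finMap, Sigma.ι_desc]
      rfl
    haveI : Epi (s ≫ d) := by rw [e]; infer_instance
    exact epi_of_epi s d
  exact isIso_of_mono_of_epi _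

/-- The colimit presentation by coherent submodules. -/
def finPres [Epi (Sigma.desc f)] : ColimitPresentation (Finset A) 𝔉 where
  diag := finDiag f
  ι := (finCocone f).ι
  isColimit := by
    haveI : IsIso ((colimit.isColimit (finDiag f)).desc (finCocone f)) := isIso_finDesc f
    exact (colimit.isColimit (finDiag f)).ofPointIso (t := finCocone f)

/-- A quasi-coherent module generated by coherent modules is a filtered union of coherent submodules. -/
theorem exists_presentation_of_family (hL : 𝔛.IsLocNoethFormal) [SheafOfModules.IsQuasicoherent.{u} 𝔉]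
    (hC : ∀ a, FSch.IsCohF 𝔛 h (C a)) (hf : Epi (Sigma.desc f)) :
    ∃ (J : Type u) (_ : SmallCategory J) (_ : IsFiltered J) (pres : ColimitPresentation J 𝔉),
      (∀ j : J, FSch.IsCohF 𝔛 h (pres.diag.obj j)) ∧ ∀ j : J, Mono (pres.ι.app j) := by
  classical
  refine ⟨Finset A, inferInstance, inferInstance, finPres f, fun S => ?_,
    fun S => inferInstanceAs (Mono (Abelian.image.ι (finMap f S)))⟩
  have hS := isCohF_sigma hL (fun a : ↥S => C a.1) fun a => hC a.1
  haveI : SheafOfModules.IsFinitePresentation (R := ModSite.ringSh (𝔛.Osh h)) (∐ fun a : ↥S => C a.1) := hS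
  haveI : SheafOfModules.IsQuasicoherent.{u} (∐ fun a : ↥S => C a.1) := (affQC_of_coh hL hS).isQuasicoherent
  haveI := isQuasicoherent_image (finMap f S) hL
  haveI := isFiniteType_of_epi (Abelian.factorThruImage (finMap f S))
  exact isCohF_of_qc_ft hL (Abelian.image (finMap f S))

/-- A filtered colimit of coherent modules is a union of coherent submodules. -/
theorem exists_mono_presentation (hL : 𝔛.IsLocNoethFormal) {K : Type u} [SmallCategory K] [IsFiltered K]
    (pres : ColimitPresentation K 𝔉) (hD : ∀ i, FSch.IsCohF 𝔛 h (pres.diag.obj i)) :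
    ∃ (J : Type u) (_ : SmallCategory J) (_ : IsFiltered J) (p : ColimitPresentation J 𝔉),
      (∀ j : J, FSch.IsCohF 𝔛 h (p.diag.obj j)) ∧ ∀ j : J, Mono (p.ι.app j) := by
  haveI : SheafOfModules.IsQuasicoherent.{u} 𝔉 := isQuasicoherent_colim hL hD pres.isColimit
  refine exists_presentation_of_family (fun i => pres.ι.app i) hL hD ⟨fun {Z} a b hab => ?_⟩
  refine pres.isColimit.hom_ext fun i => ?_
  have e := congrArg (Sigma.ι (fun i => pres.diag.obj i) i ≫ ·) hab
  simp only [Sigma.ι_desc_assoc] at e
  exact e

/-- Filtered colimits of coherent modules are closed under colimits. -/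
theorem ind_closed (hL : 𝔛.IsLocNoethFormal) {J : Type u} [SmallCategory J] {X : FSch.ModF 𝔛 h}
    (pres : ColimitPresentation J X)
    (hp : ∀ j, (ObjectProperty.ind.{u} fun 𝔊 : FSch.ModF 𝔛 h => FSch.IsCohF 𝔛 h 𝔊) (pres.diag.obj j)) :
    (ObjectProperty.ind.{u} fun 𝔊 : FSch.ModF 𝔛 h => FSch.IsCohF 𝔛 h 𝔊) X := by
  choose K hK hKf p hpc using hp
  haveI : SheafOfModules.IsQuasicoherent.{u} X :=
    isQuasicoherent_colimit hL pres.isColimit fun j => affQC_colim hL (p j).isColimit (hpc j)
  obtain ⟨I, hI, hIf, q, hq, -⟩ := exists_presentation_of_family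
    (C := fun a : Σ j, K j => (p a.1).diag.obj a.2) (fun a => (p a.1).ι.app a.2 ≫ pres.ι.app a.1) hL
    (fun a => hpc a.1 a.2) ⟨fun {Z} a b hab => by
      refine pres.isColimit.hom_ext fun j => (p j).isColimit.hom_ext fun i => ?_
      have e := congrArg (Sigma.ι (fun a : Σ j, K j => (p a.1).diag.obj a.2) ⟨j, i⟩ ≫ ·) hab
      simp only [Sigma.ι_desc_assoc, Category.assoc] at e
      exact e⟩
  exact ⟨I, hI, hIf, q, hq⟩

end Groth.Agent.FCompl
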