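import Groth.Agent.FComplLib.IndChar
import Groth.Agent.SiteBase.FreeOn
import Groth.Agent.S0484

/-!
# The largest ind-coherent approximation of a module
-/

set_option autoImplicit false
set_option linter.style.haveILetI false
set_option linter.unusedVariables false
set_option backward.isDefEq.respectTransparency false
set_option backward.isDefEq.respectTransparency.types false
set_option maxHeartbeats 4000000
universe u

open CategoryTheory CategoryTheory.Limits AlgebraicGeometry TopologicalSpace Opposite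

noncomputable section

namespace Groth.Agent.FCompl

variable {𝔛 : FSch.Sys.{u}} {h : 𝔛.IsFormal}

variable (𝔛) in
/-- Affine opens with numbers of generators. -/
abbrev GenIndex (n : {U : (𝔛.X 0).Opens // IsAffineOpen U} → ℕ) : Type u :=
  Σ U : {U : (𝔛.X 0).Opens // IsAffineOpen U}, ULift.{u} (Fin (n U))

variable (h) in
/-- The test object of a numerical bound. -/
def genMod (n : {U : (𝔛.X 0).Opens // IsAffineOpen U} → ℕ) : FSch.ModF 𝔛 h :=
  ∐ fun p : GenIndex 𝔛 n => ModSite.freeOn (𝔛.Osh h) p.1.1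

/-- Coherent modules are quotients of the test objects. -/
theorem exists_epi_genMod (hL : 𝔛.IsLocNoethFormal) {𝔉 : FSch.ModF 𝔛 h} (h𝔉 : FSch.IsCohF 𝔛 h 𝔉) :
    ∃ (n : {U : (𝔛.X 0).Opens // IsAffineOpen U} → ℕ) (q : genMod h n ⟶ 𝔉), Epi q := by
  classical
  have key : ∀ U : {U : (𝔛.X 0).Opens // IsAffineOpen U}, ∃ (n : ℕ) (s : ULift.{u} (Fin n) → 𝔉.val.obj (op U.1)),
      FPLocal.Gen 𝔉 s := fun U => by
    obtain ⟨I, K, hI, hK, s, c, hs, -, -⟩ := hasRels_affine hL h𝔉 U.2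
    let e : ULift.{u} (Fin (Fintype.card I)) ≃ I := Equiv.ulift.trans (Fintype.equivFin I).symm
    refine ⟨Fintype.card I, fun i => s (e i), fun W g m => ?_⟩
    obtain ⟨S, hS, hS'⟩ := hs g m
    refine ⟨S, hS, fun Z l hl => ?_⟩
    obtain ⟨a, ha⟩ := hS' l hl
    exact ⟨fun i => a (e i), (Fintype.sum_equiv e _ _ fun i => rfl).trans ha⟩
  choose n s hs using key
  let q : genMod h n ⟶ 𝔉 := Sigma.desc fun p => (SiteBase.FreeOn.freeOnEquiv (𝔛.Osh h) p.1.1 𝔉).symm (s p.1 p.2)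
  refine ⟨n, q, ⟨fun {Z} a b hab => ?_⟩⟩
  have hval : ∀ U i, (a.val.app (op U.1)).hom (s U i) = (b.val.app (op U.1)).hom (s U i) := fun U i => by
    have e := congrArg (Sigma.ι (fun p : GenIndex 𝔛 n => ModSite.freeOn (𝔛.Osh h) p.1.1) ⟨U, i⟩ ≫ ·) hab
    simp only [q, genMod, Sigma.ι_desc_assoc] at e
    have e' := congrArg (SiteBase.FreeOn.freeOnEquiv (𝔛.Osh h) U.1 Z) e
    rw [SiteBase.FreeOn.freeOnEquiv_comp, SiteBase.FreeOn.freeOnEquiv_comp, Equiv.apply_symm_apply] at e'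
    exact e'
  apply SheafOfModules.hom_ext
  apply PresheafOfModules.hom_ext
  rintro ⟨W⟩
  ext m
  have hsh : TopCat.Presheaf.IsSheaf (C := AddCommGrpCat.{u}) (X := (𝔛.X 0).carrier) Z.val.presheaf := Z.isSheaf
  have key2 : ∀ x : W, ∃ (Y : (𝔛.X 0).Opens) (hY : Y ≤ W), x.1 ∈ Y ∧
      FPLocal.mres Z (homOfLE hY).op ((a.val.app (op W)).hom m) =
        FPLocal.mres Z (homOfLE hY).op ((b.val.app (op W)).hom m) := fun x => by
    obtain ⟨U, hU, hxU, hUW⟩ := exists_affine_le (𝔛 := 𝔛) x.2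
    obtain ⟨S, hS, hS'⟩ := hs ⟨U, hU⟩ (𝟙 U) (FPLocal.mres 𝔉 (homOfLE hUW).op m)
    obtain ⟨Y, g, hg, hxY⟩ := hS x.1 hxU
    obtain ⟨c, hc⟩ := hS' g hg
    refine ⟨Y, (leOfHom g).trans hUW, hxY, ?_⟩
    rw [← FPLocal.app_mres, ← FPLocal.app_mres]
    rw [← FPLocal.mres_comp] at hc
    have hc' : ∑ i, c i • FPLocal.mres 𝔉 (g ≫ 𝟙 U).op (s ⟨U, hU⟩ i) =
        FPLocal.mres 𝔉 (homOfLE ((leOfHom g).trans hUW)).op m := hc
    rw [← hc', map_sum, map_sum]
    refine Finset.sum_congr rfl fun i _ => ?_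
    rw [map_smul, map_smul, FPLocal.app_mres, FPLocal.app_mres]
    exact congrArg _ (congrArg _ (hval ⟨U, hU⟩ i))
  choose Y hY hxY heq using key2
  exact TopCat.Sheaf.eq_of_locally_eq' (⟨_, hsh⟩ : TopCat.Sheaf AddCommGrpCat.{u} (𝔛.X 0).carrier)
    Y W (fun x => homOfLE (hY x)) (fun x hx => Opens.mem_iSup.2 ⟨⟨x, hx⟩, hxY _⟩) _ _ heq

/-- A small set of coherent modules containing all up to isomorphism. -/
theorem exists_small_coh (hL : 𝔛.IsLocNoethFormal) :
    ∃ (S : Type u) (F : S → FSch.ModF 𝔛 h), (∀ s, FSch.IsCohF 𝔛 h (F s)) ∧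
      ∀ C : FSch.ModF 𝔛 h, FSch.IsCohF 𝔛 h C → ∃ s, Nonempty (C ≅ F s) := by
  haveI : IsGrothendieckAbelian.{u} (FSch.ModF 𝔛 h) := S0484.result _ _
  refine ⟨Σ n : {U : (𝔛.X 0).Opens // IsAffineOpen U} → ℕ,
      Shrink.{u} {P : Subobject (genMod h n) // FSch.IsCohF 𝔛 h (cokernel P.arrow)},
    fun x => cokernel ((equivShrink _).symm x.2).1.arrow, fun x => ((equivShrink _).symm x.2).2, fun C hC => ?_⟩
  obtain ⟨n, q, hq⟩ := exists_epi_genMod hL hC
  let P : Subobject (genMod h n) := Subobject.mk (kernel.ι q)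
  let i₁ : cokernel P.arrow ≅ cokernel (kernel.ι q) :=
    cokernel.mapIso _ _ (Subobject.underlyingIso (kernel.ι q)) (Iso.refl _) (by simp [P])
  let i₂ : cokernel (kernel.ι q) ≅ C :=
    (cokernelIsCokernel (kernel.ι q)).coconePointUniqueUpToIso
      (Abelian.epiIsCokernelOfKernel (KernelFork.ofι (kernel.ι q) (kernel.condition q)) (kernelIsKernel q))
  let e : C ≅ cokernel P.arrow := (i₁ ≪≫ i₂).symm
  have hP : FSch.IsCohF 𝔛 h (cokernel P.arrow) :=
    (SheafOfModules.isFinitePresentation.{u} (ModSite.ringSh (𝔛.Osh h))).prop_of_iso e hC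
  exact ⟨⟨n, equivShrink _ ⟨P, hP⟩⟩, ⟨e ≪≫ eqToIso
    (congrArg (fun x : {P : Subobject (genMod h n) // FSch.IsCohF 𝔛 h (cokernel P.arrow)} => cokernel x.1.arrow)
      ((equivShrink _).symm_apply_apply ⟨P, hP⟩)).symm⟩⟩

theorem ι_finMap {𝔉 : FSch.ModF 𝔛 h} {A : Type u} {C : A → FSch.ModF 𝔛 h} (f : ∀ a, C a ⟶ 𝔉) (S : Finset A)
    (a : ↥S) : Sigma.ι (fun a : ↥S => C a.1) a ≫ finMap f S = f a.1 :=
  Sigma.ι_desc _ _

/-- A map into a generated module which is killed by all preimages in the finite parts vanishes. -/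
theorem eq_zero_of_preimages {J : Type u} {C' : J → FSch.ModF 𝔛 h} {𝔊 : FSch.ModF 𝔛 h} (f : ∀ j, C' j ⟶ 𝔊)
    [Epi (Sigma.desc f)] {C : FSch.ModF 𝔛 h} (c : C ⟶ 𝔊)
    (key : ∀ A : Finset J, kernel.ι (finMap f A ≫ cokernel.π c) ≫ finMap f A = 0) : c = 0 := by
  classical
  apply SheafOfModules.hom_ext
  apply PresheafOfModules.hom_ext
  rintro ⟨W⟩
  ext x
  let y := (c.val.app (op W)).hom x
  show y = 0
  have hloc : ∀ w : W, ∃ (Y : (𝔛.X 0).Opens) (hY : Y ≤ W), w.1 ∈ Y ∧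
      FPLocal.mres 𝔊 (homOfLE hY).op y = 0 := fun w => by
    obtain ⟨W₁, g, hw₁, A, z, hz⟩ :=
      FPLocal.Locally.near (FPLocal.locally_exists_rep (c := (Cocone.mk 𝔊 (finPres f).ι))
        (finPres f).isColimit y) w.2
    obtain ⟨S₂, hS₂, hS₂'⟩ := FPLocal.exists_sieve_preimage (Abelian.factorThruImage (finMap f A)) z
    obtain ⟨W₂, g₂, hg₂, hw₂⟩ := hS₂ w.1 hw₁
    obtain ⟨z', hz'⟩ := hS₂' g₂ hg₂
    refine ⟨W₂, (leOfHom g₂).trans (leOfHom g), hw₂, ?_⟩
    have hy : ((finMap f A).val.app (op W₂)).hom z' =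
        FPLocal.mres 𝔊 (homOfLE ((leOfHom g₂).trans (leOfHom g))).op y := by
      rw [← Abelian.image.fac (finMap f A)]
      show ((Abelian.image.ι (finMap f A)).val.app (op W₂)).hom
        (((Abelian.factorThruImage (finMap f A)).val.app (op W₂)).hom z') = _
      refine (congrArg ((Abelian.image.ι (finMap f A)).val.app (op W₂)).hom hz').trans ?_
      refine (FPLocal.app_mres (Abelian.image.ι (finMap f A)) g₂ z).trans ?_
      refine (congrArg (FPLocal.mres 𝔊 g₂.op) hz).trans ?_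
      exact (FPLocal.mres_comp (M := 𝔊) g.op g₂.op y).symm
    have hπ : ((finMap f A ≫ cokernel.π c).val.app (op W₂)).hom z' = 0 := by
      show ((cokernel.π c).val.app (op W₂)).hom (((finMap f A).val.app (op W₂)).hom z') = 0
      rw [hy, FPLocal.app_mres]
      rw [show ((cokernel.π c).val.app (op W)).hom y = 0 from
        congrArg (fun p : C ⟶ cokernel c => (p.val.app (op W)).hom x) (cokernel.condition c), map_zero]
    obtain ⟨κ, hκ⟩ := FPLocal.exists_kernel_preimage (finMap f A ≫ cokernel.π c) z' hπ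
    rw [← hy, ← hκ]
    exact congrArg (fun p : kernel _ ⟶ 𝔊 => (p.val.app (op W₂)).hom κ) (key A)
  choose Y hY hwY hzero using hloc
  have hsh : TopCat.Presheaf.IsSheaf (C := AddCommGrpCat.{u}) (X := (𝔛.X 0).carrier) 𝔊.val.presheaf :=
    𝔊.isSheaf
  refine TopCat.Sheaf.eq_of_locally_eq' (⟨_, hsh⟩ : TopCat.Sheaf AddCommGrpCat.{u} (𝔛.X 0).carrier)
    Y W (fun w => homOfLE (hY w)) (fun w hw => Opens.mem_iSup.2 ⟨⟨w, hw⟩, hwY _⟩) y 0 fun w => ?_
  exact (hzero w).trans (map_zero _).symm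

/-- A map which factors through a cokernel kills the kernel. -/
theorem kill_of_factor {B : Type u} (F : B → FSch.ModF 𝔛 h) {K T 𝔊 : FSch.ModF 𝔛 h} (φ : (∐ F) ⟶ 𝔊)
    (k : K ⟶ ∐ F) (θ : cokernel k ⟶ T) (ι : T ⟶ 𝔊) (e : ∀ a, (Sigma.ι F a ≫ cokernel.π k ≫ θ) ≫ ι = Sigma.ι F a ≫ φ) :
    k ≫ φ = 0 := by
  have hφ : cokernel.π k ≫ θ ≫ ι = φ := Sigma.hom_ext _ _ fun a => by
    rw [← e a, Category.assoc, Category.assoc]
  rw [← hφ, cokernel.condition_assoc, zero_comp]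

/-- The preimage of a killed coherent image in a coherent module has coherent cokernel. -/
theorem preimage_props (hL : 𝔛.IsLocNoethFormal) {C0 𝔊 C M : FSch.ModF 𝔛 h} [SheafOfModules.IsQuasicoherent.{u} 𝔊]
    (hC0 : FSch.IsCohF 𝔛 h C0) (hC : FSch.IsCohF 𝔛 h C) (c : C ⟶ 𝔊) (φ : C0 ⟶ 𝔊) (ε : 𝔊 ⟶ M) (hc : c ≫ ε = 0) :
    FSch.IsCohF 𝔛 h (cokernel (kernel.ι (φ ≫ cokernel.π c))) ∧ kernel.ι (φ ≫ cokernel.π c) ≫ φ ≫ ε = 0 := by
  haveI := (affQC_of_coh hL hC).isQuasicoherent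
  haveI := (affQC_of_coh hL hC0).isQuasicoherent
  haveI := isQuasicoherent_cokernel c hL
  let k := kernel.ι (φ ≫ cokernel.π c)
  haveI := isQuasicoherent_kernel (φ ≫ cokernel.π c) hL
  haveI := isQuasicoherent_cokernel k hL
  haveI : SheafOfModules.IsFinitePresentation (R := ModSite.ringSh (𝔛.Osh h)) C0 := hC0
  haveI := isFiniteType_of_epi (cokernel.π k)
  refine ⟨isCohF_of_qc_ft hL _, ?_⟩
  have h1 : (k ≫ φ) ≫ cokernel.π c = 0 := (Category.assoc _ _ _).trans (kernel.condition _)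
  have h2 : (k ≫ φ) = kernel.lift (cokernel.π c) _ h1 ≫ Abelian.image.ι c := (kernel.lift_ι _ _ _).symm
  have h3 : Abelian.image.ι c ≫ ε = 0 := by
    rw [← cancel_epi (Abelian.factorThruImage c), ← Category.assoc, Abelian.image.fac, hc, comp_zero]
  rw [← Category.assoc, h2, Category.assoc, h3, comp_zero]

/-- No coherent module maps non-trivially to the kernel of the universal map. -/
theorem coh_to_colim_zero (hL : 𝔛.IsLocNoethFormal) {J : Type u} [SmallCategory J] (D : J ⥤ FSch.ModF 𝔛 h)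
    (hD : ∀ j, FSch.IsCohF 𝔛 h (D.obj j)) (cc : Cocone D)
    (hlift : ∀ (C : FSch.ModF 𝔛 h), FSch.IsCohF 𝔛 h C → ∀ g : C ⟶ cc.pt,
      ∃ (j : J) (θ : C ⟶ D.obj j), θ ≫ cc.ι.app j = g)
    (hcompat : ∀ (i j : J) (θ : D.obj i ⟶ D.obj j), θ ≫ cc.ι.app j = cc.ι.app i →
      θ ≫ colimit.ι D j = colimit.ι D i)
    {C : FSch.ModF 𝔛 h} (hC : FSch.IsCohF 𝔛 h C) (c : C ⟶ colimit D) (hc : c ≫ colimit.desc D cc = 0) : c = 0 := by
  classical
  haveI : SheafOfModules.IsQuasicoherent.{u} (colimit D) :=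
    isQuasicoherent_colimit hL (colimit.isColimit D) fun j => affQC_of_coh hL (hD j)
  let f : ∀ j : J, D.obj j ⟶ colimit D := fun j => colimit.ι D j
  haveI : Epi (Sigma.desc f) := ⟨fun {Z} a b hab => colimit.hom_ext fun j => by
    have e := congrArg (Sigma.ι (fun j => D.obj j) j ≫ ·) hab
    simp only [Sigma.ι_desc_assoc] at e
    exact e⟩
  refine eq_zero_of_preimages f c fun A => ?_
  have hA := isCohF_sigma hL (fun a : ↥A => D.obj a.1) fun a => hD a.1
  obtain ⟨hC1, hk0⟩ := preimage_props hL hA hC c (finMap f A) (colimit.desc D cc) hc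
  obtain ⟨j₁, θ₁, hθ₁⟩ := hlift _ hC1 (cokernel.desc _ (finMap f A ≫ colimit.desc D cc) hk0)
  exact kill_of_factor (fun a : ↥A => D.obj a.1) (finMap f A) (kernel.ι (finMap f A ≫ cokernel.π c)) θ₁
    (colimit.ι D j₁) fun a => (hcompat a.1 j₁ _ (by
      rw [Category.assoc, Category.assoc, hθ₁, cokernel.π_desc, ← Category.assoc, ι_finMap]
      exact colimit.ι_desc cc a.1)).trans (ι_finMap f A a).symm

/-- The module has a universal map from a filtered colimit of coherent modules. -/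
theorem exists_coreflection (hL : 𝔛.IsLocNoethFormal) (M : FSch.ModF 𝔛 h) :
    ∃ (RM : FSch.ModF 𝔛 h) (ε : RM ⟶ M),
      (ObjectProperty.ind.{u} fun 𝔊 : FSch.ModF 𝔛 h => FSch.IsCohF 𝔛 h 𝔊) RM ∧
      ∀ X : FSch.ModF 𝔛 h, (ObjectProperty.ind.{u} fun 𝔊 : FSch.ModF 𝔛 h => FSch.IsCohF 𝔛 h 𝔊) X →
        Function.Bijective fun g : X ⟶ RM => g ≫ ε := by
  classical
  obtain ⟨S, F, hF, hS⟩ := exists_small_coh (h := h) hL
  let J : Type u := InducedCategory (Over M) fun j : Σ s : S, (F s ⟶ M) => Over.mk j.2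
  let D : J ⥤ FSch.ModF 𝔛 h := inducedFunctor _ ⋙ Over.forget M
  let cc : Cocone D :=
    { pt := M
      ι := { app := fun j => j.2
             naturality := fun i j u => (Over.w u.hom).trans (Category.comp_id _).symm } }
  let ε : colimit D ⟶ M := colimit.desc D cc
  have hD : ∀ j, FSch.IsCohF 𝔛 h (D.obj j) := fun j => hF j.1
  haveI : SheafOfModules.IsQuasicoherent.{u} (colimit D) :=
    isQuasicoherent_colimit hL (colimit.isColimit D) fun j => affQC_of_coh hL (hD j)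
  let f : ∀ j : J, D.obj j ⟶ colimit D := fun j => colimit.ι D j
  have hf : Epi (Sigma.desc f) := ⟨fun {Z} a b hab => colimit.hom_ext fun j => by
    have e := congrArg (Sigma.ι (fun j => D.obj j) j ≫ ·) hab
    simp only [Sigma.ι_desc_assoc] at e
    exact e⟩
  -- every map of a coherent module to `M` lifts
  have hlift : ∀ (C : FSch.ModF 𝔛 h), FSch.IsCohF 𝔛 h C → ∀ g : C ⟶ M,
      ∃ (j : J) (θ : C ⟶ D.obj j), θ ≫ cc.ι.app j = g := fun C hC g => by
    obtain ⟨s, ⟨e⟩⟩ := hS C hC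
    exact ⟨⟨s, e.inv ≫ g⟩, e.hom, e.hom_inv_id_assoc g⟩
  -- maps between lifts
  have hcompat : ∀ (i j : J) (θ : D.obj i ⟶ D.obj j), θ ≫ cc.ι.app j = cc.ι.app i →
      θ ≫ colimit.ι D j = colimit.ι D i := fun i j θ hθ => by
    let u : i ⟶ j := InducedCategory.homMk (Over.homMk θ hθ)
    exact colimit.w D u
  have hinj : ∀ (C : FSch.ModF 𝔛 h), FSch.IsCohF 𝔛 h C → ∀ c : C ⟶ colimit D, c ≫ ε = 0 → c = 0 :=
    fun C hC c hc => coh_to_colim_zero hL D hD cc hlift hcompat hC c hc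
  obtain ⟨I, hI, hIf, pres, hp, -⟩ := exists_presentation_of_family f hL hD hf
  refine ⟨colimit D, ε, ⟨I, hI, hIf, pres, hp⟩, fun X hX => ?_⟩
  obtain ⟨K, hK, hKf, px, hpx⟩ := hX
  refine ⟨fun a b hab => ?_, fun g => ?_⟩
  · refine px.isColimit.hom_ext fun i => ?_
    refine sub_eq_zero.1 (hinj _ (hpx i) (px.ι.app i ≫ a - px.ι.app i ≫ b) ?_)
    rw [Preadditive.sub_comp, Category.assoc, Category.assoc, show a ≫ ε = b ≫ ε from hab, sub_self]
  · choose j θ hθ using fun i => hlift _ (hpx i) (px.ι.app i ≫ g)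
    have hθ' : ∀ i, (θ i ≫ colimit.ι D (j i)) ≫ ε = px.ι.app i ≫ g := fun i => by
      rw [Category.assoc]
      exact (congrArg (θ i ≫ ·) (colimit.ι_desc cc (j i))).trans (hθ i)
    let c2 : Cocone px.diag :=
      { pt := colimit D
        ι := { app := fun i => θ i ≫ colimit.ι D (j i)
               naturality := fun i i' u => by
                 refine Eq.trans ?_ (Category.comp_id _).symm
                 refine sub_eq_zero.1 (hinj _ (hpx i) _ ?_)
                 rw [Preadditive.sub_comp, sub_eq_zero, Category.assoc, hθ' i', hθ' i, ← Category.assoc, px.ι.naturality]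
                 exact congrArg (· ≫ g) (Category.comp_id _) } }
    refine ⟨px.isColimit.desc c2, px.isColimit.hom_ext fun i => ?_⟩
    show px.ι.app i ≫ px.isColimit.desc c2 ≫ ε = px.ι.app i ≫ g
    rw [← Category.assoc]
    exact (congrArg (· ≫ ε) (px.isColimit.fac c2 i)).trans (hθ' i)

/-- The inclusion of filtered colimits of coherent modules has a right adjoint. -/
theorem ind_ι_isLeftAdjoint (hL : 𝔛.IsLocNoethFormal) :
    (ObjectProperty.ind.{u} fun 𝔊 : FSch.ModF 𝔛 h => FSch.IsCohF 𝔛 h 𝔊).ι.IsLeftAdjoint := by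
  rw [isLeftAdjoint_iff_hasTerminal_costructuredArrow]
  intro M
  obtain ⟨RM, ε, hRM, huniv⟩ := exists_coreflection hL M
  let P := ObjectProperty.ind.{u} fun 𝔊 : FSch.ModF 𝔛 h => FSch.IsCohF 𝔛 h 𝔊
  let T : CostructuredArrow P.ι M := CostructuredArrow.mk (Y := (⟨RM, hRM⟩ : P.FullSubcategory)) (ε : P.ι.obj (⟨RM, hRM⟩ : P.FullSubcategory) ⟶ M)
  haveI : ∀ A : CostructuredArrow P.ι M, Unique (A ⟶ T) := fun A => by
    have hA := huniv _ A.left.property
    exact
      { default := CostructuredArrow.homMk (ObjectProperty.homMk (hA.2 A.hom).choose) (hA.2 A.hom).choose_spec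
        uniq := fun g => CostructuredArrow.hom_ext _ _ (InducedCategory.hom_ext
          (hA.1 ((CostructuredArrow.w g).trans (hA.2 A.hom).choose_spec.symm))) }
  exact IsTerminal.hasTerminal (IsTerminal.ofUnique T)

end Groth.Agent.FCompl
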