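import Groth.Agent.FComplLib.TorsLevel
import Groth.Agent.FComplLib.Coreflect

/-!
# Quasi-coherent torsion modules
-/

set_option autoImplicit false
set_option linter.style.haveILetI false
set_option linter.unusedVariables false
set_option backward.isDefEq.respectTransparency false
set_option backward.isDefEq.respectTransparency.types false
set_option maxHeartbeats 4000000
universe u

open CategoryTheory CategoryTheory.Limits AlgebraicGeometry TopologicalSpace Opposite

noncomputable section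

namespace Groth.Agent.FCompl

variable {𝔛 : FSch.Sys.{u}} {h : 𝔛.IsFormal}

theorem qct_colimit (hL : 𝔛.IsLocNoethFormal) {J : Type u} [SmallCategory J] {D : J ⥤ FSch.ModF 𝔛 h} {c : Cocone D}
    (hc : IsColimit c) (H : ∀ j, FTors.IsQCT 𝔛 h (D.obj j)) : FTors.IsQCT 𝔛 h c.pt := by
  refine ⟨isT_colimit hc fun j => (H j).1, isQuasicoherent_colimit hL hc fun j => ?_⟩
  haveI := (H j).2
  obtain ⟨K, hK, hKf, p, hp⟩ := ind_of_qct hL (H j).1
  exact affQC_colim hL p.isColimit hp

theorem isQuasicoherent_of_ind (hL : 𝔛.IsLocNoethFormal) {M : FSch.ModF 𝔛 h}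
    (hM : (ObjectProperty.ind.{u} fun 𝔊 : FSch.ModF 𝔛 h => FSch.IsCohF 𝔛 h 𝔊) M) :
    SheafOfModules.IsQuasicoherent.{u} M := by
  obtain ⟨K, hK, hKf, p, hp⟩ := hM
  exact isQuasicoherent_colim hL hp p.isColimit

/-- The inclusion of quasi-coherent torsion modules has a right adjoint. -/
theorem qct_ι_isLeftAdjoint (hL : 𝔛.IsLocNoethFormal) : (FTors.IsQCT 𝔛 h).ι.IsLeftAdjoint := by
  rw [isLeftAdjoint_iff_hasTerminal_costructuredArrow]
  intro M
  obtain ⟨RM, ε, hRM, huniv⟩ := exists_coreflection hL M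
  haveI := isQuasicoherent_of_ind hL hRM
  let P := FTors.IsQCT 𝔛 h
  let Γ := FTors.gammaT 𝔛 h
  let ι : Γ.obj RM ⟶ RM := (FTors.gammaTι 𝔛 h).app RM
  haveI : Mono ι := FPLocal.mono_of_locally_zero _ fun W m hm => ⟨⊤, GrothendieckTopology.top_mem _ _, fun Z q _ =>
    (congrArg (FPLocal.mres _ q.op) (show m = 0 from Subtype.ext hm)).trans (map_zero _)⟩
  let Q : P.FullSubcategory := ⟨Γ.obj RM, isQCT_gammaT hL RM⟩
  let T : CostructuredArrow P.ι M := CostructuredArrow.mk (Y := Q) (ι ≫ ε : P.ι.obj Q ⟶ M)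
  haveI : ∀ A : CostructuredArrow P.ι M, Unique (A ⟶ T) := fun A => by
    have hA : FTors.IsQCT 𝔛 h A.left.obj := A.left.property
    haveI := hA.2
    have hb := huniv A.left.obj (ind_of_qct hL hA.1)
    haveI := isIso_gammaTι (M := A.left.obj) hA.1
    let g : A.left.obj ⟶ RM := (hb.2 A.hom).choose
    have hg : g ≫ ε = A.hom := (hb.2 A.hom).choose_spec
    let ιA : Γ.obj A.left.obj ⟶ A.left.obj := (FTors.gammaTι 𝔛 h).app A.left.obj
    let l : A.left.obj ⟶ Γ.obj RM := inv ιA ≫ Γ.map g
    have hl : l ≫ ι = g := by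
      show (inv ιA ≫ Γ.map g) ≫ (FTors.gammaTι 𝔛 h).app RM = g
      rw [Category.assoc, (FTors.gammaTι 𝔛 h).naturality g, IsIso.inv_comp_eq]
      rfl
    exact
      { default := CostructuredArrow.homMk (ObjectProperty.homMk l) ((Category.assoc _ _ _).symm.trans
          ((congrArg (· ≫ ε) hl).trans hg))
        uniq := fun k => CostructuredArrow.hom_ext _ _ (InducedCategory.hom_ext ((cancel_mono ι).1
          ((hb.1 ((Category.assoc _ _ _).trans ((CostructuredArrow.w k).trans hg.symm))).trans hl.symm))) }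
  exact IsTerminal.hasTerminal (IsTerminal.ofUnique T)

end Groth.Agent.FCompl
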