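import Groth.Agent.FComplLib.Extension
import Groth.Agent.FComplLib.IndChar
import Groth.Agent.FComplLib.QCT
import Groth.Agent.FComplLib.HomGens

/-!
# Filtered colimits of coherent modules form a weak Serre class
-/

set_option autoImplicit false
set_option linter.style.haveILetI false
set_option linter.unusedVariables false
set_option backward.isDefEq.respectTransparency false
set_option backward.isDefEq.respectTransparency.types false
set_option maxHeartbeats 4000000
universe u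

open CategoryTheory CategoryTheory.Limits AlgebraicGeometry TopologicalSpace Opposite

noncomputable section

namespace Groth.Agent.FCompl

variable {𝔛 : FSch.Sys.{u}} {h : 𝔛.IsFormal}

/-- The property of being a filtered colimit of coherent modules. -/
abbrev IsInd : ObjectProperty (FSch.ModF 𝔛 h) :=
  ObjectProperty.ind.{u} fun 𝔊 : FSch.ModF 𝔛 h => FSch.IsCohF 𝔛 h 𝔊

theorem isCompact_opens (hL : 𝔛.IsLocNoethFormal) [CompactSpace (𝔛.X 0)] (U : (𝔛.X 0).Opens) :
    IsCompact (U : Set (𝔛.X 0)) := by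
  haveI := hL.2.2 0
  haveI : AlgebraicGeometry.IsNoetherian (𝔛.X 0) := {}
  exact NoetherianSpace.isCompact _

lemma rsF_lin {M : FSch.ModF 𝔛 h} {A B : (𝔛.X 0).Opens} (hBA : B ≤ A) {I : Type u} [Fintype I]
    (d : I → OR 𝔛 h A) (s : I → M.val.obj (op A)) :
    rsF M hBA (∑ i, d i • s i) = ∑ i, rsO 𝔛 h hBA (d i) • rsF M hBA (s i) := by
  rw [map_sum]
  exact Finset.sum_congr rfl fun i _ => mres_smul' hBA _ _

variable {M : FSch.ModF 𝔛 h} {J : Type u} [SmallCategory J] [IsFiltered J] (p : ColimitPresentation J M)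

/-- A section over a compact open of a union comes from a member. -/
theorem exists_index (hp : ∀ j, Mono (p.ι.app j)) {U : (𝔛.X 0).Opens} (hU : IsCompact (U : Set (𝔛.X 0)))
    (m : M.val.obj (op U)) : ∃ (j : J) (y : (p.diag.obj j).val.obj (op U)), ((p.ι.app j).val.app (op U)).hom y = m := by
  classical
  obtain ⟨ι, hι, W, g, hcov, hW⟩ := FPLocal.exists_finite_cover hU fun x hx =>
    (FPLocal.locally_exists_rep (c := p.cocone) p.isColimit m).near hx
  choose j y hy using hW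
  obtain ⟨k, hk⟩ := IsFiltered.sup_objs_exists (Finset.univ.image j)
  choose f hf using fun a => (⟨(hk (Finset.mem_image_of_mem j (Finset.mem_univ a))).some, trivial⟩ :
    ∃ _ : j a ⟶ k, True)
  let y' : ∀ a, (p.diag.obj k).val.obj (op (W a)) := fun a => ((p.diag.map (f a)).val.app (op (W a))).hom (y a)
  have hy' : ∀ a, ((show p.diag.obj k ⟶ M from p.ι.app k).val.app (op (W a))).hom (y' a) = rsF M (leOfHom (g a)) m :=
      fun a => by
    refine Eq.trans ?_ (hy a)
    exact congrArg (fun φ : p.diag.obj (j a) ⟶ M => (φ.val.app (op (W a))).hom (y a))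
      ((p.ι.naturality (f a)).trans (Category.comp_id _))
  let φk : p.diag.obj k ⟶ M := p.ι.app k
  haveI : Mono φk := hp k
  have hsh : TopCat.Presheaf.IsSheaf (C := AddCommGrpCat.{u}) (X := (𝔛.X 0).carrier) (p.diag.obj k).val.presheaf :=
    (p.diag.obj k).isSheaf
  obtain ⟨z, hz, -⟩ := TopCat.Sheaf.existsUnique_gluing'
    (⟨_, hsh⟩ : TopCat.Sheaf AddCommGrpCat.{u} (𝔛.X 0).carrier) W U g
    (fun x hx => Opens.mem_iSup.2 (hcov x hx)) y' fun a b => by
      show rsF _ inf_le_left (y' a) = rsF _ inf_le_right (y' b)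
      refine FPLocal.app_injective_of_mono φk _ ?_
      rw [app_rsF φk, app_rsF φk]
      exact (congrArg (rsF M inf_le_left) (hy' a)).trans (Eq.trans (by rw [rsF_rsF, rsF_rsF])
        (congrArg (rsF M inf_le_right) (hy' b)).symm)
  let z' : (p.diag.obj k).val.obj (op U) := z
  refine ⟨k, z', FPLocal.eq_of_cover M W g hcov fun a => ?_⟩
  show rsF M (leOfHom (g a)) ((φk.val.app (op U)).hom z') = rsF M (leOfHom (g a)) m
  exact (app_rsF φk (leOfHom (g a)) z').symm.trans ((congrArg (φk.val.app (op (W a))).hom (hz a)).trans (hy' a))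

/-- Finitely many sections over compact opens of a union come from one member. -/
theorem exists_index_family (hp : ∀ j, Mono (p.ι.app j)) {α : Type u} [Finite α] (U : α → (𝔛.X 0).Opens)
    (hU : ∀ a, IsCompact (U a : Set (𝔛.X 0))) (m : ∀ a, M.val.obj (op (U a))) :
    ∃ j : J, ∀ a, ∃ y : (p.diag.obj j).val.obj (op (U a)), ((p.ι.app j).val.app (op (U a))).hom y = m a := by
  classical
  haveI := Fintype.ofFinite α
  choose j y hy using fun a => exists_index p hp (hU a) (m a)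
  obtain ⟨k, hk⟩ := IsFiltered.sup_objs_exists (Finset.univ.image j)
  refine ⟨k, fun a => ?_⟩
  obtain ⟨f⟩ := hk (Finset.mem_image_of_mem j (Finset.mem_univ a))
  refine ⟨((p.diag.map f).val.app (op (U a))).hom (y a), Eq.trans ?_ (hy a)⟩
  exact congrArg (fun φ : p.diag.obj (j a) ⟶ M => (φ.val.app (op (U a))).hom (y a))
    ((p.ι.naturality f).trans (Category.comp_id _))

/-- An extension of modules of finite type is of finite type. -/
theorem isFiniteType_extension {F G : FSch.ModF 𝔛 h} (π : F ⟶ G) [Epi π]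
    [SheafOfModules.IsFiniteType.{u} (kernel π)] [SheafOfModules.IsFiniteType.{u} G] :
    SheafOfModules.IsFiniteType.{u} F := by
  refine FPLocal.isFiniteType_of_hasGen F fun X => ?_
  obtain ⟨S, hS, hS'⟩ := FPLocal.exists_sieve_hasGen G X
  refine FPLocal.Locally.bind (P := fun V _ => FPLocal.HasGen G V) ⟨S, hS, hS'⟩ fun V g ⟨I, hI, s, hs⟩ => ?_
  obtain ⟨S₁, hS₁, hS₁'⟩ := FPLocal.exists_sieve_preimage_family π s
  refine FPLocal.Locally.bind (P := fun W l => ∃ t : I → F.val.obj (op W),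
    ∀ i, (π.val.app (op W)).hom (t i) = FPLocal.mres G l.op (s i)) ⟨S₁, hS₁, hS₁'⟩ fun W l ⟨t, ht⟩ => ?_
  obtain ⟨S₂, hS₂, hS₂'⟩ := FPLocal.exists_sieve_hasGen (kernel π) W
  refine ⟨S₂, hS₂, fun Z k hk => ?_⟩
  obtain ⟨L, hLf, w, hw⟩ := hS₂' k hk
  let kι := ((kernel.ι π).val.app (op Z)).hom
  refine ⟨L ⊕ I, inferInstance, Sum.elim (fun i => kι (w i)) (fun i => FPLocal.mres F k.op (t i)), fun Y q m => ?_⟩
  have hmain : FPLocal.Locally (Opens.grothendieckTopology (𝔛.X 0)) Y fun T r => ∃ a : L ⊕ I → OR 𝔛 h T,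
      ∑ i, a i • FPLocal.mres F (r ≫ q).op (Sum.elim (fun i => kι (w i)) (fun i => FPLocal.mres F k.op (t i)) i) =
        FPLocal.mres F r.op m := by
    refine FPLocal.Locally.bind (hs (q ≫ k ≫ l) ((π.val.app (op Y)).hom m)) fun T r ⟨a₀, ha⟩ => ?_
    let a : I → OR 𝔛 h T := a₀
    let z : F.val.obj (op T) := FPLocal.mres F r.op m - ∑ i, a i • FPLocal.mres F (r ≫ q ≫ k).op (t i)
    have hz : (π.val.app (op T)).hom z = 0 := by
      rw [map_sub, map_sum, sub_eq_zero, FPLocal.app_mres, ← ha]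
      refine Finset.sum_congr rfl fun i _ => ?_
      rw [map_smul, FPLocal.app_mres, ht, ← FPLocal.mres_comp]
      rfl
    obtain ⟨y, hy⟩ := FPLocal.exists_kernel_preimage π z hz
    refine FPLocal.Locally.mono (hw (r ≫ q) y) fun P v ⟨b₀, hb⟩ => ?_
    let b : L → OR 𝔛 h P := b₀
    refine ⟨Sum.elim b fun i => rsO 𝔛 h (leOfHom v) (a i), ?_⟩
    rw [Fintype.sum_sum_type]
    have e := congrArg ((kernel.ι π).val.app (op P)).hom hb
    rw [map_sum, FPLocal.app_mres, hy, map_sub, map_sum, ← FPLocal.mres_comp, eq_sub_iff_add_eq] at e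
    refine Eq.trans (congr_arg₂ (· + ·) (Finset.sum_congr rfl fun i _ => ?_) (Finset.sum_congr rfl fun i _ => ?_)) e
    · rw [map_smul]
      exact congrArg (b i • ·) (FPLocal.app_mres _ _ _).symm
    · show rsO 𝔛 h (leOfHom v) (a i) • FPLocal.mres F ((v ≫ r) ≫ q).op (FPLocal.mres F k.op (t i)) = _
      refine Eq.trans ?_ (mres_smul' (𝔉 := F) (leOfHom v) (a i) _).symm
      rw [← FPLocal.mres_comp, ← FPLocal.mres_comp]
      rfl
  exact hmain

lemma eq_zero_of_relComplete {C N : FSch.ModF 𝔛 h} {W₀ W : (𝔛.X 0).Opens} (hW : W ≤ W₀) {X K : Type u} [Fintype X]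
    [Fintype K] (c : K → X → OR 𝔛 h W₀) (u : X → C.val.obj (op W₀)) (τ : X → N.val.obj (op W₀))
    (hc : FPLocal.RelComplete C c u) (hτ : ∀ k, ∑ x, c k x • τ x = 0) (d : X → OR 𝔛 h W)
    (hd : ∑ x, d x • rsF C hW (u x) = 0) : ∑ x, d x • rsF N hW (τ x) = 0 := by
  refine eq_of_near N fun y hy => ?_
  obtain ⟨S, hS, hS'⟩ := hc (homOfLE hW) d hd
  obtain ⟨Z, g, hg, hyZ⟩ := (Opens.mem_grothendieckTopology _).1 hS y hy
  obtain ⟨e₀, he⟩ := hS' g hg
  let e : K → OR 𝔛 h Z := e₀
  have he' : ∀ x, ∑ k, e k * rsO 𝔛 h ((leOfHom g).trans hW) (c k x) = rsO 𝔛 h (leOfHom g) (d x) := he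
  refine ⟨Z, leOfHom g, hyZ, ?_⟩
  rw [map_zero, rsF_comb N (leOfHom g) hW]
  simp only [← he', Finset.sum_smul, mul_smul]
  rw [Finset.sum_comm]
  refine Finset.sum_eq_zero fun k _ => ?_
  rw [← Finset.smul_sum, ← rsF_lin, hτ, map_zero, smul_zero]

theorem epi_sigmaDesc_of_near {A : Type u} {C : A → FSch.ModF 𝔛 h} (f : ∀ a, C a ⟶ M)
    (H : ∀ (W : (𝔛.X 0).Opens) (m : M.val.obj (op W)), ∀ x ∈ W, ∃ (Z : (𝔛.X 0).Opens) (hZ : Z ≤ W), x ∈ Z ∧
      ∃ (a : A) (y : (C a).val.obj (op Z)), ((f a).val.app (op Z)).hom y = rsF M hZ m) :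
    Epi (Sigma.desc f) := by
  refine ⟨fun {T} a b hab => ?_⟩
  have e : ∀ i, f i ≫ a = f i ≫ b := fun i => by
    have := congrArg (Sigma.ι C i ≫ ·) hab
    simpa only [Sigma.ι_desc_assoc] using this
  ext W m
  refine eq_of_near T fun x hx => ?_
  obtain ⟨Z, hZ, hxZ, i, y, hy⟩ := H W.unop m x hx
  refine ⟨Z, hZ, hxZ, (app_rsF a hZ m).symm.trans (Eq.trans ?_ (app_rsF b hZ m))⟩
  rw [← hy]
  exact congrArg (fun φ : C i ⟶ T => (φ.val.app (op Z)).hom y) (e i)

theorem isInd_of_family (hL : 𝔛.IsLocNoethFormal) [SheafOfModules.IsQuasicoherent.{u} M] {A : Type u}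
    {C : A → FSch.ModF 𝔛 h} (f : ∀ a, C a ⟶ M) (hC : ∀ a, FSch.IsCohF 𝔛 h (C a)) (hf : Epi (Sigma.desc f)) :
    IsInd M := by
  obtain ⟨I, hI, hIf, q, hq, -⟩ := exists_presentation_of_family f hL hC hf
  exact ⟨I, hI, hIf, q, hq⟩

/-- The kernel of a morphism of filtered colimits of coherent modules. -/
theorem isInd_kernel (hL : 𝔛.IsLocNoethFormal) {F G : FSch.ModF 𝔛 h} (k : F ⟶ G) (hF : IsInd F) (hG : IsInd G) :
    IsInd (kernel k) := by
  haveI := isQuasicoherent_of_ind hL hF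
  haveI := isQuasicoherent_of_ind hL hG
  haveI := isQuasicoherent_kernel k hL
  obtain ⟨K, _, _, q, hq⟩ := hF
  have hcoh : ∀ j, FSch.IsCohF 𝔛 h (kernel (q.ι.app j ≫ k)) := fun j => by
    haveI : SheafOfModules.IsQuasicoherent.{u} (q.diag.obj j) := (affQC_of_coh hL (hq j)).isQuasicoherent
    haveI := isQuasicoherent_kernel (q.ι.app j ≫ k) hL
    haveI := isFiniteType_of_mono hL (hq j) (kernel.ι (q.ι.app j ≫ k))
    exact isCohF_of_qc_ft hL _
  refine isInd_of_family hL (fun j => kernel.lift k (kernel.ι (q.ι.app j ≫ k) ≫ q.ι.app j)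
    (by rw [Category.assoc, kernel.condition])) hcoh (epi_sigmaDesc_of_near _ fun W m x hx => ?_)
  obtain ⟨Z, g, hxZ, j, y, hy⟩ :=
    (FPLocal.locally_exists_rep (c := q.cocone) q.isColimit (((kernel.ι k).val.app (op W)).hom m)).near hx
  have hy' : ((q.ι.app j ≫ k).val.app (op Z)).hom y = 0 := by
    show (k.val.app (op Z)).hom (((q.ι.app j).val.app (op Z)).hom y) = 0
    refine (congrArg (k.val.app (op Z)).hom hy).trans ((app_rsF k (leOfHom g) _).trans ?_)
    rw [show (k.val.app (op W)).hom (((kernel.ι k).val.app (op W)).hom m) = 0 from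
      congrArg (fun φ : kernel k ⟶ G => (φ.val.app (op W)).hom m) (kernel.condition k), map_zero]
  obtain ⟨z, hz⟩ := FPLocal.exists_kernel_preimage _ y hy'
  refine ⟨Z, leOfHom g, hxZ, j, z, FPLocal.app_injective_of_mono (kernel.ι k) _ ?_⟩
  refine Eq.trans ?_ ((congrArg ((q.ι.app j).val.app (op Z)).hom hz).trans (hy.trans (app_rsF (kernel.ι k) (leOfHom g) m).symm))
  exact congrArg (fun φ : kernel (q.ι.app j ≫ k) ⟶ F => (φ.val.app (op Z)).hom z) (kernel.lift_ι k _ _)

/-- The cokernel of a morphism of filtered colimits of coherent modules. -/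
theorem isInd_cokernel (hL : 𝔛.IsLocNoethFormal) {F G : FSch.ModF 𝔛 h} (k : F ⟶ G) (hF : IsInd F) (hG : IsInd G) :
    IsInd (cokernel k) := by
  haveI := isQuasicoherent_of_ind hL hF
  haveI := isQuasicoherent_of_ind hL hG
  haveI := isQuasicoherent_cokernel k hL
  obtain ⟨K, _, _, q, hq⟩ := hG
  refine isInd_of_family hL (fun j => q.ι.app j ≫ cokernel.π k) hq ⟨fun {T} a b hab => ?_⟩
  refine (cancel_epi (cokernel.π k)).1 (q.isColimit.hom_ext fun j => ?_)
  have e := congrArg (Sigma.ι (fun j => q.diag.obj j) j ≫ ·) hab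
  simp only [Sigma.ι_desc_assoc, Category.assoc] at e
  exact e

/-- The kernel of a projection of a pullback. -/
def kernelSndIso {𝒞 : Type*} [Category 𝒞] [Abelian 𝒞] {X Y Z : 𝒞} (q : X ⟶ Z) (σ : Y ⟶ Z) :
    kernel (pullback.snd q σ) ≅ kernel q where
  hom := kernel.lift q (kernel.ι _ ≫ pullback.fst q σ)
    (by rw [Category.assoc, pullback.condition, ← Category.assoc, kernel.condition, zero_comp])
  inv := kernel.lift _ (pullback.lift (kernel.ι q) 0 (by rw [kernel.condition, zero_comp]))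
    (pullback.lift_snd _ _ _)
  hom_inv_id := by
    refine equalizer.hom_ext (pullback.hom_ext ?_ ?_)
    · simp
    · simp
  inv_hom_id := by
    refine equalizer.hom_ext ?_
    simp

/-- The pullback of a coherent module over a quotient by a coherent module is coherent. -/
theorem exists_coh_pullback (hL : 𝔛.IsLocNoethFormal) {P₀ F C : FSch.ModF 𝔛 h} (ψ : P₀ ⟶ F)
    [SheafOfModules.IsQuasicoherent.{u} F] (h₀ : FSch.IsCohF 𝔛 h P₀) (hC : FSch.IsCohF 𝔛 h C) (σ : C ⟶ cokernel ψ) :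
    ∃ (P : FSch.ModF 𝔛 h) (e : P ⟶ F) (r : P ⟶ C), FSch.IsCohF 𝔛 h P ∧ Epi r ∧ e ≫ cokernel.π ψ = r ≫ σ := by
  haveI : SheafOfModules.IsFinitePresentation (R := ModSite.ringSh (𝔛.Osh h)) P₀ := h₀
  haveI : SheafOfModules.IsQuasicoherent.{u} P₀ := (affQC_of_coh hL h₀).isQuasicoherent
  haveI : SheafOfModules.IsQuasicoherent.{u} C := (affQC_of_coh hL hC).isQuasicoherent
  haveI : SheafOfModules.IsFinitePresentation (R := ModSite.ringSh (𝔛.Osh h)) C := hC
  let iso : kernel (pullback.snd (cokernel.π ψ) σ) ≅ Abelian.image ψ := kernelSndIso _ σ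
  haveI : SheafOfModules.IsQuasicoherent.{u} (kernel (pullback.snd (cokernel.π ψ) σ)) := by
    haveI := isQuasicoherent_image ψ hL
    exact (SheafOfModules.isQuasicoherent.{u} (ModSite.ringSh (𝔛.Osh h))).prop_of_iso iso.symm inferInstance
  haveI : SheafOfModules.IsFiniteType.{u} (kernel (pullback.snd (cokernel.π ψ) σ)) :=
    isFiniteType_of_epi (Abelian.factorThruImage ψ ≫ iso.inv)
  haveI := isQuasicoherent_extension (pullback.snd (cokernel.π ψ) σ) hL
  haveI := isFiniteType_extension (pullback.snd (cokernel.π ψ) σ)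
  exact ⟨_, _, _, isCohF_of_qc_ft hL _, inferInstance, pullback.condition⟩

/-- A map from a coherent module to the quotient of an extension lifts after a coherent cover. -/
theorem exists_coh_lift (hL : 𝔛.IsLocNoethFormal) [CompactSpace (𝔛.X 0)] {F G C : FSch.ModF 𝔛 h} (π : F ⟶ G) [Epi π]
    (hK : IsInd (kernel π)) [SheafOfModules.IsQuasicoherent.{u} F] (hC : FSch.IsCohF 𝔛 h C) (φ : C ⟶ G) :
    ∃ (I : FSch.ModF 𝔛 h) (e : I ⟶ F) (r : I ⟶ C), FSch.IsCohF 𝔛 h I ∧ Epi r ∧ e ≫ π = r ≫ φ := by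
  classical
  haveI := isQuasicoherent_of_ind hL hK
  obtain ⟨K₀, _, _, q₀, hq₀⟩ := hK
  obtain ⟨J, hJ, hJf, pK, hpK, hmono⟩ := exists_mono_presentation hL q₀ hq₀
  -- finitely many affine charts with generators and lifts
  obtain ⟨A, hA, U, gU, hcovU, hP⟩ := FPLocal.exists_finite_cover (U := (⊤ : (𝔛.X 0).Opens))
    (P := fun W _ => IsAffineOpen W ∧ ∃ V, W ≤ V ∧ Nonempty (RelData (kernel π) V)) (isCompact_opens hL ⊤) fun x hx => by
      obtain ⟨V, -, hxV, hD⟩ := exists_relData (𝔉 := kernel π) hx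
      obtain ⟨W, hW, hxW, hWV⟩ := exists_affine_le (𝔛 := 𝔛) hxV
      exact ⟨W, homOfLE le_top, hxW, hW, V, hWV, hD⟩
  choose hUaff V hUV hD using hP
  choose I K hI hKf s c hs h0 hc using fun a => hasRels_affine hL hC (hUaff a)
  letI : ∀ a, Fintype (I a) := hI
  choose T hT using fun a i => exists_lift_section π hL (hD a).some (hUaff a) (hUV a) ((φ.val.app (op (U a))).hom (s a i))
  -- finitely many relations on affine covers of the overlaps
  have hov : ∀ a b, ∃ (β : Type u) (_ : Fintype β) (W : β → (𝔛.X 0).Opens) (g : ∀ e, W e ⟶ U a ⊓ U b),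
      (∀ x ∈ U a ⊓ U b, ∃ e, x ∈ W e) ∧ ∀ e, IsAffineOpen (W e) := fun a b =>
    FPLocal.exists_finite_cover (P := fun W _ => IsAffineOpen W) (isCompact_opens hL _) fun x hx => by
      obtain ⟨W, hW, hxW, hWU⟩ := exists_affine_le (𝔛 := 𝔛) hx
      exact ⟨W, homOfLE hWU, hxW, hW⟩
  choose β hβ Wc gW hcovW hWaff using hov
  letI : ∀ a b, Fintype (β a b) := hβ
  have hWa : ∀ a b e, Wc a b e ≤ U a := fun a b e => (leOfHom (gW a b e)).trans inf_le_left
  have hWb : ∀ a b e, Wc a b e ≤ U b := fun a b e => (leOfHom (gW a b e)).trans inf_le_right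
  let uC : ∀ a b e, I a ⊕ I b → C.val.obj (op (Wc a b e)) := fun a b e =>
    Sum.elim (fun i => rsF C (hWa a b e) (s a i)) fun i => - rsF C (hWb a b e) (s b i)
  let uF : ∀ a b e, I a ⊕ I b → F.val.obj (op (Wc a b e)) := fun a b e =>
    Sum.elim (fun i => rsF F (hWa a b e) (T a i)) fun i => - rsF F (hWb a b e) (T b i)
  choose l cr hcr0 hcr using fun a b e => relComplete_coh hL hC (hWaff a b e) (uC a b e)
  have hker : ∀ a b e k, ∃ z : (kernel π).val.obj (op (Wc a b e)),
      ((kernel.ι π).val.app (op (Wc a b e))).hom z = ∑ x, cr a b e k x • uF a b e x := fun a b e k => by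
    refine FPLocal.exists_kernel_preimage π _ ?_
    have e1 := congrArg (φ.val.app (op (Wc a b e))).hom (hcr0 a b e k)
    rw [map_sum, map_zero] at e1
    rw [map_sum]
    refine Eq.trans (Finset.sum_congr rfl fun x _ => ?_) e1
    rw [map_smul, map_smul]
    refine congrArg (cr a b e k x • ·) ?_
    rcases x with i | i
    · exact (app_rsF π _ _).trans ((congrArg (rsF G _) (hT a i)).trans (app_rsF φ _ _).symm)
    · exact (map_neg _ _).trans ((congrArg Neg.neg ((app_rsF π _ _).trans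
        ((congrArg (rsF G _) (hT b i)).trans (app_rsF φ _ _).symm))).trans (map_neg _ _).symm)
  choose z hz using hker
  obtain ⟨j, hj⟩ := exists_index_family pK hmono
    (α := Σ a : A, Σ b : A, Σ e : β a b, ULift.{u} (Fin (l a b e))) (fun x => Wc x.1 x.2.1 x.2.2.1)
    (fun x => isCompact_opens hL _) fun x => z x.1 x.2.1 x.2.2.1 x.2.2.2
  let ψ : pK.diag.obj j ⟶ F := pK.ι.app j ≫ kernel.ι π
  let N := cokernel ψ
  let q : F ⟶ N := cokernel.π ψ
  let πb : N ⟶ G := cokernel.desc ψ π (by rw [Category.assoc, kernel.condition, comp_zero])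
  let t : ∀ a, I a → N.val.obj (op (U a)) := fun a i => (q.val.app (op (U a))).hom (T a i)
  have hcov : ∀ x : 𝔛.X 0, ∃ a, x ∈ U a := fun x => hcovU x trivial
  have hcomp : Compat s t := by
    intro a b W ha hb d d' hdd'
    refine eq_of_near N fun x hx => ?_
    obtain ⟨e, hxe⟩ := hcovW a b x ⟨ha hx, hb hx⟩
    refine ⟨W ⊓ Wc a b e, inf_le_left, ⟨hx, hxe⟩, ?_⟩
    let d'' : I a ⊕ I b → OR 𝔛 h (W ⊓ Wc a b e) :=
      Sum.elim (fun i => rsO 𝔛 h inf_le_left (d i)) fun i => rsO 𝔛 h inf_le_left (d' i)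
    have hτ : ∀ k, ∑ x, cr a b e k x • (q.val.app (op (Wc a b e))).hom (uF a b e x) = 0 := fun k => by
      obtain ⟨y, hy⟩ := hj ⟨a, b, e, k⟩
      rw [Finset.sum_congr rfl fun x _ => (map_smul (q.val.app (op (Wc a b e))).hom (cr a b e k x) (uF a b e x)).symm,
        ← map_sum, ← hz, ← hy]
      exact congrArg (fun g : pK.diag.obj j ⟶ N => (g.val.app (op (Wc a b e))).hom y) (cokernel.condition ψ)
    have hzero := eq_zero_of_relComplete (N := N) inf_le_right (cr a b e) (uC a b e)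
      (fun x => (q.val.app (op (Wc a b e))).hom (uF a b e x)) (hcr a b e) hτ d'' (by
        rw [Fintype.sum_sum_type]
        simp only [d'', uC, Sum.elim_inl, Sum.elim_inr, map_neg, rsF_rsF, smul_neg, Finset.sum_neg_distrib]
        rw [← sub_eq_add_neg, sub_eq_zero, ← rsF_comb C inf_le_left ha, ← rsF_comb C inf_le_left hb]
        exact congrArg _ hdd')
    rw [Fintype.sum_sum_type] at hzero
    simp only [d'', uF, Sum.elim_inl, Sum.elim_inr, map_neg, app_rsF, rsF_rsF, smul_neg, Finset.sum_neg_distrib] at hzero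
    rw [← sub_eq_add_neg, sub_eq_zero] at hzero
    rw [rsF_comb N inf_le_left ha, rsF_comb N inf_le_left hb]
    exact hzero
  obtain ⟨σ, hσ⟩ := exists_hom_of_gens hcov hs hcomp
  have hσπ : σ ≫ πb = φ := hom_ext_of_gens hcov hs fun a i => by
    refine (congrArg (πb.val.app (op (U a))).hom (hσ a i)).trans (Eq.trans ?_ (hT a i))
    exact congrArg (fun g : F ⟶ G => (g.val.app (op (U a))).hom (T a i)) (cokernel.π_desc ψ π _)
  obtain ⟨P, e, r, hP, hr, her⟩ := exists_coh_pullback hL ψ (hpK j) hC σ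
  refine ⟨P, e, r, hP, hr, ?_⟩
  rw [← hσπ, ← Category.assoc r σ πb, ← her, Category.assoc, cokernel.π_desc]

/-- An extension of filtered colimits of coherent modules. -/
theorem isInd_extension (hL : 𝔛.IsLocNoethFormal) [CompactSpace (𝔛.X 0)] {F G : FSch.ModF 𝔛 h} (π : F ⟶ G) [Epi π]
    (hK : IsInd (kernel π)) (hG : IsInd G) : IsInd F := by
  haveI := isQuasicoherent_of_ind hL hK
  haveI := isQuasicoherent_of_ind hL hG
  haveI := isQuasicoherent_extension π hL
  obtain ⟨J, _, _, pG, hpG⟩ := hG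
  choose I e r hI hr he using fun j => exists_coh_lift hL π hK (hpG j) (pG.ι.app j)
  obtain ⟨K, _, _, pK, hpK⟩ := hK
  refine isInd_of_family hL (A := J ⊕ K) (C := Sum.elim I fun k => pK.diag.obj k)
    (fun x => match x with
      | Sum.inl j => e j
      | Sum.inr k => pK.ι.app k ≫ kernel.ι π)
    (fun x => match x with
      | Sum.inl j => hI j
      | Sum.inr k => hpK k) ⟨fun {T} a b hab => ?_⟩
  have hc : ∀ x, _ := fun x => congrArg (Sigma.ι (Sum.elim I fun k => pK.diag.obj k) x ≫ ·) hab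
  rw [← sub_eq_zero]
  have h1 : kernel.ι π ≫ (a - b) = 0 := pK.isColimit.hom_ext fun k => by
    have e1 := hc (Sum.inr k)
    simp only [Sigma.ι_desc_assoc] at e1
    rw [Category.assoc] at e1
    rw [Preadditive.comp_sub, Preadditive.comp_sub, comp_zero, sub_eq_zero]
    exact e1.trans (Category.assoc _ _ _)
  let c := Abelian.epiDesc π (a - b) h1
  have hc' : π ≫ c = a - b := Abelian.comp_epiDesc π (a - b) h1
  have h2 : c = 0 := pG.isColimit.hom_ext fun j => by
    haveI := hr j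
    rw [← cancel_epi (r j), ← Category.assoc, ← he, Category.assoc, hc', comp_zero, comp_zero,
      Preadditive.comp_sub, sub_eq_zero]
    have e1 := hc (Sum.inl j)
    simp only [Sigma.ι_desc_assoc] at e1
    exact e1
  rw [← hc', h2, comp_zero]

/-- The middle term of an exact sequence of five modules. -/
theorem isInd_five (hL : 𝔛.IsLocNoethFormal) [CompactSpace (𝔛.X 0)] {A B M C E : FSch.ModF 𝔛 h} (f : A ⟶ B)
    (g : B ⟶ M) (k : M ⟶ C) (l : C ⟶ E) (hfg : f ≫ g = 0) (hgk : g ≫ k = 0) (hkl : k ≫ l = 0)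
    (e₁ : (ShortComplex.mk f g hfg).Exact) (e₂ : (ShortComplex.mk g k hgk).Exact)
    (e₃ : (ShortComplex.mk k l hkl).Exact) (hA : IsInd A) (hB : IsInd B) (hC : IsInd C) (hE : IsInd E) :
    IsInd M := by
  let kk : M ⟶ kernel l := kernel.lift l k hkl
  haveI : Epi kk := e₃.epi_kernelLift
  let q : cokernel f ⟶ M := cokernel.desc f g hfg
  haveI : Mono q := e₁.mono_cokernelDesc
  have hq : q ≫ kk = 0 := coequalizer.hom_ext (equalizer.hom_ext (by simp [q, kk, hgk]))
  let S : ShortComplex (FSch.ModF 𝔛 h) := ShortComplex.mk q kk hq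
  have hS : S.Exact := by
    let φ : ShortComplex.mk g kk (by rw [← cancel_mono (kernel.ι l)]; simp [kk, hgk]) ⟶ S :=
      { τ₁ := cokernel.π f, τ₂ := 𝟙 M, τ₃ := 𝟙 _ }
    rw [← ShortComplex.exact_iff_of_epi_of_isIso_of_mono φ]
    let ψ : ShortComplex.mk g kk (by rw [← cancel_mono (kernel.ι l)]; simp [kk, hgk]) ⟶ ShortComplex.mk g k hgk :=
      { τ₁ := 𝟙 _, τ₂ := 𝟙 M, τ₃ := kernel.ι l }
    rw [ShortComplex.exact_iff_of_epi_of_isIso_of_mono ψ]
    exact e₂
  haveI : Mono S.f := (inferInstance : Mono q)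
  let iso : cokernel f ≅ kernel kk := (IsLimit.conePointUniqueUpToIso hS.fIsKernel (kernelIsKernel S.g) :)
  exact isInd_extension hL kk (ObjectProperty.prop_of_iso _ iso (isInd_cokernel hL f hA hB)) (isInd_kernel hL l hC hE)

end Groth.Agent.FCompl
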