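import Groth.Agent.FComplLib.RpushLevel
import Groth.Agent.SiteCmpLib.Unbounded

/-!
# Derived direct images of complexes with quasi-coherent torsion homology
-/

set_option autoImplicit false
set_option linter.style.haveILetI false
set_option linter.unusedVariables false
set_option backward.isDefEq.respectTransparency false
set_option backward.isDefEq.respectTransparency.types false
set_option maxHeartbeats 1000000
universe u

open CategoryTheory CategoryTheory.Limits AlgebraicGeometry TopologicalSpace Opposite DerivedCategory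
attribute [local instance] HasDerivedCategory.standard

noncomputable section

namespace Groth.Agent.FCompl

variable {𝔛 𝔜 : FSch.Sys.{u}} {h : 𝔛.IsFormal} {h' : 𝔜.IsFormal}

theorem affQC_of_qct (hL : 𝔛.IsLocNoethFormal) {M : FSch.ModF 𝔛 h} (hM : FTors.IsQCT 𝔛 h M) : AffQC M := by
  haveI := hM.2
  exact affQC_of_ind hL (ind_of_qct hL hM.1)

theorem isT_empty : IsT (∐ fun a : PEmpty.{u + 1} => (a.elim : FSch.ModF 𝔛 h)) := isT_sigma _ fun a => a.elim

theorem isZero_empty : IsZero (∐ fun a : PEmpty.{u + 1} => (a.elim : FSch.ModF 𝔛 h)) :=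
  (IsZero.iff_id_eq_zero _).2 (Sigma.hom_ext _ _ fun a => a.elim)

/-- Quasi-coherent torsion modules form a weak Serre class. -/
theorem isWeakSerre_qct (hL : 𝔛.IsLocNoethFormal) :
    WSerre.IsWeakSerre (FTors.IsQCT 𝔛 h) where
  exists_zero := ⟨_, isZero_empty, isT_empty,
    (affQC_sigma (fun a : PEmpty.{u + 1} => (a.elim : FSch.ModF 𝔛 h)) fun a => a.elim).isQuasicoherent⟩
  kernels_le := by
    intro _ ⟨f, k, hk, hf⟩
    let e := IsLimit.conePointUniqueUpToIso (kernelIsKernel f) hk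
    exact ⟨isT_of_iso e (isT_of_mono hL (kernel.ι f) hf.1.1),
      (affQC_of_iso hL e (affQC_kernel hL f (affQC_of_qct hL hf.1) (affQC_of_qct hL hf.2))).isQuasicoherent⟩
  cokernels_le := by
    intro _ ⟨f, k, hk, hf⟩
    let e := IsColimit.coconePointUniqueUpToIso (cokernelIsCokernel f) hk
    exact ⟨isT_of_iso e (isT_of_epi (cokernel.π f) hf.2.1),
      (affQC_of_iso hL e (affQC_cokernel hL f (affQC_of_qct hL hf.1) (affQC_of_qct hL hf.2))).isQuasicoherent⟩
  prop_X₂_of_shortExact {S} hS h₁ h₃ := by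
    haveI := hS.epi_g
    exact ⟨isT_of_exact hL S.f S.g S.zero hS.exact h₁.1 h₃.1, (affQC_extension hL S.g
      (affQC_of_iso hL (show S.X₁ ≅ kernel S.g from hS.fIsKernel.conePointUniqueUpToIso (limit.isLimit _))
        (affQC_of_qct hL h₁)) (affQC_of_qct hL h₃)).isQuasicoherent⟩

/-- An extension of coherent modules is coherent. -/
theorem isCohF_extension (hL : 𝔛.IsLocNoethFormal) {F G : FSch.ModF 𝔛 h} (π : F ⟶ G) [Epi π]
    (hK : FSch.IsCohF 𝔛 h (kernel π)) (hG : FSch.IsCohF 𝔛 h G) : FSch.IsCohF 𝔛 h F := by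
  haveI := (affQC_extension hL π (affQC_of_coh hL hK) (affQC_of_coh hL hG)).isQuasicoherent
  haveI : SheafOfModules.IsFiniteType.{u} F := by
    refine FPLocal.isFiniteType_of_hasGen _ fun W => ⟨{ arrows := fun Z _ => FPLocal.HasGen F Z
                                                        downward_closed := fun {Y Z} _ hZ k => hZ.restrict k },
      fun x hx => ?_, fun Z _ hZ => hZ⟩
    obtain ⟨U, hU, hxU, hUW⟩ := exists_affine_le (𝔛 := 𝔛) hx
    refine ⟨U, homOfLE hUW, ?_, hxU⟩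
    obtain ⟨I, K, _, _, s, c, hs, h0, hc⟩ := hasRels_affine hL hK hU
    obtain ⟨I', K', _, _, s', c', hs', h0', hc'⟩ := hasRels_affine hL hG hU
    let D := relDataOfRels s c hs h0 hc
    let D' := relDataOfRels s' c' hs' h0' hc'
    haveI : Fintype D.I := (inferInstance : Fintype I)
    haveI : Fintype D'.I := (inferInstance : Fintype I')
    choose T hT using fun j => exists_lift_section π hL D hU le_rfl (FPLocal.mres G (homOfLE le_rfl).op (D'.t j))
    have H := genFin_extension (kernel.ι π) π D D' le_rfl le_rfl T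
      (fun W y hy => FPLocal.exists_kernel_preimage π y hy) hT
    refine ⟨D.I ⊕ D'.I, inferInstance, extGen (kernel.ι π) D D' le_rfl T, fun Z g m => ?_⟩
    obtain ⟨R, hR, hR'⟩ := H g m
    refine ⟨R, hR, fun Y l hl => ?_⟩
    obtain ⟨S, a, ha⟩ := hR' l hl
    classical
    refine ⟨fun i => if i ∈ S then a i else 0, ?_⟩
    rw [← ha, ← Finset.sum_subset (Finset.subset_univ S) (fun i _ hi => by simp only [if_neg hi, zero_smul])]
    exact Finset.sum_congr rfl fun i hi => by simp only [if_pos hi]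
  exact isCohF_of_qc_ft hL F

/-- Coherent torsion modules. -/
def CohT (h : 𝔛.IsFormal) : ObjectProperty (FSch.ModF 𝔛 h) := fun M => IsT M ∧ FSch.IsCohF 𝔛 h M

theorem isWeakSerre_cohT (hL : 𝔛.IsLocNoethFormal) : WSerre.IsWeakSerre (CohT h) where
  exists_zero := ⟨_, isZero_empty, isT_empty, isCohF_sigma hL (fun a : PEmpty.{u + 1} => (a.elim : FSch.ModF 𝔛 h))
    fun a => a.elim⟩
  kernels_le := by
    intro _ ⟨f, k, hk, hf⟩
    let e := IsLimit.conePointUniqueUpToIso (kernelIsKernel f) hk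
    refine ⟨isT_of_iso e (isT_of_mono hL (kernel.ι f) hf.1.1), ?_⟩
    haveI : SheafOfModules.IsQuasicoherent.{u} (kernel f) :=
      (affQC_kernel hL f (affQC_of_coh hL hf.1.2) (affQC_of_coh hL hf.2.2)).isQuasicoherent
    haveI : SheafOfModules.IsFiniteType.{u} (kernel f) := isFiniteType_of_mono (𝔊 := kernel f) hL hf.1.2 (kernel.ι f)
    exact (SheafOfModules.isFinitePresentation (ModSite.ringSh (𝔛.Osh h))).prop_of_iso e (isCohF_of_qc_ft hL (kernel f))
  cokernels_le := by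
    intro _ ⟨f, k, hk, hf⟩
    let e := IsColimit.coconePointUniqueUpToIso (cokernelIsCokernel f) hk
    refine ⟨isT_of_iso e (isT_of_epi (cokernel.π f) hf.2.1), ?_⟩
    haveI : SheafOfModules.IsQuasicoherent.{u} (cokernel f) :=
      (affQC_cokernel hL f (affQC_of_coh hL hf.1.2) (affQC_of_coh hL hf.2.2)).isQuasicoherent
    haveI : SheafOfModules.IsFinitePresentation (R := ModSite.ringSh (𝔛.Osh h)) _ := hf.2.2
    haveI := isFiniteType_of_epi (cokernel.π f)
    exact (SheafOfModules.isFinitePresentation (ModSite.ringSh (𝔛.Osh h))).prop_of_iso e (isCohF_of_qc_ft hL (cokernel f))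
  prop_X₂_of_shortExact {S} hS h₁ h₃ := by
    haveI := hS.epi_g
    exact ⟨isT_of_exact hL S.f S.g S.zero hS.exact h₁.1 h₃.1, isCohF_extension hL S.g
      ((SheafOfModules.isFinitePresentation (ModSite.ringSh (𝔛.Osh h))).prop_of_iso
        (show S.X₁ ≅ kernel S.g from hS.fIsKernel.conePointUniqueUpToIso (limit.isLimit _)) h₁.2) h₃.2⟩

/-- Higher direct images are zero in high degrees. -/
theorem exists_rpushF_bound (hL : 𝔛.IsLocNoethFormal) [CompactSpace (𝔛.X 0)] [CompactSpace (𝔜.X 0)]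
    [HasInjectiveResolutions (FSch.ModF 𝔛 h)] (f : 𝔛 ⟶ 𝔜) :
    ∃ N : ℕ, ∀ F : FSch.ModF 𝔛 h, AffQC F → ∀ p : ℕ, N < p → IsZero ((FSch.RpushF f h h' p).obj F) := by
  classical
  obtain ⟨A, hA, V, gV, hcov, hV⟩ := FPLocal.exists_finite_cover (U := (⊤ : (𝔜.X 0).Opens))
    (P := fun W _ => IsAffineOpen W) (by simpa using isCompact_univ) fun x hx => by
      obtain ⟨W, hW, hxW, -⟩ := exists_affine_le (𝔛 := 𝔜) hx
      exact ⟨W, homOfLE le_top, hxW, hW⟩
  choose t ht using fun a => exists_cd_preimage (h := h) hL f (V a)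
  refine ⟨Finset.univ.sup t, fun F hF p hp => ?_⟩
  obtain ⟨k, rfl⟩ : ∃ k, p = k + 1 := ⟨p - 1, by omega⟩
  refine isZero_rpushF_of_bound f F (Finset.univ.sup t) (fun W x hx => ?_) k (by omega)
  obtain ⟨a, hxa⟩ := hcov x trivial
  obtain ⟨g, hgW, hxg⟩ := (hV a).exists_basicOpen_le (V := W) ⟨x, hx⟩ hxa
  exact ⟨_, hgW, hxg, fun j hj => ht a g F hF (j + 1)
    (((Finset.le_sup (Finset.mem_univ a)).trans hj).trans (Nat.le_succ j))⟩

variable [CompactSpace (𝔛.X 0)] [CompactSpace (𝔜.X 0)] (f : 𝔛 ⟶ 𝔜)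

theorem cohIn_rpushD_aux (hL : 𝔛.IsLocNoethFormal) (hL' : 𝔜.IsLocNoethFormal)
    [HasInjectiveResolutions (FSch.ModF 𝔛 h)] [SiteCmp.HasRpushD (FSch.homMor f h h')]
    (A : ObjectProperty (FSch.ModF 𝔛 h)) [WSerre.IsWeakSerre A]
    (A' : ObjectProperty (FSch.ModF 𝔜 h')) [WSerre.IsWeakSerre A']
    (hAq : ∀ F, A F → AffQC F) (hAq' : ∀ F, A' F → AffQC F)
    (hR : ∀ F, A F → ∀ p : ℕ, A' ((FSch.RpushF f h h' p).obj F))
    (K : DerivedCategory (FSch.ModF 𝔛 h)) (hK : ∀ i : ℤ, A (SiteCmp.HMod K i)) (i : ℤ) :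
    A' (SiteCmp.HMod ((SiteCmp.RpushD (FSch.homMor f h h')).obj K) i) := by
  obtain ⟨N, hN⟩ := exists_rpushF_bound (h := h) (h' := h') hL f
  refine (SiteCmpLib.cohIn_and_isIso_truncGEπ (FSch.homMor f h h') A {U | IsAffineOpen U} {V | IsAffineOpen V}
    exists_affine_cover (fun U hU => ⟨0, fun T hT => ?_⟩) exists_affine_cover (N : ℤ)
    (fun F hF p hp => hN F (hAq F hF) p (by omega)) K hK A' hR (fun U hU => ⟨0, fun T hT => ?_⟩)).1 i
  · obtain ⟨ι, Y, gY, h1, h2, h3⟩ := exists_affine_refinement T hT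
    exact ⟨ι, Y, gY, h1, h2, fun j F hF k hk => subsingleton_siteHU hL (hAq F hF) (h3 j) k hk⟩
  · obtain ⟨ι, Y, gY, h1, h2, h3⟩ := exists_affine_refinement T hT
    exact ⟨ι, Y, gY, h1, h2, fun j F hF k hk => subsingleton_siteHU hL' (hAq' F hF) (h3 j) k hk⟩

/-- Derived direct image keeps quasi-coherent torsion homology. -/
theorem qct_rpushD (hL : 𝔛.IsLocNoethFormal) (hL' : 𝔜.IsLocNoethFormal) [SiteCmp.HasRpushD (FSch.homMor f h h')]
    (K : DerivedCategory (FSch.ModF 𝔛 h)) (hK : FTors.IsDQCT 𝔛 h K) :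
    FTors.IsDQCT 𝔜 h' ((SiteCmp.RpushD (FSch.homMor f h h')).obj K) := fun i => by
  haveI := isWeakSerre_qct (h := h) hL
  haveI := isWeakSerre_qct (h := h') hL'
  haveI : IsGrothendieckAbelian.{u} (FSch.ModF 𝔛 h) := ModTensor.isGrothendieckAbelian_mod (𝔛.Osh h)
  haveI : HasInjectiveResolutions (FSch.ModF 𝔛 h) := inferInstance
  exact cohIn_rpushD_aux f hL hL' (FTors.IsQCT 𝔛 h) (FTors.IsQCT 𝔜 h') (fun F hF => affQC_of_qct hL hF)
    (fun F hF => affQC_of_qct hL' hF) (fun F hF p => qct_rpushF (h := h) (h' := h') f hL hL' hF p) K hK i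

/-- Derived direct image along a proper morphism keeps coherent torsion homology. -/
theorem cohT_rpushD (hL : 𝔛.IsLocNoethFormal) (hL' : 𝔜.IsLocNoethFormal) [IsProper ((f : FSch.Hom 𝔛 𝔜).app 0)]
    [SiteCmp.HasRpushD (FSch.homMor f h h')] (K : DerivedCategory (FSch.ModF 𝔛 h))
    (hK : FTors.IsDQCT 𝔛 h K) (hKc : ∀ i : ℤ, FSch.IsCohF 𝔛 h (SiteCmp.HMod K i)) (i : ℤ) :
    FSch.IsCohF 𝔜 h' (SiteCmp.HMod ((SiteCmp.RpushD (FSch.homMor f h h')).obj K) i) := by
  haveI := isWeakSerre_cohT (h := h) hL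
  haveI := isWeakSerre_cohT (h := h') hL'
  haveI : IsGrothendieckAbelian.{u} (FSch.ModF 𝔛 h) := ModTensor.isGrothendieckAbelian_mod (𝔛.Osh h)
  haveI : HasInjectiveResolutions (FSch.ModF 𝔛 h) := inferInstance
  exact (cohIn_rpushD_aux f hL hL' (CohT h) (CohT h') (fun F hF => affQC_of_coh hL hF.2)
    (fun F hF => affQC_of_coh hL' hF.2) (fun F hF p => ⟨(qct_rpushF (h := h) (h' := h') f hL hL'
      ⟨hF.1, (affQC_of_coh hL hF.2).isQuasicoherent⟩ p).1, coh_rpushF (h := h) (h' := h') f hL hL' hF.1 hF.2 p⟩) K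
    (fun i => ⟨(hK i).1, hKc i⟩) i).2

/-- Direct image is the zeroth higher direct image. -/
def rpushFZeroIso [HasInjectiveResolutions (FSch.ModF 𝔛 h)] : FSch.RpushF f h h' 0 ≅ FSch.pushF f h h' :=
  (FSch.pushF f h h').rightDerivedZeroIsoSelf

theorem qct_pushF (hL : 𝔛.IsLocNoethFormal) (hL' : 𝔜.IsLocNoethFormal) {M : FSch.ModF 𝔛 h}
    (hM : FTors.IsQCT 𝔛 h M) : FTors.IsQCT 𝔜 h' ((FSch.pushF f h h').obj M) := by
  haveI : IsGrothendieckAbelian.{u} (FSch.ModF 𝔛 h) := ModTensor.isGrothendieckAbelian_mod (𝔛.Osh h)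
  haveI : HasInjectiveResolutions (FSch.ModF 𝔛 h) := inferInstance
  have H := qct_rpushF (h := h) (h' := h') f hL hL' hM 0
  let e := (rpushFZeroIso (h := h) (h' := h') f).app M
  exact ⟨isT_of_iso e H.1, (SheafOfModules.isQuasicoherent.{u} (ModSite.ringSh (𝔜.Osh h'))).prop_of_iso e H.2⟩

theorem coh_pushF (hL : 𝔛.IsLocNoethFormal) (hL' : 𝔜.IsLocNoethFormal) [IsProper ((f : FSch.Hom 𝔛 𝔜).app 0)]
    {M : FSch.ModF 𝔛 h} (hM : IsT M) (hMc : FSch.IsCohF 𝔛 h M) :
    FSch.IsCohF 𝔜 h' ((FSch.pushF f h h').obj M) := by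
  haveI : IsGrothendieckAbelian.{u} (FSch.ModF 𝔛 h) := ModTensor.isGrothendieckAbelian_mod (𝔛.Osh h)
  haveI : HasInjectiveResolutions (FSch.ModF 𝔛 h) := inferInstance
  exact (SheafOfModules.isFinitePresentation (ModSite.ringSh (𝔜.Osh h'))).prop_of_iso
    ((rpushFZeroIso (h := h) (h' := h') f).app M) (coh_rpushF (h := h) (h' := h') f hL hL' hM hMc 0)

end Groth.Agent.FCompl
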