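import Groth.Agent.FComplLib.QCKernel
import Groth.Agent.FPLocal.Coprod

/-!
# Colimits of filtered colimits of coherent modules
-/

set_option autoImplicit false
set_option linter.style.haveILetI false
set_option linter.unusedVariables false
set_option backward.isDefEq.respectTransparency false
set_option backward.isDefEq.respectTransparency.types false
set_option maxHeartbeats 4000000
universe u

open CategoryTheory CategoryTheory.Limits AlgebraicGeometry TopologicalSpace Opposite

noncomputable section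

namespace Groth.Agent.FCompl

variable {𝔛 : FSch.Sys.{u}} {h : 𝔛.IsFormal}

/-- Generators and finite relations over every affine open. -/
def AffQC (𝔉 : FSch.ModF 𝔛 h) : Prop :=
  ∀ U : (𝔛.X 0).Opens, IsAffineOpen U → ∃ (I : Type u) (t : I → 𝔉.val.obj (op U)), GenFin 𝔉 t ∧ RelFin 𝔉 t

theorem AffQC.isQuasicoherent {𝔉 : FSch.ModF 𝔛 h} (H : AffQC 𝔉) : SheafOfModules.IsQuasicoherent.{u} 𝔉 :=
  isQuasicoherent_of_genFin 𝔉 fun W => ⟨affSieve _ W, affSieve_mem _ W, fun Z g hg => by
    obtain ⟨Z', hZ', hZZ', -⟩ := hg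
    exact ⟨Z', homOfLE hZZ', H Z' hZ'⟩⟩

theorem affQC_colim (hL : 𝔛.IsLocNoethFormal) {K : Type u} [SmallCategory K] [IsFiltered K]
    {D : K ⥤ FSch.ModF 𝔛 h} {c : Cocone D} (hc : IsColimit c) (hD : ∀ i, FSch.IsCohF 𝔛 h (D.obj i)) :
    AffQC c.pt := fun U hU => ⟨_, _, genFin_colim hL hD hc hU, relFin_colim hL hD hc hU⟩

theorem affQC_of_coh (hL : 𝔛.IsLocNoethFormal) {𝔉 : FSch.ModF 𝔛 h} (h𝔉 : FSch.IsCohF 𝔛 h 𝔉) : AffQC 𝔉 :=
  affQC_colim hL (ColimitPresentation.self (C := FSch.ModF 𝔛 h) 𝔉 : ColimitPresentation PUnit.{u+1} 𝔉).isColimit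
    fun _ => h𝔉

section Sigma

variable {A : Type u} (F : A → FSch.ModF 𝔛 h) {U : (𝔛.X 0).Opens} {I : A → Type u}
  (t : ∀ a, I a → (F a).val.obj (op U))

/-- The generators of a coproduct. -/
def sigmaGen (p : Σ a, I a) : (∐ F).val.obj (op U) := ((Sigma.ι F p.1).val.app (op U)).hom (t p.1 p.2)

theorem genFin_sigma (ht : ∀ a, GenFin (F a) (t a)) : GenFin (∐ F) (sigmaGen F t) := by
  classical
  refine genFin_of_family fun W g m => ?_
  refine FPLocal.Locally.bind (FPLocal.locally_exists_finsum F m) fun Z l ⟨S, y, hy⟩ => ?_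
  refine (FPLocal.Locally.forall (ι := ↥S) fun a => ht a.1 (l ≫ g) (y a.1)).mono fun Y q hq => ?_
  choose T c hc using hq
  refine ⟨Σ a : ↥S, ↥(T a), inferInstance, fun x => ⟨x.1.1, x.2.1⟩, fun x => c x.1 x.2.1, ?_⟩
  refine Eq.trans ?_ (((FPLocal.mres_comp (M := ∐ F) l.op q.op m).trans
    ((congrArg (FPLocal.mres (∐ F) q.op) hy).trans (map_sum _ _ _))).symm)
  rw [Fintype.sum_sigma, ← Finset.sum_coe_sort S]
  refine Finset.sum_congr rfl fun a _ => ?_
  rw [← FPLocal.app_mres, ← hc a, map_sum, ← Finset.sum_coe_sort (T a)]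
  refine Finset.sum_congr rfl fun i _ => ?_
  rw [map_smul, FPLocal.app_mres, Category.assoc]
  rfl

theorem relFin_sigma (ht : ∀ a, RelFin (F a) (t a)) : RelFin (∐ F) (sigmaGen F t) := by
  classical
  refine relFin_of_family fun W g S d hd0 hd => ?_
  let SA : Finset A := S.image Sigma.fst
  let Si : ∀ a, Finset (I a) := fun a => S.preimage (Sigma.mk a) fun _ _ _ _ e => eq_of_heq (Sigma.mk.inj e).2
  have hproj : ∀ a, ∑ i ∈ Si a, d ⟨a, i⟩ • FPLocal.mres (F a) g.op (t a i) = 0 := fun a => by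
    have e := congrArg ((FPLocal.coprodProj F a).val.app (op W)).hom hd
    rw [map_zero, map_sum] at e
    refine Eq.trans ?_ e
    have h1 : ∀ p : Σ a, I a, ((FPLocal.coprodProj F a).val.app (op W)).hom
        (d p • FPLocal.mres (∐ F) g.op (sigmaGen F t p)) =
        if hp : p.1 = a then d p • FPLocal.mres (F a) g.op (((eqToHom (congrArg F hp)).val.app (op U)).hom (t p.1 p.2))
        else 0 := fun p => by
      rw [map_smul, FPLocal.app_mres, sigmaGen, FPLocal.coprodProj_ι]
      split_ifs with hp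
      · rfl
      · rw [map_zero, smul_zero]
    rw [Finset.sum_congr rfl fun p _ => h1 p]
    refine Eq.trans ?_ (Finset.sum_filter_of_ne (p := fun p : Σ a, I a => p.1 = a) fun p _ hp => by
      by_contra h'; exact hp (dif_neg h'))
    refine Finset.sum_bij (fun i _ => (⟨a, i⟩ : Σ a, I a)) (fun i hi => Finset.mem_filter.2 ⟨Finset.mem_preimage.1 hi, rfl⟩)
      (fun i _ j _ e => eq_of_heq (Sigma.mk.inj e).2) (fun p hp => ?_) fun i _ => ?_
    · obtain ⟨hp', rfl⟩ := Finset.mem_filter.1 hp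
      exact ⟨p.2, Finset.mem_preimage.2 hp', rfl⟩
    · rw [dif_pos rfl]
      rfl
  refine (FPLocal.Locally.forall (ι := ↥SA) fun a => ht a.1 g (Si a.1) (fun i => d ⟨a.1, i⟩)
    (fun i hi => hd0 _ fun hc => hi (Finset.mem_preimage.2 hc)) (hproj a.1)).mono fun Z l hl => ?_
  choose T e he using hl
  let lift : ∀ a, FinRel (F a) (t a) → FinRel (∐ F) (sigmaGen F t) := fun a c =>
    ⟨c.1.mapDomain (Sigma.mk a), by
      refine (Finsupp.sum_mapDomain_index
        (h := fun p (x : (ModSite.ringSh (𝔛.Osh h)).obj.obj (op U)) => x • sigmaGen F t p)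
        (fun p => zero_smul _ _) (fun p x y => add_smul x y _)).trans ?_
      refine Eq.trans ?_ ((congrArg ((Sigma.ι F a).val.app (op U)).hom c.2).trans (map_zero _))
      rw [map_finsuppSum]
      exact Finsupp.sum_congr fun i _ => (map_smul _ _ _).symm⟩
  refine ⟨Σ a : ↥SA, ↥(T a), inferInstance, fun x => e x.1 x.2.1, fun x => lift x.1.1 x.2.1, fun p => ?_⟩
  obtain ⟨b, i⟩ := p
  have hlift : ∀ (a : A) (c : FinRel (F a) (t a)),
      (lift a c).1 ⟨b, i⟩ = if hab : a = b then c.1 (hab ▸ i) else 0 := fun a c => by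
    show Finsupp.mapDomain _ c.1 _ = _
    split_ifs with hab
    · subst hab
      exact Finsupp.mapDomain_apply (fun x y e => eq_of_heq (Sigma.mk.inj e).2) _ _
    · refine Finsupp.mapDomain_notin_range _ _ ?_
      rintro ⟨j, hj⟩
      exact hab (Sigma.mk.inj hj).1
  rw [Fintype.sum_sigma]
  by_cases hb : b ∈ SA
  · rw [Finset.sum_eq_single (⟨b, hb⟩ : ↥SA) (fun a _ hab => Finset.sum_eq_zero fun c _ => by
      rw [hlift, dif_neg fun h' => hab (Subtype.ext h'), map_zero, mul_zero]) fun h' => absurd (Finset.mem_univ _) h']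
    rw [Finset.sum_coe_sort (T ⟨b, hb⟩) fun c => e ⟨b, hb⟩ c *
      ((ModSite.ringSh (𝔛.Osh h)).obj.map (l ≫ g).op).hom ((lift b c).1 ⟨b, i⟩)]
    refine Eq.trans (Finset.sum_congr rfl fun c _ => ?_) (he ⟨b, hb⟩ i)
    rw [hlift, dif_pos rfl]
  · rw [hd0 ⟨b, i⟩ fun hc => hb (Finset.mem_image.2 ⟨_, hc, rfl⟩), map_zero]
    refine Finset.sum_eq_zero fun a _ => Finset.sum_eq_zero fun c _ => ?_
    rw [hlift, dif_neg (show ¬ (a.1 = b) from fun h' => hb (h' ▸ a.2)), map_zero, mul_zero]

end Sigma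

theorem affQC_sigma {A : Type u} (F : A → FSch.ModF 𝔛 h) (H : ∀ a, AffQC (F a)) : AffQC (∐ F) := fun U hU => by
  choose I t hg hr using fun a => H a U hU
  exact ⟨_, _, genFin_sigma F t hg, relFin_sigma F t hr⟩

/-- Finite coproducts of coherent modules are coherent. -/
theorem isCohF_sigma (hL : 𝔛.IsLocNoethFormal) {A : Type u} [Finite A] (F : A → FSch.ModF 𝔛 h)
    (H : ∀ a, FSch.IsCohF 𝔛 h (F a)) : FSch.IsCohF 𝔛 h (∐ F) := by
  classical
  haveI := Fintype.ofFinite A
  haveI := (affQC_sigma F fun a => affQC_of_coh hL (H a)).isQuasicoherent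
  haveI : SheafOfModules.IsFiniteType.{u} (∐ F) := isFiniteType_of_affine _ fun U hU => by
    choose I K hI hK s c hs h0 hc using fun a => hasRels_affine hL (H a) hU
    have hg : GenFin (∐ F) (sigmaGen F s) := genFin_sigma F s fun a W g m => by
      obtain ⟨S, hS, hS'⟩ := hs a g m
      exact ⟨S, hS, fun Z l hl => ⟨Finset.univ, hS' l hl⟩⟩
    refine ⟨Σ a, I a, inferInstance, sigmaGen F s, fun W g m => ?_⟩
    obtain ⟨S, hS, hS'⟩ := hg g m
    refine ⟨S, hS, fun Z l hl => ?_⟩
    obtain ⟨T, a, ha⟩ := hS' l hl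
    refine ⟨fun i => if i ∈ T then a i else 0, Eq.trans ?_ ha⟩
    rw [← Finset.sum_subset (Finset.subset_univ T) fun i _ hi => (congrArg (· • _) (if_neg hi)).trans (zero_smul _ _)]
    exact Finset.sum_congr rfl fun i hi => congrArg (· • _) (if_pos hi)
  exact isCohF_of_qc_ft hL _

/-- Colimits of modules with generators and relations on affine opens are quasi-coherent. -/
theorem isQuasicoherent_colimit (hL : 𝔛.IsLocNoethFormal) {J : Type u} [SmallCategory J]
    {D : J ⥤ FSch.ModF 𝔛 h} {c : Cocone D} (hc : IsColimit c) (H : ∀ j, AffQC (D.obj j)) :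
    SheafOfModules.IsQuasicoherent.{u} c.pt := by
  let P0 := ∐ fun j => D.obj j
  let P1 := ∐ fun u : Σ p : J × J, (p.1 ⟶ p.2) => D.obj u.1.1
  haveI : SheafOfModules.IsQuasicoherent.{u} P0 := (affQC_sigma _ H).isQuasicoherent
  haveI : SheafOfModules.IsQuasicoherent.{u} P1 := (affQC_sigma (fun u : Σ p : J × J, (p.1 ⟶ p.2) => D.obj u.1.1) fun u => H u.1.1).isQuasicoherent
  let δ : P1 ⟶ P0 := Sigma.desc fun u =>
    D.map u.2 ≫ Sigma.ι (fun j => D.obj j) u.1.2 - Sigma.ι (fun j => D.obj j) u.1.1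
  let q : P0 ⟶ c.pt := Sigma.desc fun j => c.ι.app j
  have hq : δ ≫ q = 0 := Sigma.hom_ext _ _ fun u => by
    simp only [δ, q, Sigma.ι_desc_assoc, Preadditive.sub_comp, Category.assoc, Sigma.ι_desc, comp_zero]
    rw [c.w u.2, sub_self]
  let cc : Cocone D :=
    { pt := cokernel δ
      ι := { app := fun j => Sigma.ι (fun j => D.obj j) j ≫ cokernel.π δ
             naturality := fun i j u => by
               have e := congrArg (Sigma.ι (fun u : Σ p : J × J, (p.1 ⟶ p.2) => D.obj u.1.1) ⟨(i, j), u⟩ ≫ ·)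
                 (cokernel.condition δ)
               simp only [δ, Sigma.ι_desc_assoc, Preadditive.sub_comp, Category.assoc, comp_zero, sub_eq_zero] at e
               rw [Functor.const_obj_map]
               exact e.trans (Category.comp_id _).symm } }
  haveI := isQuasicoherent_cokernel δ hL
  let e : cokernel δ ≅ c.pt :=
    { hom := cokernel.desc δ q hq
      inv := hc.desc cc
      hom_inv_id := by
        refine coequalizer.hom_ext (Sigma.hom_ext _ _ fun j => ?_)
        rw [cokernel.π_desc_assoc]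
        simp only [q, Sigma.ι_desc_assoc, hc.fac]
        exact congrArg (Sigma.ι (fun j => D.obj j) j ≫ ·) (Category.comp_id _).symm
      inv_hom_id := hc.hom_ext fun j => by
        rw [hc.fac_assoc, Category.comp_id]
        simp [cc, q] }
  exact (SheafOfModules.isQuasicoherent.{u} (ModSite.ringSh (𝔛.Osh h))).prop_of_iso e inferInstance

end Groth.Agent.FCompl
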