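import Groth.Agent.FComplLib.CechHigh
import Groth.Agent.FComplLib.QCColimit

/-!
# Cohomology vanishes on affine opens for filtered colimits of coherent modules
-/

set_option autoImplicit false
set_option linter.style.haveILetI false
set_option linter.unusedVariables false
set_option backward.isDefEq.respectTransparency false
set_option backward.isDefEq.respectTransparency.types false
set_option maxHeartbeats 4000000
universe u

open CategoryTheory CategoryTheory.Limits AlgebraicGeometry TopologicalSpace Opposite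

noncomputable section

namespace Groth.Agent.FCompl

variable {𝔛 : FSch.Sys.{u}} {h : 𝔛.IsFormal} {M : FSch.ModF 𝔛 h} {U : (𝔛.X 0).Opens}

/-- Generators and relations over a fixed open. -/
def relDataOfFin {I : Type u} {t : I → M.val.obj (op U)} (hg : GenFin M t) (hr : RelFin M t) : RelData M U where
  I := I
  K := FinRel M t
  t := t
  r := fun k => ⇑k.1
  gen := hg
  rel := fun k => ⟨⊤, GrothendieckTopology.top_mem _ _, fun Z g _ => ⟨k.1.support, fun i hi => by
    rw [Finsupp.notMem_support_iff.1 hi, map_zero], by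
    have e := congrArg (FPLocal.mres M g.op) k.2
    rw [map_zero, Finsupp.sum, map_sum] at e
    refine Eq.trans (Finset.sum_congr rfl fun i _ => ?_) e
    exact (PresheafOfModules.map_smul M.val g.op _ _).symm⟩⟩
  complete := hr

theorem subsingleton_HU_of_affQC (hL : 𝔛.IsLocNoethFormal) (H : AffQC M) (hU : IsAffineOpen U) (k : ℕ) :
    Subsingleton (CohBase.HU U ((SheafOfModules.toSheaf (ModSite.ringSh (𝔛.Osh h))).obj M) (k + 1)) := by
  obtain ⟨I, t, hg, hr⟩ := H U hU
  exact subsingleton_HU_qc hL (relDataOfFin hg hr) hU le_rfl k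

theorem affQC_of_ind (hL : 𝔛.IsLocNoethFormal)
    (hM : (ObjectProperty.ind.{u} fun 𝔊 : FSch.ModF 𝔛 h => FSch.IsCohF 𝔛 h 𝔊) M) : AffQC M := by
  obtain ⟨K, hK, hKf, p, hp⟩ := hM
  exact affQC_colim hL p.isColimit hp

theorem subsingleton_HF_of_isAffine (hL : 𝔛.IsLocNoethFormal) [IsAffine (𝔛.X 0)] (H : AffQC M) (k : ℕ) :
    Subsingleton (FSch.HF 𝔛 h M (k + 1)) :=
  haveI := subsingleton_HU_of_affQC hL H (isAffineOpen_top (𝔛.X 0)) k
  (CohBase.HEquiv (X := (𝔛.X 0)) ((SheafOfModules.toSheaf (ModSite.ringSh (𝔛.Osh h))).obj M) (k + 1)).toEquiv.subsingleton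

end Groth.Agent.FCompl
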