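import Groth.Agent.FComplLib.Extension
import Groth.Agent.FComplLib.Vanish
import Groth.Prelude.Def_WeakSerre

/-!
# Modules with generators and relations on affine opens form a weak Serre class
-/

set_option autoImplicit false
set_option linter.style.haveILetI false
set_option linter.unusedVariables false
set_option backward.isDefEq.respectTransparency false
set_option backward.isDefEq.respectTransparency.types false
set_option maxHeartbeats 2000000
universe u

open CategoryTheory CategoryTheory.Limits AlgebraicGeometry TopologicalSpace Opposite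

noncomputable section

namespace Groth.Agent.FCompl

variable {𝔛 : FSch.Sys.{u}} {h : 𝔛.IsFormal} {F G : FSch.ModF 𝔛 h}

theorem affQC_kernel (hL : 𝔛.IsLocNoethFormal) (φ : F ⟶ G) (hF : AffQC F) (hG : AffQC G) : AffQC (kernel φ) :=
  fun U hU => by
    obtain ⟨I, t, hg, hr⟩ := hF U hU
    obtain ⟨I', t', hg', hr'⟩ := hG U hU
    exact ⟨_, _, genFin_kernel φ hL (relDataOfFin hg hr) (relDataOfFin hg' hr') hU le_rfl le_rfl,
      relFin_kernel φ hL (relDataOfFin hg hr) hU le_rfl⟩

theorem affQC_cokernel (hL : 𝔛.IsLocNoethFormal) (φ : F ⟶ G) (hF : AffQC F) (hG : AffQC G) : AffQC (cokernel φ) :=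
  fun U hU => by
    obtain ⟨I, t, hg, hr⟩ := hF U hU
    obtain ⟨I', t', hg', hr'⟩ := hG U hU
    exact ⟨_, _, genFin_cokernel φ (relDataOfFin hg' hr') le_rfl,
      relFin_cokernel φ hL (relDataOfFin hg hr) (relDataOfFin hg' hr') hU le_rfl le_rfl⟩

theorem affQC_of_iso (hL : 𝔛.IsLocNoethFormal) (e : F ≅ G) (hF : AffQC F) : AffQC G := fun U hU => by
  obtain ⟨I, t, hg, hr⟩ := hF U hU
  obtain ⟨I', t', hg', hr'⟩ := affQC_kernel hL (𝟙 F) hF hF U hU
  have hz : IsZero (kernel (𝟙 F)) := isZero_kernel_of_mono _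
  haveI : Mono (0 : kernel (𝟙 F) ⟶ G) := ⟨fun a b _ => hz.eq_of_tgt a b⟩
  let D := relDataOfFin hg' hr'
  let D'' := relDataOfFin hg hr
  let T : I → G.val.obj (op U) := fun i => (e.hom.val.app (op U)).hom (t i)
  have hinv : ∀ (W : (𝔛.X 0).Opens) (m : G.val.obj (op W)),
      (e.hom.val.app (op W)).hom ((e.inv.val.app (op W)).hom m) = m := fun W m =>
    congr($(e.inv_hom_id).val.app (op W) m)
  have hT : ∀ j, (e.inv.val.app (op U)).hom (T j) = FPLocal.mres F (homOfLE le_rfl).op (D''.t j) := fun j =>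
    (congr($(e.hom_inv_id).val.app (op U) (t j))).trans (FPLocal.mres_id (M := F) (t j)).symm
  have hex : ∀ (W : (𝔛.X 0).Opens) (y : G.val.obj (op W)), (e.inv.val.app (op W)).hom y = 0 →
      ∃ w, ((0 : kernel (𝟙 F) ⟶ G).val.app (op W)).hom w = y := fun W y hy => ⟨0, by
    rw [map_zero, ← hinv W y, hy, map_zero]⟩
  exact ⟨_, _, genFin_extension (0 : kernel (𝟙 F) ⟶ G) e.inv D D'' (le_refl U) (le_refl U) T hex hT,
    relFin_extension (0 : kernel (𝟙 F) ⟶ G) e.inv D D'' (le_refl U) (le_refl U) T zero_comp hex hT hL hU⟩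

theorem affQC_extension (hL : 𝔛.IsLocNoethFormal) (π : F ⟶ G) [Epi π] (hK : AffQC (kernel π)) (hG : AffQC G) :
    AffQC F := fun U hU => by
  obtain ⟨I, t, hg, hr⟩ := hG U hU
  obtain ⟨I', t', hg', hr'⟩ := hK U hU
  let D := relDataOfFin hg' hr'
  let D'' := relDataOfFin hg hr
  choose T hT using fun j => exists_lift_section π hL D hU le_rfl (FPLocal.mres G (homOfLE (le_refl U)).op (D''.t j))
  have hex : ∀ (W : (𝔛.X 0).Opens) (y : F.val.obj (op W)), (π.val.app (op W)).hom y = 0 →
      ∃ w, ((kernel.ι π).val.app (op W)).hom w = y := fun W y hy => FPLocal.exists_kernel_preimage π y hy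
  exact ⟨_, _, genFin_extension (kernel.ι π) π D D'' (le_refl U) (le_refl U) T hex hT,
    relFin_extension (kernel.ι π) π D D'' (le_refl U) (le_refl U) T (kernel.condition π) hex hT hL hU⟩

/-- Generators and relations on affine opens give a weak Serre class. -/
theorem isWeakSerre_affQC (hL : 𝔛.IsLocNoethFormal) :
    WSerre.IsWeakSerre (fun F : FSch.ModF 𝔛 h => AffQC F : ObjectProperty (FSch.ModF 𝔛 h)) where
  exists_zero := ⟨_, IsZero.iff_id_eq_zero _ |>.2 (Sigma.hom_ext _ _ fun a => a.elim),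
    affQC_sigma (fun a : PEmpty.{u + 1} => (a.elim : FSch.ModF 𝔛 h)) fun a => a.elim⟩
  kernels_le := by
    intro _ ⟨f, k, hk, hf⟩
    exact affQC_of_iso hL (IsLimit.conePointUniqueUpToIso (kernelIsKernel f) hk) (affQC_kernel hL f hf.1 hf.2)
  cokernels_le := by
    intro _ ⟨f, k, hk, hf⟩
    exact affQC_of_iso hL (IsColimit.coconePointUniqueUpToIso (cokernelIsCokernel f) hk)
      (affQC_cokernel hL f hf.1 hf.2)
  prop_X₂_of_shortExact {S} hS h₁ h₃ := by
    haveI := hS.epi_g
    exact affQC_extension hL S.g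
      (affQC_of_iso hL (show S.X₁ ≅ kernel S.g from hS.fIsKernel.conePointUniqueUpToIso (limit.isLimit _)) h₁) h₃

end Groth.Agent.FCompl
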