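import Groth.Agent.LocFlat.Basic
import Groth.Agent.CAlgBasics.FlatMod
import Groth.Agent.InvSysLib.Basic

/-!
# Algebra of adic towers: flatness, generation and relations along flat maps of levels
-/

set_option autoImplicit false
set_option linter.style.haveILetI false
universe u

open TensorProduct

namespace Groth.Agent.FCompl

/-- A submodule of a finite module over a Noetherian ring is closed for an ideal in the Jacobson
radical. -/
theorem mem_of_forall_mem_sup {B P : Type u} [CommRing B] [IsNoetherianRing B] [AddCommGroup P] [Module B P]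
    [Module.Finite B P] {J : Ideal B} (hJ : J ≤ Ideal.jacobson ⊥) (S : Submodule B P) {x : P}
    (h : ∀ n : ℕ, x ∈ S ⊔ J ^ n • (⊤ : Submodule B P)) : x ∈ S := by
  rw [← Submodule.Quotient.mk_eq_zero, ← Submodule.mem_bot B,
    ← Ideal.iInf_pow_smul_eq_bot_of_le_jacobson (M := P ⧸ S) J hJ, Submodule.mem_iInf]
  intro n
  obtain ⟨s, hs, y, hy, rfl⟩ := Submodule.mem_sup.1 (h n)
  rw [Submodule.Quotient.mk_add, (Submodule.Quotient.mk_eq_zero S).2 hs, zero_add]
  have := Submodule.mem_map_of_mem (f := S.mkQ) hy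
  rw [Submodule.map_smul''] at this
  exact Submodule.smul_mono le_rfl le_top this

section Flat

variable {A B : Type u} [CommRing A] [CommRing B]

/-- A map of Noetherian rings which is flat modulo all powers of an ideal going to the Jacobson
radical is flat. -/
theorem flat_of_flat_quotient_pow [Algebra A B] [IsNoetherianRing A] [IsNoetherianRing B] (I : Ideal A)
    (hI : I.map (algebraMap A B) ≤ Ideal.jacobson ⊥)
    (h : ∀ n : ℕ, Module.Flat (A ⧸ I ^ n) ((A ⧸ I ^ n) ⊗[A] B)) : Module.Flat A B := by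
  refine LocFlat.flat_of_forall_mem_range (S := B) I hI fun J z hz n => ?_
  let Jb : Submodule (A ⧸ I ^ n) (A ⧸ I ^ n) := J.map (Ideal.Quotient.mk (I ^ n))
  haveI := h n
  let π : J →ₗ[A] Jb :=
    LinearMap.codRestrict (Jb.restrictScalars A) ((Ideal.Quotient.mkₐ A (I ^ n)).toLinearMap ∘ₗ J.subtype)
      fun a => Ideal.mem_map_of_mem _ a.2
  have hπ : Function.Surjective π := by
    rintro ⟨y, hy⟩
    obtain ⟨a, ha, rfl⟩ := (Ideal.mem_map_iff_of_surjective _ Ideal.Quotient.mk_surjective).mp hy
    exact ⟨⟨a, ha⟩, rfl⟩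
  have hex : Function.Exact (Submodule.inclusion (inf_le_left : J ⊓ I ^ n ≤ J)) π := by
    intro a
    constructor
    · intro h0
      exact ⟨⟨a.1, a.2, Ideal.Quotient.eq_zero_iff_mem.mp (congrArg Subtype.val h0)⟩, rfl⟩
    · rintro ⟨b, rfl⟩
      exact Subtype.ext (Ideal.Quotient.eq_zero_iff_mem.mpr b.2.2)
  refine (lTensor_exact B hex hπ z).mp ?_
  have hinj : Function.Injective ((Jb.subtype.restrictScalars A).lTensor B) :=
    (LinearMap.lTensor_inj_iff_rTensor_inj _ _).mpr
      (CAlgBasics.rTensor_injective_of_flat_baseChange (A ⧸ I ^ n) B Jb.subtype Jb.subtype_injective)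
  apply hinj
  rw [map_zero, ← LinearMap.lTensor_comp_apply,
    show Jb.subtype.restrictScalars A ∘ₗ π = (Ideal.Quotient.mkₐ A (I ^ n)).toLinearMap ∘ₗ J.subtype from rfl,
    LinearMap.lTensor_comp_apply, hz, map_zero]

/-- A map of Noetherian adic towers which is flat on every level is flat. -/
theorem flat_of_levels [IsNoetherianRing A] [IsNoetherianRing B] (φ : A →+* B) (I : Ideal A)
    (hI : I.map φ ≤ Ideal.jacobson ⊥) {An Bn : ℕ → Type u} [∀ n, CommRing (An n)] [∀ n, CommRing (Bn n)]
    (p : ∀ n, A →+* An n) (q : ∀ n, B →+* Bn n) (g : ∀ n, An n →+* Bn n)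
    (hp : ∀ n, Function.Surjective (p n)) (hq : ∀ n, Function.Surjective (q n))
    (hkp : ∀ n, RingHom.ker (p n) = I ^ (n + 1)) (hkq : ∀ n, RingHom.ker (q n) = (I.map φ) ^ (n + 1))
    (hc : ∀ n a, q n (φ a) = g n (p n a)) (hg : ∀ n, (g n).Flat) : φ.Flat := by
  letI := φ.toAlgebra
  show Module.Flat A B
  refine flat_of_flat_quotient_pow I hI fun n => ?_
  cases n with
  | zero =>
    haveI : Subsingleton (A ⧸ I ^ 0) := Ideal.Quotient.subsingleton_iff.2 (by simp)
    haveI : Subsingleton ((A ⧸ I ^ 0) ⊗[A] B) := Module.subsingleton (A ⧸ I ^ 0) _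
    infer_instance
  | succ n =>
    let K := I ^ (n + 1)
    let P : Submodule A B := K • ⊤
    have hP : ∀ b, b ∈ P ↔ q n b = 0 := fun b => by
      show b ∈ K • (⊤ : Submodule A B) ↔ _
      rw [Ideal.smul_top_eq_map, Submodule.restrictScalars_mem, Ideal.map_pow, RingHom.algebraMap_toAlgebra,
        ← hkq, RingHom.mem_ker]
    letI := (g n).toAlgebra
    haveI : Module.Flat (An n) (Bn n) := hg n
    let eA : (A ⧸ K) ≃+* An n :=
      (Ideal.quotEquivOfEq (hkp n).symm).trans (RingHom.quotientKerEquivOfSurjective (hp n))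
    letI : Algebra (A ⧸ K) (Bn n) := ((g n).comp eA.toRingHom).toAlgebra
    haveI : Module.Flat (A ⧸ K) (Bn n) := by
      have h1 : ((g n).comp eA.toRingHom).Flat :=
        RingHom.Flat.comp (RingHom.Flat.of_bijective eA.bijective) (hg n)
      exact h1
    letI : Algebra A (Bn n) := ((q n).comp φ).toAlgebra
    haveI : IsScalarTower A (A ⧸ K) (Bn n) := .of_algebraMap_eq fun a => hc n a
    let f : B →ₗ[A] Bn n :=
      { toFun := q n
        map_add' := map_add _
        map_smul' := fun a b => by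
          rw [RingHom.id_apply, Algebra.smul_def, map_mul]
          exact (Algebra.smul_def a (q n b)).symm }
    have hf : LinearMap.ker f = P := by
      ext b; exact (hP b).symm
    let e : ((A ⧸ K) ⊗[A] B) ≃ₗ[A] Bn n :=
      TensorProduct.quotTensorEquivQuotSMul B K ≪≫ₗ Submodule.quotEquivOfEq _ _ hf.symm ≪≫ₗ
        f.quotKerEquivOfSurjective (hq n)
    exact Module.Flat.of_linearEquiv (e.extendScalarsOfSurjective (S := A ⧸ K) Ideal.Quotient.mk_surjective)

end Flat

section BaseChange

variable {R S : Type u} [CommRing R] [CommRing S] [Algebra R S] {M N : Type u} [AddCommGroup M]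
  [AddCommGroup N] [Module R M] [Module R N] [Module S N] [IsScalarTower R S N] {l : M →ₗ[R] N}

/-- Relations in a flat base change come from relations. -/
theorem mem_span_relations [Module.Flat R S] (hl : IsBaseChange S l) {ι : Type u} [Fintype ι]
    (s : ι → M) (x : ι → S) (hx : ∑ i, x i • l (s i) = 0) :
    x ∈ Submodule.span S ((fun c i => algebraMap R S (c i)) '' {c : ι → R | ∑ i, c i • s i = 0}) := by
  classical
  let f : (ι → R) →ₗ[R] M := Fintype.linearCombination R s
  let y : S ⊗[R] (ι → R) := ∑ i, x i ⊗ₜ Pi.single i 1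
  let ev : S ⊗[R] (ι → R) →ₗ[R] (ι → S) :=
    TensorProduct.lift (LinearMap.mk₂ R (fun b c i => b * algebraMap R S (c i))
      (fun a b c => funext fun i => add_mul _ _ _) (fun r a c => funext fun i => smul_mul_assoc _ _ _)
      (fun a c d => funext fun i => by simp [mul_add]) fun r a c => funext fun i => by
        simp only [Pi.smul_apply, smul_eq_mul, map_mul]
        rw [Algebra.smul_def]; ring)
  have hy : f.lTensor S y = 0 := by
    apply hl.equiv.injective
    rw [map_zero, map_sum, map_sum, ← hx]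
    refine Finset.sum_congr rfl fun i _ => ?_
    rw [LinearMap.lTensor_tmul, IsBaseChange.equiv_tmul]
    congr 1
    simp [f, Fintype.linearCombination_apply_single]
  obtain ⟨w, hw⟩ := (Module.Flat.lTensor_exact S (LinearMap.exact_subtype_ker_map f) y).1 hy
  have hxy : ev y = x := by
    refine funext fun j => ?_
    simp [y, ev, Pi.single_apply]
  rw [← hxy, ← hw]
  clear hw hxy hy hx
  induction w using TensorProduct.induction_on with
  | zero => simp only [map_zero, zero_mem]
  | add a b ha hb => simp only [map_add]; exact add_mem ha hb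
  | tmul b c =>
    rw [LinearMap.lTensor_tmul]
    have : ev (b ⊗ₜ[R] (c : ι → R)) = b • (fun i => algebraMap R S ((c : ι → R) i)) := rfl
    show ev (b ⊗ₜ[R] (c : ι → R)) ∈ _
    rw [this]
    refine Submodule.smul_mem _ b (Submodule.subset_span ⟨(c : ι → R), ?_, rfl⟩)
    have h0 : f (c : ι → R) = 0 := c.2
    rw [Fintype.linearCombination_apply] at h0
    exact h0

/-- Generators stay generators after base change. -/
theorem span_baseChange (hl : IsBaseChange S l) (T : Set M) (hT : Submodule.span R T = ⊤) :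
    Submodule.span S (l '' T) = ⊤ := by
  refine top_le_iff.1 fun z _ => ?_
  obtain ⟨y, rfl⟩ := hl.equiv.surjective z
  induction y using TensorProduct.induction_on with
  | zero => rw [map_zero]; exact zero_mem _
  | add a b ha hb => rw [map_add]; exact add_mem (ha trivial) (hb trivial)
  | tmul b m =>
    rw [IsBaseChange.equiv_tmul]
    refine Submodule.smul_mem _ _ ?_
    have : l m ∈ (Submodule.span R T).map l := Submodule.mem_map_of_mem (hT ▸ trivial)
    rw [Submodule.map_span] at this
    exact Submodule.span_le_restrictScalars R S _ this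

end BaseChange

section Rel

variable {A B M N : Type u} [CommRing A] [CommRing B] [AddCommGroup M] [Module A M] [AddCommGroup N] [Module B N]
  (φ : A →+* B) (ρ : M →+ N) {ι : Type u} [Fintype ι]
  {An Bn Mn Nn : ℕ → Type u} [∀ n, CommRing (An n)] [∀ n, CommRing (Bn n)] [∀ n, AddCommGroup (Mn n)]
  [∀ n, Module (An n) (Mn n)] [∀ n, AddCommGroup (Nn n)] [∀ n, Module (Bn n) (Nn n)]
  (p : ∀ n, A →+* An n) (q : ∀ n, B →+* Bn n) (g : ∀ n, An n →+* Bn n)
  (πM : ∀ n, M →+ Mn n) (πN : ∀ n, N →+ Nn n) (l : ∀ n, Mn n →+ Nn n)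

/-- Relations between generators of a module are generated by the relations over a base with flat
levels. -/
theorem mem_span_relations_of_levels [IsNoetherianRing B] {J : Ideal B} (hJ : J ≤ Ideal.jacobson ⊥)
    (hp : ∀ n, Function.Surjective (p n)) (hq : ∀ n, Function.Surjective (q n))
    (hkq : ∀ n, RingHom.ker (q n) ≤ J ^ n) (hc : ∀ n a, q n (φ a) = g n (p n a))
    (hπM : ∀ n a m, πM n (a • m) = p n a • πM n m) (hπN : ∀ n b m, πN n (b • m) = q n b • πN n m)
    (hl : ∀ n a m, l n (a • m) = g n a • l n m) (hρ : ∀ n m, πN n (ρ m) = l n (πM n m))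
    (hg : ∀ n, (g n).Flat)
    (hbc : ∀ n, letI := (g n).toAlgebra; letI := Module.compHom (Nn n) (g n);
      haveI : IsScalarTower (An n) (Bn n) (Nn n) := .of_algebraMap_smul fun _ _ => rfl
      IsBaseChange (Bn n) ({ l n with map_smul' := hl n } : Mn n →ₗ[An n] Nn n))
    (s : ι → M) (hs : ∀ n m, πM n m = 0 → ∃ b : ι → A, (∀ i, p n (b i) = 0) ∧ ∑ i, b i • s i = m)
    (x : ι → B) (hx : ∑ i, x i • ρ (s i) = 0) :
    x ∈ Submodule.span B ((fun c i => φ (c i)) '' {c : ι → A | ∑ i, c i • s i = 0}) := by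
  classical
  set T : Submodule B (ι → B) := Submodule.span B ((fun c i => φ (c i)) '' {c : ι → A | ∑ i, c i • s i = 0})
  refine mem_of_forall_mem_sup hJ T fun n => ?_
  letI := (g n).toAlgebra
  letI := Module.compHom (Nn n) (g n)
  haveI : IsScalarTower (An n) (Bn n) (Nn n) := .of_algebraMap_smul fun _ _ => rfl
  haveI : Module.Flat (An n) (Bn n) := hg n
  have h1 : (fun i => q n (x i)) ∈ Submodule.span (Bn n)
      ((fun c i => g n (c i)) '' {c : ι → An n | ∑ i, c i • πM n (s i) = 0}) :=
    mem_span_relations (hbc n) (fun i => πM n (s i)) _ (by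
      have e := congrArg (πN n) hx
      rw [map_sum, map_zero] at e
      refine Eq.trans (Finset.sum_congr rfl fun i _ => ?_) e
      rw [hπN, hρ]
      rfl)
  have h2 : Submodule.span (Bn n) ((fun c i => g n (c i)) '' {c : ι → An n | ∑ i, c i • πM n (s i) = 0}) ≤
      Submodule.span (Bn n) ((fun c i => q n (c i)) '' (T : Set (ι → B))) := by
    refine Submodule.span_le.2 ?_
    rintro _ ⟨c, hc', rfl⟩
    choose a ha using fun i => hp n (c i)
    obtain ⟨b, hb, hbs⟩ := hs n (∑ i, a i • s i) (by
      rw [map_sum]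
      refine Eq.trans (Finset.sum_congr rfl fun i _ => ?_) hc'
      rw [hπM, ha])
    refine Submodule.subset_span ⟨fun i => φ (a i - b i), Submodule.subset_span ⟨fun i => a i - b i, ?_, rfl⟩, ?_⟩
    · show ∑ i, (a i - b i) • s i = 0
      simp only [sub_smul, Finset.sum_sub_distrib, hbs, sub_self]
    · funext i
      show q n (φ (a i - b i)) = g n (c i)
      rw [hc, map_sub, hb, sub_zero, ha]
  have h3 : ∃ y ∈ T, (fun i => q n (y i)) = fun i => q n (x i) := by
    refine Submodule.span_induction ?_ ?_ ?_ ?_ (h2 h1)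
    · rintro _ ⟨y, hy, rfl⟩; exact ⟨y, hy, rfl⟩
    · exact ⟨0, zero_mem _, funext fun i => map_zero _⟩
    · rintro a b - - ⟨y, hy, ey⟩ ⟨z, hz, ez⟩
      exact ⟨y + z, add_mem hy hz, by rw [← ey, ← ez]; funext i; exact map_add _ _ _⟩
    · rintro r a - ⟨y, hy, ey⟩
      obtain ⟨r', rfl⟩ := hq n r
      exact ⟨r' • y, Submodule.smul_mem _ _ hy, by rw [← ey]; funext i; exact map_mul _ _ _⟩
  obtain ⟨y, hy, hye⟩ := h3
  refine Submodule.mem_sup.2 ⟨y, hy, x - y, ?_, by abel⟩
  rw [← Finset.univ_sum_single (x - y)]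
  refine Submodule.sum_mem _ fun i _ => ?_
  rw [show Pi.single i ((x - y) i) = (x - y) i • (Pi.single i (1 : B) : ι → B) by
    rw [← Pi.single_smul, smul_eq_mul, mul_one]]
  refine Submodule.smul_mem_smul (hkq n ?_) trivial
  rw [RingHom.mem_ker, Pi.sub_apply, map_sub, congrFun hye i, sub_self]

end Rel

end Groth.Agent.FCompl
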