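import Groth.Agent.CoprodPushLib.Basic
import Groth.Agent.FComplLib.RpushQCT
import Mathlib.CategoryTheory.Limits.Constructions.Filtered
import Mathlib.CategoryTheory.Preadditive.AdditiveFunctor

/-!
# Derived direct images of coproducts
-/

set_option autoImplicit false
set_option linter.style.haveILetI false
set_option linter.unusedVariables false
set_option backward.isDefEq.respectTransparency false
set_option backward.isDefEq.respectTransparency.types false
set_option maxHeartbeats 1000000
universe u

open CategoryTheory CategoryTheory.Limits AlgebraicGeometry TopologicalSpace Opposite DerivedCategory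
attribute [local instance] HasDerivedCategory.standard

noncomputable section

namespace Groth.Agent.FCompl

/-- An additive functor preserving filtered colimits preserves coproducts. -/
theorem preservesColimitsOfShape_of_filtered {A : Type (u + 1)} [Category.{u} A] [Abelian A] [HasColimitsOfSize.{u, u} A]
    {B : Type (u + 1)} [Category.{u} B] [Abelian B] (F : A ⥤ B) [F.Additive]
    (hF : ∀ (J : Type u) [SmallCategory J] [IsFiltered J] (K : J ⥤ A), PreservesColimit K F) (α : Type u) :
    PreservesColimitsOfShape (Discrete α) F := by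
  classical
  suffices h : ∀ f : α → A, PreservesColimit (Discrete.functor f) F from ⟨fun {K} => by
    haveI := h fun a => K.obj ⟨a⟩
    exact preservesColimit_of_iso_diagram _ Discrete.natIsoFunctor.symm⟩
  intro f
  haveI := hF (Finset (Discrete α)) (CoproductsFromFiniteFiltered.liftToFinsetObj (Discrete.functor f))
  have hC := isColimitOfPreserves F (CoproductsFromFiniteFiltered.isColimitFiniteSubproductsCocone f)
  haveI : ∀ S : Finset (Discrete α), PreservesColimit (Discrete.functor fun x : S => f x.1.as) F := fun S => by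
    haveI : PreservesBinaryBiproducts F := preservesBinaryBiproducts_of_preservesBiproducts F
    haveI : PreservesFiniteCoproducts F := ⟨fun n => inferInstance⟩
    infer_instance
  let S1 := fun a : α => ({⟨a⟩} : Finset (Discrete α))
  let Δ := CoproductsFromFiniteFiltered.liftToFinsetObj (Discrete.functor f)
  refine preservesColimit_of_preserves_colimit_cocone (coproductIsCoproduct f)
    ((isColimitMapCoconeCofanMkEquiv F f _).symm ?_)
  have hS : ∀ S : Finset (Discrete α), IsColimit (Cofan.mk (F.obj (Δ.obj S))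
      fun x : S => F.map (Sigma.ι (fun x : S => f x.1.as) x)) := fun S =>
    isColimitCofanMkObjOfIsColimit F _ _ (coproductIsCoproduct fun x : S => f x.1.as)
  refine mkCofanColimit _ (fun s => hC.desc
    { pt := s.pt
      ι :=
        { app := fun S => Cofan.IsColimit.desc (hS S) fun x => s.inj x.1.as
          naturality := fun S S' g => by
            refine Cofan.IsColimit.hom_ext (hS S) _ _ fun x => ?_
            have h1 : Sigma.ι (fun x : S => f x.1.as) x ≫ Δ.map g = Sigma.ι (fun x : S' => f x.1.as) ⟨x.1, g.down.down x.2⟩ :=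
              Sigma.ι_desc (f := fun x : S => (Discrete.functor f).obj x.1) _ x
            show F.map (Sigma.ι (fun x : S => f x.1.as) x) ≫ F.map (Δ.map g) ≫
              Cofan.IsColimit.desc (hS S') (fun x => s.inj x.1.as) = F.map (Sigma.ι (fun x : S => f x.1.as) x) ≫
                Cofan.IsColimit.desc (hS S) (fun x => s.inj x.1.as) ≫ 𝟙 _
            refine ((Category.assoc _ _ _).symm.trans ((congrArg (· ≫ _) ((F.map_comp _ _).symm.trans
              (congrArg F.map h1))).trans (Cofan.IsColimit.fac (hS S') _ ⟨x.1, g.down.down x.2⟩))).trans ?_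
            exact ((congrArg (_ ≫ ·) (Category.comp_id _)).trans (Cofan.IsColimit.fac (hS S) (fun x => s.inj x.1.as) x)).symm } }) (fun s a => ?_) (fun s m hm => ?_)
  · let x : S1 a := ⟨⟨a⟩, Finset.mem_singleton_self _⟩
    have e : Sigma.ι f a = Sigma.ι (fun x : S1 a => f x.1.as) x ≫
        (CoproductsFromFiniteFiltered.finiteSubcoproductsCocone f).ι.app (S1 a) :=
      (Sigma.ι_desc (f := fun x : S1 a => (Discrete.functor f).obj x.1) (fun x => Sigma.ι f x.1.as) x).symm
    simp only [cofan_mk_inj]
    rw [e, F.map_comp, Category.assoc]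
    refine (congrArg (_ ≫ ·) (hC.fac _ (S1 a))).trans ?_
    exact Cofan.IsColimit.fac (hS (S1 a)) _ x
  · refine hC.hom_ext fun S => ?_
    rw [hC.fac]
    refine Cofan.IsColimit.hom_ext (hS S) _ _ fun x => ?_
    erw [Cofan.IsColimit.fac (hS S)]
    simp only [cofan_mk_inj, Functor.mapCocone_ι_app]
    rw [← F.map_comp_assoc]
    refine Eq.trans ?_ (hm x.1.as)
    exact congrArg (fun t => F.map t ≫ m) (Sigma.ι_desc (f := fun x : S => (Discrete.functor f).obj x.1) _ x)

variable {𝔛 𝔜 : FSch.Sys.{u}} {h : 𝔛.IsFormal} {h' : 𝔜.IsFormal}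

/-- Derived direct image commutes with coproducts of objects with ind-coherent cohomology. -/
theorem preservesColimit_rpushD (hL : 𝔛.IsLocNoethFormal) [CompactSpace (𝔛.X 0)] [CompactSpace (𝔜.X 0)] (f : 𝔛 ⟶ 𝔜)
    [SiteCmp.HasRpushD (FSch.homMor f h h')] {ι : Type u} (E : ι → DerivedCategory (FSch.ModF 𝔛 h))
    (hE : ∀ (a : ι) (i : ℤ), AffQC (SiteCmp.HMod (E a) i)) :
    PreservesColimit (Discrete.functor E) (SiteCmp.RpushD (FSch.homMor f h h')) := by
  classical
  haveI := isWeakSerre_affQC (h := h) hL
  haveI : IsGrothendieckAbelian.{u} (FSch.ModF 𝔛 h) := ModTensor.isGrothendieckAbelian_mod (𝔛.Osh h)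
  haveI : IsGrothendieckAbelian.{u} (FSch.ModF 𝔜 h') := ModTensor.isGrothendieckAbelian_mod (𝔜.Osh h')
  haveI : HasInjectiveResolutions (FSch.ModF 𝔛 h) := inferInstance
  haveI : PreservesFiniteLimits (FSch.homMor f h h').push := preservesFiniteLimits_pushF f
  have hR : ∀ (p : ℕ) (T : Type u), PreservesColimitsOfShape (Discrete T) (FSch.RpushF f h h' p) := fun p T =>
    preservesColimitsOfShape_of_filtered _ (fun J _ _ K => preservesColimit_rpushF f hL p K) T
  haveI : ∀ T : Type u, PreservesColimitsOfShape (Discrete T) (FSch.homMor f h h').push := fun T =>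
    haveI := hR 0 T
    preservesColimitsOfShape_of_natIso (rpushFZeroIso (h := h) (h' := h') f)
  obtain ⟨N, hN⟩ := exists_rpushF_bound (h := h) (h' := h') hL f
  obtain ⟨A, hA, V, gV, hcov, hV⟩ := FPLocal.exists_finite_cover (U := (⊤ : (𝔜.X 0).Opens))
    (P := fun W _ => IsAffineOpen W) (by simpa using isCompact_univ) fun x hx => by
      obtain ⟨W, hW, hxW, -⟩ := exists_affine_le (𝔛 := 𝔜) hx
      exact ⟨W, homOfLE le_top, hxW, hW⟩
  refine CoprodPush.preservesColimit_of_trunc (FSch.homMor f h h') (fun T I hI p => ?_) E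
    (fun X => ∀ i : ℤ, AffQC (SiteCmp.HMod X i)) hE (fun i => ?_) (fun i => ?_)
  · haveI := hR (p + 1) T
    refine IsZero.of_iso ?_ (PreservesCoproduct.iso (FSch.RpushF f h h' (p + 1)) I)
    refine (IsZero.iff_id_eq_zero _).2 (Sigma.hom_ext _ _ fun t => ?_)
    haveI := hI t
    exact (SpSeqLib.isAcyclicFor_of_injective (FSch.pushF f h h') (I t) p).eq_of_src _ _
  · haveI := CoprodPush.preservesColimit_homology E i
    exact affQC_of_iso hL (PreservesCoproduct.iso (homologyFunctor (FSch.ModF 𝔛 h) i) E).symm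
      (affQC_sigma _ fun a => hE a i)
  · refine ⟨((N : ℤ) - i).toNat, fun X hX => ?_⟩
    refine SiteCmpLib.isIso_homology_rpush_truncGEπ_of_upstairs (FSch.homMor f h h') (fun F => AffQC F)
      {U | IsAffineOpen U} {W | IsAffineOpen W} exists_affine_cover (fun U hU => ⟨0, fun T hT => ?_⟩)
      exists_affine_cover (N : ℤ) (fun F hF p hp => hN F hF p (by omega)) X hX (fun W hW => ?_) _ i (by omega)
    · obtain ⟨ι, Y, gY, h1, h2, h3⟩ := exists_affine_refinement T hT
      exact ⟨ι, Y, gY, h1, h2, fun j F hF k hk => subsingleton_siteHU hL hF (h3 j) k hk⟩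
    · obtain ⟨d, hd⟩ := exists_cd_preimage (h := h) hL f W
      refine ⟨d, fun T hT => ?_⟩
      let ι := {g : Γ(𝔜.X 0, W) // T.arrows (homOfLE ((𝔜.X 0).basicOpen_le g))}
      refine ⟨ι, fun g => (𝔜.X 0).basicOpen g.1, fun g => homOfLE ((𝔜.X 0).basicOpen_le g.1), fun g => g.2, ?_,
        fun g F hF k hk => hd g.1 F hF k hk.le⟩
      intro x hx
      obtain ⟨Z, l, hl, hxZ⟩ := hT x hx
      obtain ⟨g, hgZ, hxg⟩ := (hW : IsAffineOpen W).exists_basicOpen_le (V := Z) ⟨x, hxZ⟩ hx
      let g' : ι := ⟨g, T.downward_closed hl (homOfLE hgZ)⟩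
      exact ⟨_, homOfLE ((𝔜.X 0).basicOpen_le g), Sieve.ofArrows_mk _ _ g', hxg⟩

end Groth.Agent.FCompl
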