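import Groth.Agent.DerAdjLib.Brown
import Groth.Agent.FComplLib.RpushCoprod
import Groth.Agent.FComplLib.Coreflect
import Groth.Agent.S17026

/-!
# Right adjoints of derived direct images on ind-coherent modules
-/

set_option autoImplicit false
set_option linter.style.haveILetI false
set_option linter.unusedVariables false
set_option backward.isDefEq.respectTransparency false
set_option backward.isDefEq.respectTransparency.types false
set_option maxHeartbeats 1000000
universe u

open CategoryTheory CategoryTheory.Limits AlgebraicGeometry TopologicalSpace Opposite DerivedCategory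
attribute [local instance] HasDerivedCategory.standard

noncomputable section

namespace Groth.Agent.FCompl

variable {𝔛 𝔜 : FSch.Sys.{u}} {h : 𝔛.IsFormal} {h' : 𝔜.IsFormal}

/-- A coherent module separates maps out of an ind-coherent module. -/
theorem ind_separated {S : Type u} (G : S → FSch.ModF 𝔛 h)
    (hS : ∀ C : FSch.ModF 𝔛 h, FSch.IsCohF 𝔛 h C → ∃ s, Nonempty (C ≅ G s)) {X Y : FSch.ModF 𝔛 h} (f g : X ⟶ Y)
    (hX : (ObjectProperty.ind.{u} fun 𝔊 : FSch.ModF 𝔛 h => FSch.IsCohF 𝔛 h 𝔊) X)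
    (hk : ∀ s (k : G s ⟶ X), k ≫ f = k ≫ g) : f = g := by
  obtain ⟨J, _, _, p, hp⟩ := hX
  refine p.isColimit.hom_ext fun j => ?_
  obtain ⟨s, ⟨e⟩⟩ := hS _ (hp j)
  have := hk s (e.inv ≫ p.ι.app j)
  rw [Category.assoc, Category.assoc] at this
  exact (cancel_epi e.inv).1 this

theorem isGrothendieckAbelian_ind (hL : 𝔛.IsLocNoethFormal) (hL' : h = hL.1)
    (P : ObjectProperty (FSch.ModF 𝔛 h)) (hP : P = ObjectProperty.ind.{u} fun 𝔊 : FSch.ModF 𝔛 h => FSch.IsCohF 𝔛 h 𝔊)
    [P.ContainsZero] [P.IsClosedUnderKernels] [P.IsClosedUnderCokernels] [P.IsClosedUnderFiniteProducts]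
    [PreservesFiniteLimits P.ι] : IsGrothendieckAbelian.{u} P.FullSubcategory := by
  subst hP hL'
  haveI : IsGrothendieckAbelian.{u} (FSch.ModF 𝔛 hL.1) := ModTensor.isGrothendieckAbelian_mod (𝔛.Osh hL.1)
  obtain ⟨S, G, hG, hS⟩ := exists_small_coh (h := hL.1) hL
  exact DerAdjLib.isGrothendieckAbelian_fullSubcategory _ (fun J _ => S17026.result 𝔛 hL J) G
    (fun s => ObjectProperty.le_ind _ _ (hG s)) fun X Y f g hX hY hk => ind_separated G hS f g hX hk

/-- Derived direct image from a Grothendieck category of modules with a left adjoint into ind-coherent objects. -/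
theorem isLeftAdjoint_comp_rpushD (hL : 𝔛.IsLocNoethFormal) [CompactSpace (𝔛.X 0)] [CompactSpace (𝔜.X 0)] (f : 𝔛 ⟶ 𝔜)
    [SiteCmp.HasRpushD (FSch.homMor f h h')] (P : ObjectProperty (FSch.ModF 𝔛 h))
    [P.ContainsZero] [P.IsClosedUnderKernels] [P.IsClosedUnderCokernels] [P.IsClosedUnderFiniteProducts]
    [PreservesFiniteLimits P.ι] [PreservesFiniteColimits P.ι] [IsGrothendieckAbelian.{u} P.FullSubcategory]
    [P.ι.IsLeftAdjoint] (hP : ∀ M, P M → AffQC M) :
    (P.ι.mapDerivedCategory ⋙ SiteCmp.RpushD (FSch.homMor f h h')).IsLeftAdjoint := by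
  haveI : IsGrothendieckAbelian.{u} (FSch.ModF 𝔛 h) := ModTensor.isGrothendieckAbelian_mod (𝔛.Osh h)
  haveI : IsGrothendieckAbelian.{u} (FSch.ModF 𝔜 h') := ModTensor.isGrothendieckAbelian_mod (𝔜.Osh h')
  obtain ⟨_, _⟩ := SiteCmpLib.exists_triangulated_rpushD (FSch.homMor f h h')
  haveI : P.ι.mapDerivedCategory.IsLeftAdjoint :=
    DerAdjLib.isLeftAdjoint_mapDerivedCategory (KInj.hres_of_isGrothendieckAbelian (FSch.ModF 𝔛 h)) P.ι
  haveI : ∀ T : Type u, PreservesColimitsOfShape (Discrete T)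
      (P.ι.mapDerivedCategory ⋙ SiteCmp.RpushD (FSch.homMor f h h')) := fun T => ⟨fun {K} => by
    let E : T → DerivedCategory (FSch.ModF 𝔛 h) := fun t => P.ι.mapDerivedCategory.obj (K.obj ⟨t⟩)
    haveI := preservesColimit_rpushD (h := h) (h' := h') hL f E fun t i =>
      affQC_of_iso hL (SiteCmpLib.homologyMapDerivedIso P.ι (K.obj ⟨t⟩) i).symm
        (hP _ ((homologyFunctor P.FullSubcategory i).obj (K.obj ⟨t⟩)).property)
    haveI : PreservesColimit (K ⋙ P.ι.mapDerivedCategory) (SiteCmp.RpushD (FSch.homMor f h h')) :=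
      preservesColimit_of_iso_diagram _ (Discrete.natIso fun _ => Iso.refl _ : Discrete.functor E ≅ K ⋙ P.ι.mapDerivedCategory)
    exact comp_preservesColimit _ _⟩
  exact DerAdjLib.isLeftAdjoint_standard _

end Groth.Agent.FCompl
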