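import Groth.Agent.FComplLib.BrownInd
import Groth.Agent.FComplLib.QCT
import Groth.Agent.S17052

/-!
# Right adjoints of derived direct images on quasi-coherent torsion modules
-/

set_option autoImplicit false
set_option linter.style.haveILetI false
set_option linter.unusedVariables false
set_option backward.isDefEq.respectTransparency false
set_option backward.isDefEq.respectTransparency.types false
set_option maxHeartbeats 1000000
universe u

open CategoryTheory CategoryTheory.Limits AlgebraicGeometry TopologicalSpace Opposite DerivedCategory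
attribute [local instance] HasDerivedCategory.standard

noncomputable section

namespace Groth.Agent.FCompl

variable {𝔛 𝔜 : FSch.Sys.{u}} {h : 𝔛.IsFormal} {h' : 𝔜.IsFormal}

theorem isGrothendieckAbelian_qct (hL : 𝔛.IsLocNoethFormal) (hL' : h = hL.1)
    [(FTors.IsQCT 𝔛 h).ContainsZero] [(FTors.IsQCT 𝔛 h).IsClosedUnderKernels]
    [(FTors.IsQCT 𝔛 h).IsClosedUnderCokernels] [(FTors.IsQCT 𝔛 h).IsClosedUnderFiniteProducts]
    [PreservesFiniteLimits (FTors.IsQCT 𝔛 h).ι] : IsGrothendieckAbelian.{u} (FTors.IsQCT 𝔛 h).FullSubcategory := by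
  subst hL'
  haveI : IsGrothendieckAbelian.{u} (FSch.ModF 𝔛 hL.1) := ModTensor.isGrothendieckAbelian_mod (𝔛.Osh hL.1)
  obtain ⟨S, G, hG, hS⟩ := exists_small_coh (h := hL.1) hL
  refine DerAdjLib.isGrothendieckAbelian_fullSubcategory _ (fun J _ => S17052.result 𝔛 hL J)
    (fun s : {s : S // FTors.IsQCT 𝔛 hL.1 (G s)} => G s.1) (fun s => s.2) fun X Y f g hX hY hk => ?_
  haveI := hX.2
  obtain ⟨K, _, _, q, hq⟩ := ind_of_qct hL hX.1
  obtain ⟨J, _, _, p, hp, hmono⟩ := exists_mono_presentation hL q hq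
  refine p.isColimit.hom_ext fun j => ?_
  haveI : Mono (p.ι.app j) := hmono j
  obtain ⟨s, ⟨e⟩⟩ := hS _ (hp j)
  have hs : FTors.IsQCT 𝔛 hL.1 (G s) := qct_sub_coh hL (hG s) (e.inv ≫ p.ι.app j) hX.1
  have := hk ⟨s, hs⟩ (e.inv ≫ p.ι.app j)
  rw [Category.assoc, Category.assoc] at this
  exact (cancel_epi e.inv).1 this

theorem isLeftAdjoint_dqct_rpushD (hL : 𝔛.IsLocNoethFormal) (hL' : h = hL.1) [CompactSpace (𝔛.X 0)]
    [CompactSpace (𝔜.X 0)] (f : 𝔛 ⟶ 𝔜) [SiteCmp.HasRpushD (FSch.homMor f h h')]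
    [(FTors.IsQCT 𝔛 h).ContainsZero] [(FTors.IsQCT 𝔛 h).IsClosedUnderKernels]
    [(FTors.IsQCT 𝔛 h).IsClosedUnderCokernels] [(FTors.IsQCT 𝔛 h).IsClosedUnderFiniteProducts]
    [PreservesFiniteLimits (FTors.IsQCT 𝔛 h).ι] [PreservesFiniteColimits (FTors.IsQCT 𝔛 h).ι]
    (hj : (FTors.IsQCT 𝔛 h).ι.mapDerivedCategory.Full ∧ (FTors.IsQCT 𝔛 h).ι.mapDerivedCategory.Faithful ∧
      ∀ G : DerivedCategory (FSch.ModF 𝔛 h),
        (FTors.IsQCT 𝔛 h).ι.mapDerivedCategory.essImage G ↔ FTors.IsDQCT 𝔛 h G) :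
    ((FTors.IsDQCT 𝔛 h).ι ⋙ SiteCmp.RpushD (FSch.homMor f h h')).IsLeftAdjoint := by
  subst hL'
  haveI := isGrothendieckAbelian_qct (h := hL.1) hL rfl
  haveI := qct_ι_isLeftAdjoint (h := hL.1) hL
  haveI hl := isLeftAdjoint_comp_rpushD (h := hL.1) (h' := h') hL f (FTors.IsQCT 𝔛 hL.1) fun M hM => affQC_of_qct hL hM
  let j := (FTors.IsQCT 𝔛 hL.1).ι.mapDerivedCategory
  obtain ⟨hfull, hfaith, hess⟩ := hj
  let E := ObjectProperty.lift (FTors.IsDQCT 𝔛 hL.1) j fun X => (hess _).1 (j.obj_mem_essImage X)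
  haveI : E.Faithful := ⟨fun {X Y} a b e => hfaith.map_injective (congrArg (fun t => t.hom) e)⟩
  haveI : E.Full := ⟨fun {X Y} a => by
    obtain ⟨b, hb⟩ := hfull.map_surjective a.hom
    exact ⟨b, ObjectProperty.hom_ext _ hb⟩⟩
  haveI : E.EssSurj := ⟨fun G => by
    obtain ⟨X, ⟨e⟩⟩ := (hess G.obj).2 G.property
    exact ⟨X, ⟨(FTors.IsDQCT 𝔛 hL.1).fullyFaithfulι.preimageIso e⟩⟩⟩
  haveI : E.IsEquivalence := {}
  let Φ := SiteCmp.RpushD (FSch.homMor f hL.1 h')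
  let e : E ⋙ (FTors.IsDQCT 𝔛 hL.1).ι ⋙ Φ ≅ j ⋙ Φ := NatIso.ofComponents (fun _ => Iso.refl _) (fun g => by simp; rfl)
  haveI : (E ⋙ (FTors.IsDQCT 𝔛 hL.1).ι ⋙ Φ).IsLeftAdjoint := haveI := hl; Functor.isLeftAdjoint_of_iso e.symm
  exact Functor.isLeftAdjoint_of_iso (F := E.inv ⋙ (E ⋙ (FTors.IsDQCT 𝔛 hL.1).ι ⋙ Φ))
    ((Functor.associator _ _ _).symm ≪≫ Functor.isoWhiskerRight E.asEquivalence.counitIso _ ≪≫ Functor.leftUnitor _)

end Groth.Agent.FCompl
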