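import Groth.Agent.FComplLib.CechQC
import Groth.Agent.CohBase.Affine

/-!
# Higher Čech vanishing for quasi-coherent modules on standard covers of affine opens
-/

set_option autoImplicit false
set_option linter.style.haveILetI false
set_option linter.unusedVariables false
set_option backward.isDefEq.respectTransparency false
set_option backward.isDefEq.respectTransparency.types false
set_option maxHeartbeats 4000000
universe u

open CategoryTheory CategoryTheory.Limits AlgebraicGeometry TopologicalSpace Opposite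
open Groth.Agent.CohBase

noncomputable section

namespace Groth.Agent.FCompl

variable {𝔛 : FSch.Sys.{u}} {h : 𝔛.IsFormal} {U : (𝔛.X 0).Opens} {ι K : Type u} [Fintype ι]

variable (𝔛 h ι) in
/-- The presheaf of vectors. -/
def vecP : (Opens (𝔛.X 0))ᵒᵖ ⥤ AddCommGrpCat.{u} where
  obj W := AddCommGrpCat.of (ι → OR 𝔛 h W.unop)
  map {W W'} f := AddCommGrpCat.ofHom (AddMonoidHom.mk' (rsv (leOfHom f.unop)) fun a b => funext fun i => map_add _ _ _)
  map_id W := by
    ext v i
    exact (congr($((𝔛.Osh h).obj.map_id W) (v i)) :)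
  map_comp f g := by
    ext v i
    exact (congrFun (rsv_rsv (leOfHom f.unop) (leOfHom g.unop) v) i).symm

variable (𝔛 h ι) in
/-- The presheaf of vectors on a level. -/
def vecL (n : ℕ) : (Opens (𝔛.X 0))ᵒᵖ ⥤ AddCommGrpCat.{u} where
  obj W := AddCommGrpCat.of (ι → LR 𝔛 h W.unop n)
  map {W W'} f := AddCommGrpCat.ofHom (AddMonoidHom.mk' (rsl n (leOfHom f.unop)) fun a b => funext fun i => map_add _ _ _)
  map_id W := by
    ext v i
    exact (congr($((𝔛.X n).presheaf.map_id _) (v i)) :)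
  map_comp f g := by
    ext v i
    exact (CohBase.restr_trans (Coh.structureModule (𝔛.X n)) (lvU_mono 𝔛 h (leOfHom f.unop) n)
      (lvU_mono 𝔛 h (leOfHom g.unop) n) (v i)).symm

variable (𝔛 h ι) in
/-- Reduction of vectors. -/
def prN (n : ℕ) : vecP 𝔛 h ι ⟶ vecL 𝔛 h ι n where
  app W := AddCommGrpCat.ofHom (AddMonoidHom.mk' (prv n W.unop) fun a b => prv_add n a b)
  naturality W W' f := by
    ext v
    exact prv_rsv' (leOfHom f.unop) n v

lemma rsl_sub (n : ℕ) {A B : (𝔛.X 0).Opens} (hBA : B ≤ A) (v w : ι → LR 𝔛 h A n) :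
    rsl n hBA (v - w) = rsl n hBA v - rsl n hBA w := funext fun i => map_sub _ _ _

lemma rsl_rsl (n : ℕ) {A B C : (𝔛.X 0).Opens} (hBA : B ≤ A) (hCB : C ≤ B) (v : ι → LR 𝔛 h A n) :
    rsl n hCB (rsl n hBA v) = rsl n (hCB.trans hBA) v :=
  res_res (vecL 𝔛 h ι n) hBA hCB v

variable {α : Type u} (D : α → (𝔛.X 0).Opens)

lemma vec_congr (n : ℕ) {m : ℕ} (z : CC D (vecL 𝔛 h ι n) m) {W : (𝔛.X 0).Opens}
    {i i' : Fin (m + 1) → α} (e : i = i') (hW : W ≤ inter D i) (hW' : W ≤ inter D i') :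
    rsl n hW (z i) = rsl n hW' (z i') := by
  subst e; rfl

lemma inter_lvU (n : ℕ) {gn : α → Γ(𝔛.X n, 𝔛.lvU h n U)}
    (hgn : ∀ p, 𝔛.lvU h n (D p) = (𝔛.X n).basicOpen (gn p)) {m : ℕ} (i : Fin m → α) :
    inter (stdU gn) i = 𝔛.lvU h n (inter D i) := by
  refine le_antisymm (fun x hx => ?_) (le_iInf fun a => (lvU_mono 𝔛 h (inter_le D i a) n).trans (hgn (i a)).le)
  exact (mem_inter_iff _).2 fun a => (hgn (i a)).ge ((mem_inter_iff _).1 hx a)

variable {D}

/-- Cochains of vectors whose differential vanishes modulo relations, on a level. -/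
theorem level_cexact [Finite α] (hU : IsAffineOpen U) (hL : 𝔛.IsLocNoethFormal) (hDU : ∀ p, D p ≤ U)
    (hDa : ∀ {m : ℕ} (i : Fin (m + 1) → α), IsAffineOpen (inter D i)) (n : ℕ) (r : K → ι → OR 𝔛 h U)
    (gn : α → Γ(𝔛.X n, 𝔛.lvU h n U)) (hspan : Ideal.span (Set.range gn) = ⊤)
    (hgn : ∀ p, 𝔛.lvU h n (D p) = (𝔛.X n).basicOpen (gn p)) (m : ℕ) (a : CC D (vecL 𝔛 h ι n) (m + 1))
    (ha : ∀ i, cdiff D (vecL 𝔛 h ι n) (m + 1) a i ∈ spanL r n ((inter_le D i 0).trans (hDU _))) :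
    ∃ b : CC D (vecL 𝔛 h ι n) m, ∀ i,
      (a i - cdiff D (vecL 𝔛 h ι n) m b i : ι → LR 𝔛 h (inter D i) n) ∈ spanL r n ((inter_le D i 0).trans (hDU _)) := by
  obtain ⟨G, hG, φ, φres, φspan, φaff⟩ := exists_levelMod (h := h) hU hL n r
  haveI := hG
  have hle : ∀ {m : ℕ} (i : Fin (m + 1) → α), inter D i ≤ U := fun i => (inter_le D i 0).trans (hDU _)
  have hcomm : ∀ {m : ℕ} (b : CC D (vecL 𝔛 h ι n) m) (i : Fin (m + 2) → α),
      rM G (inter_lvU D n hgn i).le (φ _ (hle i) (cdiff D (vecL 𝔛 h ι n) m b i)) =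
        cdiff (stdU gn) (Coh.toAb G).obj m (fun i => rM G (inter_lvU D n hgn i).le (φ _ (hle i) (b i))) i :=
    fun {m} b i => by
    rw [cdiffM_apply, cdiff_apply, map_sum, map_sum]
    refine Finset.sum_congr rfl fun j _ => ?_
    rw [map_zsmul, map_zsmul, rM_rM]
    refine congrArg (_ • ·) ?_
    show rM G _ (φ (inter D i) _ (rsl n (inter_comp_le D i j.succAbove) (b (i ∘ j.succAbove)))) = _
    rw [← φres (inter D (i ∘ j.succAbove)) (hle _) (inter D i) (inter_comp_le D i j.succAbove), rM_rM]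
  let c : CC (stdU gn) (Coh.toAb G).obj (m + 1) := fun i => rM G (inter_lvU D n hgn i).le (φ _ (hle i) (a i))
  have hc : cdiff (stdU gn) (Coh.toAb G).obj (m + 1) c = 0 := funext fun i => by
    rw [← hcomm a i, φspan _ _ _ (ha i), map_zero]
    rfl
  obtain ⟨e, he⟩ := cexact_stdU gn G (affine_lvU (h := h) hU n) hspan m c hc
  choose b hb using fun i : Fin (m + 1) → α => (φaff _ (hle i) (hDa i)).1 (rM G (inter_lvU D n hgn i).ge (e i))
  refine ⟨b, fun i => (φaff _ (hle i) (hDa i)).2 _ ?_⟩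
  rw [map_sub, sub_eq_zero]
  have hinj : Function.Injective (rM G (inter_lvU D n hgn i).le : Γ(G, 𝔛.lvU h n (inter D i)) → _) :=
    fun x y e' => by
    have := congrArg (rM G (inter_lvU D n hgn i).ge) e'
    rw [rM_rM, rM_rM] at this
    exact (congr($(G.presheaf.map_id _) x)).symm.trans (this.trans (congr($(G.presheaf.map_id _) y)))
  refine hinj ?_
  rw [hcomm b i]
  refine Eq.trans (congrFun he i).symm ?_
  refine congrArg (fun z => cdiff (stdU gn) (Coh.toAb G).obj m z i) (funext fun i => ?_)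
  rw [hb i, rM_rM]
  exact (congr($(G.presheaf.map_id _) (e i))).symm

/-- Cocycles on a level lift to cocycles, modulo relations. -/
theorem lift_cocycle [Finite α] (hU : IsAffineOpen U) (hL : 𝔛.IsLocNoethFormal) (hDU : ∀ p, D p ≤ U)
    (hD : ∀ p, IsAffineOpen (D p)) (hDa : ∀ {m : ℕ} (i : Fin (m + 1) → α), IsAffineOpen (inter D i))
    (hcov : U ≤ iSup D) (r : K → ι → OR 𝔛 h U) (g : α → OR 𝔛 h U) (n : ℕ)
    (hspan : Ideal.span (Set.range fun p => pr 𝔛 h U n (g p)) = ⊤)
    (hg : ∀ p, 𝔛.lvU h n (D p) = (𝔛.X n).basicOpen (pr 𝔛 h U n (g p))) (m : ℕ)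
    (z : CC D (vecL 𝔛 h ι n) m)
    (hz : ∀ i, cdiff D (vecL 𝔛 h ι n) m z i ∈ spanL r n ((inter_le D i 0).trans (hDU _))) :
    ∃ z' : CC D (vecP 𝔛 h ι) m, cdiff D (vecP 𝔛 h ι) m z' = 0 ∧
      ∀ i, (show ι → LR 𝔛 h (inter D i) n from z i) - prv n _ (z' i) ∈
        spanL r n ((inter_le D i 0).trans (hDU _)) := by
  classical
  cases m with
  | zero =>
    have hone : ∀ p, D p ≤ inter D (fun _ : Fin 1 => p) := fun p => (inter_const (U := D) p).le
    obtain ⟨w', hw'⟩ := level_glue (h := h) hDU hU hL hD hcov n r (fun p => rsl n (hone p) (z fun _ => p))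
      fun p q => by
        have hle2 : D p ⊓ D q ≤ inter D ![p, q] := le_iInf fun t => by
          fin_cases t
          · exact inf_le_left
          · exact inf_le_right
        have e := rsl_mem_spanL hL (hDa ![p, q]) hle2 (hz ![p, q])
        have e1 : (show ι → LR 𝔛 h (inter D ![p, q]) n from cdiff D (vecL 𝔛 h ι n) 0 z ![p, q]) =
            rsl n (inter_comp_le D ![p, q] (0 : Fin 2).succAbove) (z (![p, q] ∘ (0 : Fin 2).succAbove)) -
              rsl n (inter_comp_le D ![p, q] (1 : Fin 2).succAbove) (z (![p, q] ∘ (1 : Fin 2).succAbove)) :=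
          cdiff_zero_apply _ z ![p, q]
        rw [show rsl n hle2 (cdiff D (vecL 𝔛 h ι n) 0 z ![p, q]) = rsl n inf_le_right (rsl n (hone q) (z fun _ => q)) -
          rsl n inf_le_left (rsl n (hone p) (z fun _ => p)) from by
          refine (congrArg (rsl n hle2) e1).trans ?_
          rw [rsl_sub, rsl_rsl, rsl_rsl, rsl_rsl, rsl_rsl]
          refine congr_arg₂ (· - ·) (vec_congr D n z (funext fun t => by fin_cases t; rfl) _ _)
            (vec_congr D n z (funext fun t => by fin_cases t; rfl) _ _)] at e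
        exact e
    choose w hw using fun k => pr_surjective (h := h) hL hU n (w' k)
    let wU : (vecP 𝔛 h ι).obj (op U) := w
    refine ⟨aug D (vecP 𝔛 h ι) hDU wU, cdiff_aug (vecP 𝔛 h ι) hDU wU, fun i => ?_⟩
    have hi : inter D i ≤ D (i 0) := inter_le D i 0
    have e := rsl_mem_spanL hL (hD (i 0)) hi (hw' (i 0))
    have ew : prv n U w = w' := funext hw
    rw [rsl_sub, rsl_rsl, rsl_rsl] at e
    show (show ι → LR 𝔛 h (inter D i) n from z i) - prv n _ (rsv (hi.trans (hDU _)) w) ∈ _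
    rw [prv_rsv', ew]
    convert e using 2
    exact (funext fun k => (congr($((𝔛.X n).presheaf.map_id _) (z i k))).symm :
      (show ι → LR 𝔛 h (inter D i) n from z i) = rsl n le_rfl (z i)).trans
        (vec_congr D n z (funext fun t => by fin_cases t; rfl) le_rfl _)
  | succ m =>
    obtain ⟨w', hw'⟩ := level_cexact (h := h) hU hL hDU hDa n r (fun p => pr 𝔛 h U n (g p)) hspan hg m z hz
    choose w hw using fun i k => pr_surjective (h := h) hL (hDa i) n (w' i k)
    let wC : CC D (vecP 𝔛 h ι) m := w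
    refine ⟨cdiff D (vecP 𝔛 h ι) m wC, cdiff_cdiff _ m wC, fun i => ?_⟩
    have e1 : ccMap D (prN 𝔛 h ι n) m wC = w' := funext fun i => funext (hw i)
    have e2 : prv n _ (cdiff D (vecP 𝔛 h ι) m wC i) = cdiff D (vecL 𝔛 h ι n) m w' i :=
      (congrFun (cdiff_ccMap D (prN 𝔛 h ι n) m wC) i).symm.trans
        (congrArg (fun c => cdiff D (vecL 𝔛 h ι n) m c i) e1)
    exact (congrArg (fun v => (show ι → LR 𝔛 h (inter D i) n from z i) - v) e2).symm ▸ hw' i

/-- Cocycles of vectors are coboundaries modulo relations, in all degrees. -/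
theorem exists_coboundary_high [Finite α] (hU : IsAffineOpen U) (hL : 𝔛.IsLocNoethFormal) (hDU : ∀ p, D p ≤ U)
    (hD : ∀ p, IsAffineOpen (D p)) (hDa : ∀ {m : ℕ} (i : Fin (m + 1) → α), IsAffineOpen (inter D i))
    (hcov : U ≤ iSup D) (r : K → ι → OR 𝔛 h U) (g : α → OR 𝔛 h U)
    (hspan : ∀ n, Ideal.span (Set.range fun p => pr 𝔛 h U n (g p)) = ⊤)
    (hg : ∀ n p, 𝔛.lvU h n (D p) = (𝔛.X n).basicOpen (pr 𝔛 h U n (g p))) (m : ℕ)
    (a : CC D (vecP 𝔛 h ι) (m + 1))
    (ha : ∀ i, cdiff D (vecP 𝔛 h ι) (m + 1) a i ∈ spanO r ((inter_le D i 0).trans (hDU _))) :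
    ∃ b : CC D (vecP 𝔛 h ι) m, ∀ i,
      (a i - cdiff D (vecP 𝔛 h ι) m b i : ι → OR 𝔛 h (inter D i)) ∈ spanO r ((inter_le D i 0).trans (hDU _)) := by
  classical
  let P : ℕ → CC D (vecP 𝔛 h ι) m → Prop := fun n b => ∀ i,
    prv n _ (a i - cdiff D (vecP 𝔛 h ι) m b i) ∈ spanL r n ((inter_le D i 0).trans (hDU _))
  have hpr : ∀ n (b : CC D (vecP 𝔛 h ι) m) i,
      prv n _ (cdiff D (vecP 𝔛 h ι) m b i) = cdiff D (vecL 𝔛 h ι n) m (ccMap D (prN 𝔛 h ι n) m b) i := fun n b i =>
    (congrFun (cdiff_ccMap D (prN 𝔛 h ι n) m b) i).symm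
  have hlev : ∀ n, ∃ b, P n b := fun n => by
    obtain ⟨b', hb'⟩ := level_cexact (h := h) hU hL hDU hDa n r (fun p => pr 𝔛 h U n (g p)) (hspan n) (hg n) m
      (ccMap D (prN 𝔛 h ι n) (m + 1) a) fun i => by
        rw [cdiff_ccMap]
        exact prv_mem_spanL n (ha i)
    choose b hb using fun i k => pr_surjective (h := h) hL (hDa i) n (b' i k)
    refine ⟨b, fun i => ?_⟩
    rw [prv_sub, hpr]
    have e : ccMap D (prN 𝔛 h ι n) m b = b' := funext fun i => funext (hb i)
    rw [e]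
    exact hb' i
  have hdown : ∀ n b, P (n + 1) b → P n b := fun n b hb i => by
    have := tr_mem_spanL (hb i)
    simp only [prv, tr_pr] at this
    exact this
  -- cocycles on a level lift to cocycles
  have hlift := fun n => lift_cocycle hU hL hDU hD (fun i => hDa i) hcov r g n (hspan n) (hg n) m
  have hex : ∀ n b, P n b → ∃ b', P (n + 1) b' ∧ ∀ i, prv n _ (b' i) = prv n _ (b i) := by
    intro n b hb
    obtain ⟨v, hv⟩ := hlev (n + 1)
    obtain ⟨z', hz', hz⟩ := hlift n (ccMap D (prN 𝔛 h ι n) m (v - b)) fun i => by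
      rw [← hpr]
      have := sub_mem (hb i) (hdown n v hv i)
      rw [← prv_sub, sub_sub_sub_cancel_left] at this
      rw [map_sub]
      exact this
    choose d₀ hd hde using fun i => exists_lift_mem_spanL hL (hDa i) (hz i)
    let d : CC D (vecP 𝔛 h ι) m := d₀
    refine ⟨v - z' - d, fun i => ?_, fun i => ?_⟩
    · have e : a i - cdiff D (vecP 𝔛 h ι) m (v - z' - d) i =
          (a i - cdiff D (vecP 𝔛 h ι) m v i) + cdiff D (vecP 𝔛 h ι) m d i := by
        rw [map_sub, map_sub, hz', Pi.sub_apply, Pi.sub_apply, Pi.zero_apply, sub_zero]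
        abel
      rw [e]
      show prv (n + 1) _ ((show ι → OR 𝔛 h (inter D i) from a i - cdiff D (vecP 𝔛 h ι) m v i) +
        (show ι → OR 𝔛 h (inter D i) from cdiff D (vecP 𝔛 h ι) m d i)) ∈ _
      rw [prv_add]
      refine add_mem (hv i) (prv_mem_spanL _ ?_)
      rw [cdiff_apply]
      exact sum_mem fun j _ => zsmul_mem (rsv_mem_spanO (inter_comp_le D i j.succAbove) (hd _)) _
    · have e3 : prv n _ ((v - z' - d) i) =
          prv n _ (v i) - prv n _ (z' i) - prv n (inter D i) (d₀ i) := by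
        rw [← prv_sub, ← prv_sub]
        rfl
      rw [e3, hde]
      show prv n _ (v i) - prv n _ (z' i) - (prv n _ ((v - b) i) - prv n _ (z' i)) = _
      rw [show prv n (inter D i) ((v - b) i) = prv n _ (v i) - prv n _ (b i) from prv_sub n (v i) (b i)]
      abel
  obtain ⟨b0, hb0⟩ := hlev 0
  choose! next hnext hnext' using hex
  let w : ℕ → CC D (vecP 𝔛 h ι) m := fun n => Nat.rec b0 next n
  have hw : ∀ n, P n (w n) := fun n => by
    induction n with
    | zero => exact hb0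
    | succ n ih => exact hnext n (w n) ih
  have hb : ∀ i k n, tr 𝔛 h (inter D i) n (pr 𝔛 h (inter D i) (n + 1) (w (n + 1) i k)) = pr 𝔛 h (inter D i) n (w n i k) :=
    fun i k n => (tr_pr 𝔛 h (inter D i) n _).trans (congrFun (hnext' n (w n) (hw n) i) k)
  choose b hbl using fun i k => osh_lift (fun n => pr 𝔛 h (inter D i) n (w n i k)) (hb i k)
  refine ⟨b, fun i => mem_spanO_of_levels hL (hDa i) fun n => ?_⟩
  have h1 := hw n i
  rw [prv_sub, hpr] at h1 ⊢
  rw [show ccMap D (prN 𝔛 h ι n) m b = ccMap D (prN 𝔛 h ι n) m (w n) from funext fun i => funext fun k => hbl i k n]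
  exact h1

variable {M : FSch.ModF 𝔛 h} {V : (𝔛.X 0).Opens}

/-- Quasi-coherent modules are exact on standard covers of affine opens, in all degrees. -/
theorem cexact_qc [Finite α] (hL : 𝔛.IsLocNoethFormal) (Dk : RelData M V) (hU : IsAffineOpen U) (hUV : U ≤ V)
    (g : α → Γ(𝔛.X 0, U)) (hcov : U ≤ iSup (stdU g)) (m : ℕ) :
    CExact (stdU g) M.val.presheaf m := by
  classical
  haveI := Fintype.ofFinite α
  intro z₀ hz
  let z : CC (stdU g) M.val.presheaf (m + 1) := z₀
  let D : α → (𝔛.X 0).Opens := stdU g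
  have hDU : ∀ p, D p ≤ U := fun p => (𝔛.X 0).basicOpen_le _
  have hD : ∀ p, IsAffineOpen (D p) := fun p => hU.basicOpen _
  have hDa : ∀ {k : ℕ} (i : Fin (k + 1) → α), IsAffineOpen (inter D i) := fun i => isAffineOpen_inter_stdU g hU i
  have hle : ∀ {k : ℕ} (i : Fin (k + 1) → α), inter D i ≤ U := fun i => (inter_le D i 0).trans (hDU _)
  choose gg hgg using fun p : α => lvU_basicOpen (h := h) hL hU (g p)
  have hspan : ∀ n, Ideal.span (Set.range fun p => pr 𝔛 h U n (gg p)) = ⊤ := fun n => by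
    rw [← (affine_lvU (h := h) hU n).self_le_iSup_basicOpen_iff]
    intro x hx
    obtain ⟨p, hp⟩ := Opens.mem_iSup.1 (hcov hx)
    exact Opens.mem_iSup.2 ⟨⟨_, p, rfl⟩, (hgg p n).le hp⟩
  choose Sz c hc0 hc using fun i : Fin (m + 2) → α => exists_eq_sum hL Dk (hDa i) ((hle i).trans hUV) (z i)
  let J0 : Finset Dk.I := Finset.univ.biUnion Sz
  let tt : ↥J0 → M.val.obj (op U) := fun j => FPLocal.mres _ (homOfLE hUV).op (Dk.t j.1)
  obtain ⟨l, r, hr0, hr⟩ := relComplete_qc hL Dk hU hUV tt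
  let a : CC D (vecP 𝔛 h ↥J0) (m + 1) := fun i j => c i j.1
  have ha : ∀ i, evv tt (hle i) (a i) = z i := fun i => by
    refine Eq.trans ?_ (hc i)
    rw [Finset.sum_subset (s₂ := J0) (fun j hj => Finset.mem_biUnion.2 ⟨i, Finset.mem_univ _, hj⟩)
      (fun j _ hj => by rw [hc0 i j hj, zero_smul]), ← Finset.sum_coe_sort J0]
    refine Finset.sum_congr rfl fun j _ => ?_
    exact congrArg (c i j.1 • ·) (FPLocal.mres_comp (M := M) _ _ _).symm
  let E : ∀ {k : ℕ} (i : Fin (k + 1) → α), (↥J0 → OR 𝔛 h (inter D i)) →+ M.val.obj (op (inter D i)) :=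
    fun i => AddMonoidHom.mk' (evv tt (hle i)) (evv_add tt (hle i))
  have hcomm : ∀ {k : ℕ} (b : CC D (vecP 𝔛 h ↥J0) k) (i : Fin (k + 2) → α),
      E i (cdiff D (vecP 𝔛 h ↥J0) k b i) = cdiff D M.val.presheaf k (fun i => E i (b i)) i := fun {k} b i => by
    rw [cdiff_apply, cdiff_apply, map_sum]
    refine Finset.sum_congr rfl fun j _ => ?_
    rw [map_zsmul]
    refine congrArg (_ • ·) ?_
    exact evv_rsv tt (hle _) (inter_comp_le D i j.succAbove) _
  have hcocycle : ∀ i, cdiff D (vecP 𝔛 h ↥J0) (m + 1) a i ∈ spanO r (hle i) := fun i => by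
    refine mem_spanO_of_locally hU hL _ (hDa i) fun x hx => ?_
    have hzero : evv tt (hle i) (cdiff D (vecP 𝔛 h ↥J0) (m + 1) a i) = 0 := by
      refine (hcomm a i).trans ?_
      rw [show (fun i => E i (a i)) = z from funext ha]
      exact congrFun hz i
    obtain ⟨T, hT, hT'⟩ := hr (homOfLE (hle i)) _ hzero
    obtain ⟨A, k, hk, hxA⟩ := hT x hx
    obtain ⟨e, he⟩ := hT' k hk
    refine ⟨A, leOfHom k, hxA, ?_⟩
    refine (Submodule.mem_span_range_iff_exists_fun _).2 ⟨e, funext fun j => ?_⟩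
    rw [Finset.sum_apply]
    exact he j
  obtain ⟨b, hb⟩ := exists_coboundary_high hU hL hDU hD (fun i => hDa i) hcov r gg hspan (fun n p => hgg p n) m a hcocycle
  refine ⟨fun i => E i (b i), funext fun i => ?_⟩
  rw [← hcomm b i]
  have e := evv_eq_zero tt r hr0 (hle i) (hb i)
  rw [evv_sub, ha, sub_eq_zero] at e
  exact e.symm

/-- Modules with generators and relations on affine opens have no higher cohomology there. -/
theorem subsingleton_HU_qc (hL : 𝔛.IsLocNoethFormal) (Dk : RelData M V) (hU : IsAffineOpen U) (hUV : U ≤ V) (k : ℕ) :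
    Subsingleton (HU U ((SheafOfModules.toSheaf (ModSite.ringSh (𝔛.Osh h))).obj M) (k + 1)) := by
  refine (affineSetup hU).subsingleton_HU ?_ (isBasicIn_self U) k
  rintro α W ⟨hfin, hb, V', hV', g, hg, rfl⟩ m
  have hle : ∀ p, stdU g p ≤ U := fun p => by
    obtain ⟨f, hf⟩ := hb p
    exact hf.le.trans ((𝔛.X 0).basicOpen_le f)
  have hcov : V' ≤ iSup (stdU g) := fun x hx => by
    have := hV'.self_le_iSup_basicOpen_iff.2 hg hx
    obtain ⟨⟨_, p, rfl⟩, hp⟩ := Opens.mem_iSup.1 this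
    exact Opens.mem_iSup.2 ⟨p, hp⟩
  have hV'U : V' ≤ U := fun x hx => by
    obtain ⟨p, hp⟩ := Opens.mem_iSup.1 (hcov hx)
    exact hle p hp
  exact cexact_qc hL Dk hV' (hV'U.trans hUV) g hcov m

end Groth.Agent.FCompl
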