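import Groth.Agent.FComplLib.Sheaf

/-!
# Maps from the module attached to a coherent system to modules on the levels
-/

set_option autoImplicit false
set_option linter.style.haveILetI false
set_option backward.isDefEq.respectTransparency false
set_option backward.isDefEq.respectTransparency.types false
set_option maxHeartbeats 1000000
universe u

open CategoryTheory CategoryTheory.Limits AlgebraicGeometry TopologicalSpace Opposite

noncomputable section

namespace Groth.Agent.FCompl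

variable {𝔛 : FSch.Sys.{u}} {h : 𝔛.IsFormal} {k : ℕ}

lemma lvU_toX (W : (𝔛.X k).Opens) : 𝔛.lvU h k (𝔛.toX k ⁻¹ᵁ W) = W := by
  show (Opens.map (𝔛.gInv h k ≫ (𝔛.toX k).base)).obj W = W
  rw [𝔛.gInv_toX_base h k]
  rfl

lemma toX_mono {W W' : (𝔛.X k).Opens} (hW : W ≤ W') : 𝔛.toX k ⁻¹ᵁ W ≤ 𝔛.toX k ⁻¹ᵁ W' :=
  Scheme.Hom.preimage_mono _ hW

/-- Direct image from a level is injective on maps. -/
theorem push_map_injective {F G : (𝔛.X k).Modules} {φ φ' : F ⟶ G}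
    (e : (FSch.levelMor 𝔛 h k).push.map φ = (FSch.levelMor 𝔛 h k).push.map φ') : φ = φ' := by
  ext W : 2
  have h1 : φ.app (𝔛.lvU h k (𝔛.toX k ⁻¹ᵁ W)) = φ'.app (𝔛.lvU h k (𝔛.toX k ⁻¹ᵁ W)) := by
    ext x
    exact congr(($e).val.app (op (𝔛.toX k ⁻¹ᵁ W)) x)
  rw [lvU_toX] at h1
  rw [h1]

/-- Direct image from a level is surjective on maps. -/
theorem exists_push_map_eq (hL : 𝔛.IsLocNoethFormal) {F G : (𝔛.X k).Modules}
    (ψ : (FSch.levelMor 𝔛 h k).push.obj F ⟶ (FSch.levelMor 𝔛 h k).push.obj G) :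
    ∃ φ : F ⟶ G, (FSch.levelMor 𝔛 h k).push.map φ = ψ := by
  let V : (𝔛.X k).Opens → (𝔛.X 0).Opens := fun W => 𝔛.toX k ⁻¹ᵁ W
  have hV : ∀ W, 𝔛.lvU h k (V W) = W := fun W => lvU_toX W
  let g : ∀ W : (𝔛.X k).Opens, Γ(F, W) →+ Γ(G, W) := fun W =>
    ((G.presheaf.map (homOfLE (hV W).ge).op).hom.comp (ψ.val.app (op (V W))).hom.toAddMonoidHom).comp
      (F.presheaf.map (homOfLE (hV W).le).op).hom
  have hψ : ∀ {V₁ V₂ : (𝔛.X 0).Opens} (hle : V₁ ≤ V₂) (x : Γ(F, 𝔛.lvU h k V₂)),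
      ψ.val.app (op V₁) (F.presheaf.map (homOfLE (lvU_mono 𝔛 h hle k)).op x) =
        G.presheaf.map (homOfLE (lvU_mono 𝔛 h hle k)).op (ψ.val.app (op V₂) x) := fun hle x =>
    PresheafOfModules.naturality_apply ψ.val (homOfLE hle).op x
  have hlin : ∀ (V₁ : (𝔛.X 0).Opens) (a : LR 𝔛 h V₁ k) (x : Γ(F, 𝔛.lvU h k V₁)),
      (show Γ(G, 𝔛.lvU h k V₁) from ψ.val.app (op V₁) (a • x)) =
        a • (show Γ(G, 𝔛.lvU h k V₁) from ψ.val.app (op V₁) x) := by
    intro V₁ a x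
    rw [← sub_eq_zero]
    refine eq_zero_of_affine ((FSch.levelMor 𝔛 h k).push.obj G) _ fun Z hZ hZa => ?_
    obtain ⟨b, hb⟩ := pr_surjective hL hZa k (rsL 𝔛 h hZ k a)
    rw [map_sub, sub_eq_zero]
    show G.presheaf.map (homOfLE (lvU_mono 𝔛 h hZ k)).op _ = G.presheaf.map (homOfLE (lvU_mono 𝔛 h hZ k)).op _
    rw [← hψ hZ, show F.presheaf.map (homOfLE (lvU_mono 𝔛 h hZ k)).op (a • x) = rsL 𝔛 h hZ k a •
        F.presheaf.map (homOfLE (lvU_mono 𝔛 h hZ k)).op x from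
      F.val.map_smul (homOfLE (lvU_mono 𝔛 h hZ k)).op a x, ← hb]
    refine (map_smul (ψ.val.app (op Z)).hom b _).trans ?_
    refine Eq.trans ?_ (G.val.map_smul (homOfLE (lvU_mono 𝔛 h hZ k)).op a _).symm
    show pr 𝔛 h Z k b • (show Γ(G, 𝔛.lvU h k Z) from ψ.val.app (op Z) _) = rsL 𝔛 h hZ k a • _
    rw [hb, hψ hZ]
    rfl
  let p : F.presheaf ⟶ G.presheaf :=
    { app := fun W => AddCommGrpCat.ofHom (g W.unop)
      naturality := fun W W' i => by
        ext x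
        show G.presheaf.map (homOfLE (hV W'.unop).ge).op (ψ.val.app (op (V W'.unop))
            (F.presheaf.map (homOfLE (hV W'.unop).le).op (F.presheaf.map i x))) =
          G.presheaf.map i (G.presheaf.map (homOfLE (hV W.unop).ge).op (ψ.val.app (op (V W.unop))
            (F.presheaf.map (homOfLE (hV W.unop).le).op x)))
        have hle : V W'.unop ≤ V W.unop := toX_mono (leOfHom i.unop)
        rw [← ConcreteCategory.comp_apply (F.presheaf.map i), ← F.presheaf.map_comp,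
          show i ≫ (homOfLE (hV W'.unop).le).op =
            (homOfLE (hV W.unop).le).op ≫ (homOfLE (lvU_mono 𝔛 h hle k)).op from Subsingleton.elim _ _,
          F.presheaf.map_comp, ConcreteCategory.comp_apply, hψ hle]
        rw [← ConcreteCategory.comp_apply (G.presheaf.map (homOfLE (lvU_mono 𝔛 h hle k)).op), ← G.presheaf.map_comp,
          ← ConcreteCategory.comp_apply (G.presheaf.map (homOfLE (hV W.unop).ge).op), ← G.presheaf.map_comp]
        congr 2 }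
  have hg : ∀ (W : (𝔛.X k).Opens) (a : Γ(𝔛.X k, W)) (x : Γ(F, W)), g W (a • x) = a • g W x := by
    intro W a x
    show G.presheaf.map (homOfLE (hV W).ge).op (ψ.val.app (op (V W))
        (F.presheaf.map (homOfLE (hV W).le).op (a • x))) = _
    rw [show F.presheaf.map (homOfLE (hV W).le).op (a • x) =
        ((𝔛.X k).presheaf.map (homOfLE (hV W).le).op a) • F.presheaf.map (homOfLE (hV W).le).op x from
      F.val.map_smul (homOfLE (hV W).le).op a x]
    refine (congrArg (G.presheaf.map (homOfLE (hV W).ge).op) (hlin _ _ _)).trans ?_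
    refine (G.val.map_smul (homOfLE (hV W).ge).op _ _).trans ?_
    refine congrArg (fun c => c • _) ?_
    show (𝔛.X k).presheaf.map (homOfLE (hV W).ge).op ((𝔛.X k).presheaf.map (homOfLE (hV W).le).op a) = a
    rw [← ConcreteCategory.comp_apply, ← Functor.map_comp]
    exact congr($((𝔛.X k).presheaf.map_id (op W)) a)
  let φ : F ⟶ G := ⟨PresheafOfModules.homMk p fun W a x => hg W.unop a x⟩
  refine ⟨φ, ?_⟩
  ext V₁ x
  show g (𝔛.lvU h k V₁.unop) x = ψ.val.app V₁ x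
  have e : V (𝔛.lvU h k V₁.unop) = V₁.unop := by
    show (Opens.map ((𝔛.toX k).base ≫ 𝔛.gInv h k)).obj V₁.unop = V₁.unop
    rw [𝔛.toX_base_gInv h k]
    rfl
  show G.presheaf.map (homOfLE (hV _).ge).op (ψ.val.app (op (V _)) (F.presheaf.map (homOfLE (hV _).le).op x)) = _
  refine (congrArg (G.presheaf.map _) (hψ e.le x)).trans ?_
  exact (CohBase.restr_trans G _ _ _).trans (CohBase.restr_self G _ _)

variable (𝔐 : FSch.ModSys 𝔛)

theorem epi_realProj (hL : 𝔛.IsLocNoethFormal) (h𝔐 : 𝔐.IsCoh) (k : ℕ) :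
    Epi (FSch.realProj 𝔛 h 𝔐.F 𝔐.toPush k) := by
  refine FPLocal.epi_of_exists_preimage _ fun W m => ⟨affSieve _ W, affSieve_mem _ W, fun Z g hg => ?_⟩
  obtain ⟨Z', hZ', hZZ', hZ'W⟩ := hg
  obtain ⟨t, ht⟩ := ((mod_main (h := h) 𝔐 hL h𝔐 hZ').2 k).1 (rsM h 𝔐 hZ'W k m)
  refine ⟨rsOM h 𝔐 hZZ' t, ?_⟩
  refine (pm_rsOM 𝔐 hZZ' k t).trans ?_
  rw [ht, show g.op = (homOfLE hZ'W).op ≫ (homOfLE hZZ').op from Subsingleton.elim _ _, FPLocal.mres_comp]
  rfl

/-- Maps to a direct image from a level factor uniquely through the projection. -/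
theorem existsUnique_factor (hL : 𝔛.IsLocNoethFormal) (h𝔐 : 𝔐.IsCoh) (k : ℕ) (G : (𝔛.X k).Modules)
    (ψ : 𝔐.realMod h ⟶ (FSch.levelMor 𝔛 h k).push.obj G) :
    ∃! φ : 𝔐.F k ⟶ G,
      FSch.realProj 𝔛 h 𝔐.F 𝔐.toPush k ≫ (FSch.levelMor 𝔛 h k).push.map φ = ψ := by
  haveI := epi_realProj (h := h) 𝔐 hL h𝔐 k
  let π : 𝔐.realMod h ⟶ (FSch.levelMor 𝔛 h k).push.obj (𝔐.F k) := FSch.realProj 𝔛 h 𝔐.F 𝔐.toPush k
  have w : kernel.ι π ≫ ψ = 0 := by
    ext W y
    refine eq_zero_of_affine _ _ fun Z hZ hZa => ?_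
    let m : OM h 𝔐 W.unop := ((kernel.ι π).val.app W).hom y
    have hm : pm h 𝔐 W.unop k m = 0 := by
      exact congrArg (fun f : kernel π ⟶ (FSch.levelMor 𝔛 h k).push.obj (𝔐.F k) => (f.val.app W).hom y)
        (kernel.condition π)
    refine (PresheafOfModules.naturality_apply ψ.val (homOfLE hZ).op m).symm.trans ?_
    have h1 : pm h 𝔐 Z k (rsOM h 𝔐 hZ m) = 0 := by rw [pm_rsOM, hm, map_zero]
    have h2 := (((mod_main (h := h) 𝔐 hL h𝔐 hZa).2 k).2 _).1 h1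
    refine Submodule.smul_induction_on (p := fun t => (ψ.val.app (op Z)).hom t = 0) h2
      (fun a ha t _ => ?_) (fun a b ha hb => by rw [map_add, ha, hb, add_zero])
    refine (map_smul _ _ _).trans ?_
    show pr 𝔛 h Z k a • (show Γ(G, 𝔛.lvU h k Z) from (ψ.val.app (op Z)).hom t) = 0
    rw [← ker_pr hL hZa k, RingHom.mem_ker] at ha
    rw [ha]
    exact zero_smul _ _
  haveI : Epi (ShortComplex.mk (kernel.ι π) π (kernel.condition π)).g := inferInstanceAs (Epi π)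
  let hS := ShortComplex.exact_of_f_is_kernel (ShortComplex.mk (kernel.ι π) π (kernel.condition π))
    (kernelIsKernel π)
  obtain ⟨φ, hφ⟩ := exists_push_map_eq hL (hS.desc ψ w)
  refine ⟨φ, ?_, fun φ' hφ' => push_map_injective (h := h) ?_⟩
  · show π ≫ _ = ψ
    rw [hφ]
    exact hS.g_desc ψ w
  · rw [hφ, ← cancel_epi π]
    exact (show π ≫ _ = ψ from hφ').trans (hS.g_desc ψ w).symm

/-- The adjunct of the projection is an isomorphism. -/
theorem isIso_symm_realProj (hL : 𝔛.IsLocNoethFormal) (h𝔐 : 𝔐.IsCoh) (k : ℕ) :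
    IsIso (((FSch.levelMor 𝔛 h k).adj.homEquiv _ _).symm (FSch.realProj 𝔛 h 𝔐.F 𝔐.toPush k)) := by
  let f := FSch.levelMor 𝔛 h k
  let π := FSch.realProj 𝔛 h 𝔐.F 𝔐.toPush k
  let η := f.adj.unit.app (𝔐.realMod h)
  let θ := (f.adj.homEquiv _ _).symm π
  obtain ⟨σ, hσ, -⟩ := existsUnique_factor 𝔐 hL h𝔐 k _ η
  have hθ : η ≫ f.push.map θ = π := by
    rw [show η ≫ f.push.map θ = f.adj.homEquiv _ _ θ from (f.adj.homEquiv_unit _ _ _).symm]
    exact Equiv.apply_symm_apply _ _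
  refine ⟨σ, (f.adj.homEquiv _ _).injective ?_, (existsUnique_factor 𝔐 hL h𝔐 k _ π).unique ?_ ?_⟩
  · refine (f.adj.homEquiv_unit _ _ _).trans ((?_ : η ≫ f.push.map (θ ≫ σ) = η).trans ?_)
    · rw [Functor.map_comp, ← Category.assoc, hθ]
      exact hσ
    · refine Eq.trans ?_ (f.adj.homEquiv_unit _ _ _).symm
      exact (Category.comp_id η).symm.trans (congrArg (η ≫ ·) (f.push.map_id _).symm)
  · show π ≫ f.push.map (σ ≫ θ) = π
    rw [Functor.map_comp, ← Category.assoc, show π ≫ f.push.map σ = η from hσ]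
    exact hθ
  · show π ≫ f.push.map (𝟙 _) = π
    rw [CategoryTheory.Functor.map_id]
    exact Category.comp_id π

/-- The functor to attached modules is fully faithful. -/
theorem realModMap_bijective (hL : 𝔛.IsLocNoethFormal) {𝔑 : FSch.ModSys 𝔛} (h𝔐 : 𝔐.IsCoh) :
    Function.Bijective (fun φ : 𝔐 ⟶ 𝔑 => FSch.ModSys.realModMap h φ) := by
  refine ⟨fun φ φ' e => ?_, fun ψ => ?_⟩
  · refine FSch.ModSys.Hom.ext (funext fun k => ?_)
    refine (existsUnique_factor (h := h) 𝔐 hL h𝔐 k (𝔑.F k)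
      (FSch.ModSys.realModMap h φ ≫ FSch.realProj 𝔛 h 𝔑.F 𝔑.toPush k)).unique ?_ ?_
    · exact (FSch.realLimMap_realProj 𝔛 h φ.app (FSch.ModSys.Hom.toPush_comm φ) k).symm
    · rw [show FSch.ModSys.realModMap h φ = FSch.ModSys.realModMap h φ' from e]
      exact (FSch.realLimMap_realProj 𝔛 h φ'.app (FSch.ModSys.Hom.toPush_comm φ') k).symm
  · choose φ hφ using fun k => (existsUnique_factor (h := h) 𝔐 hL h𝔐 k (𝔑.F k)
      (ψ ≫ FSch.realProj 𝔛 h 𝔑.F 𝔑.toPush k)).exists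
    have hpt : ∀ k (Z : (𝔛.X 0).Opens) (m : OM h 𝔐 Z),
        (φ k).app (𝔛.lvU h k Z) (pm h 𝔐 Z k m) = pm h 𝔑 Z k ((ψ.val.app (op Z)).hom m) := fun k Z m =>
      congr($(hφ k).val.app (op Z) m)
    have hsys : ∀ k, 𝔐.toPush k ≫ (Scheme.Modules.pushforward (𝔛.ι k)).map (φ k) =
        φ (k + 1) ≫ 𝔑.toPush k := by
      intro k
      apply push_map_injective (h := h)
      haveI := epi_realProj (h := h) 𝔐 hL h𝔐 (k + 1)
      apply (cancel_epi (FSch.realProj 𝔛 h 𝔐.F 𝔐.toPush (k + 1))).1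
      haveI : IsIso ((FSch.pushCompare 𝔛 h k).app (𝔑.F k)) :=
        ⟨(FSch.pushCompareInv 𝔛 h k).app (𝔑.F k), FSch.pushCompare_pushCompareInv 𝔛 h k _,
          FSch.pushCompareInv_pushCompare 𝔛 h k _⟩
      apply (cancel_mono ((FSch.pushCompare 𝔛 h k).app (𝔑.F k))).1
      ext Z m
      show (𝔑.F k).presheaf.map (homOfLE (𝔛.lvU_le h k Z.unop)).op
          ((φ k).app _ ((𝔐.toPush k).app _ (pm h 𝔐 Z.unop (k + 1) m))) =
        (𝔑.F k).presheaf.map (homOfLE (𝔛.lvU_le h k Z.unop)).op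
          ((𝔑.toPush k).app _ ((φ (k + 1)).app _ (pm h 𝔐 Z.unop (k + 1) m)))
      refine ((congr($((φ k).mapPresheaf.naturality (homOfLE (𝔛.lvU_le h k Z.unop)).op)
        ((𝔐.toPush k).app _ (pm h 𝔐 Z.unop (k + 1) m)))).symm).trans ?_
      show (φ k).app _ (tm h 𝔐 Z.unop k (pm h 𝔐 Z.unop (k + 1) m)) =
        tm h 𝔑 Z.unop k ((φ (k + 1)).app _ (pm h 𝔐 Z.unop (k + 1) m))
      rw [tm_pm, hpt k, hpt (k + 1), tm_pm]
    refine ⟨⟨φ, fun k => ?_⟩, ?_⟩
    · apply ((Scheme.Modules.pullbackPushforwardAdjunction (𝔛.ι k)).homEquiv _ _).injective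
      rw [Adjunction.homEquiv_naturality_left, Adjunction.homEquiv_naturality_right]
      exact (hsys k).symm
    · refine limit.hom_ext fun j => ?_
      exact ((FSch.realLimMap_realProj 𝔛 h φ _ j.unop).trans (hφ j.unop))

end Groth.Agent.FCompl
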