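import Groth.Agent.FComplLib.QCSections

/-!
# Kernels, cokernels and images of quasi-coherent modules
-/

set_option autoImplicit false
set_option linter.style.haveILetI false
set_option linter.unusedVariables false
set_option backward.isDefEq.respectTransparency false
set_option backward.isDefEq.respectTransparency.types false
set_option maxHeartbeats 4000000
universe u

open CategoryTheory CategoryTheory.Limits AlgebraicGeometry TopologicalSpace Opposite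

noncomputable section

namespace Groth.Agent.FCompl

variable {𝔛 : FSch.Sys.{u}} {h : 𝔛.IsFormal}

section Family

variable {M : FSch.ModF 𝔛 h} {U : (𝔛.X 0).Opens} {I : Type u} {t : I → M.val.obj (op U)}

/-- Generators from finite families. -/
theorem genFin_of_family (H : ∀ ⦃W : (𝔛.X 0).Opens⦄ (g : W ⟶ U) (m : M.val.obj (op W)),
    FPLocal.Locally (Opens.grothendieckTopology _) W fun Z l => ∃ (Q : Type u) (_ : Fintype Q) (q : Q → I)
      (a : Q → (ModSite.ringSh (𝔛.Osh h)).obj.obj (op Z)),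
      ∑ x, a x • FPLocal.mres M (l ≫ g).op (t (q x)) = FPLocal.mres M l.op m) : GenFin M t := by
  classical
  intro W g m
  refine (H g m).mono fun Z l hl => ?_
  obtain ⟨Q, _, q, a, ha⟩ := hl
  refine ⟨Finset.univ.image q, fun i => ∑ x ∈ Finset.univ.filter (fun x => q x = i), a x, Eq.trans ?_ ha⟩
  rw [← Finset.sum_fiberwise_of_maps_to (t := Finset.univ.image q)
    (fun x _ => Finset.mem_image_of_mem _ (Finset.mem_univ x))]
  refine Finset.sum_congr rfl fun i _ => ?_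
  rw [Finset.sum_smul]
  exact Finset.sum_congr rfl fun x hx => by rw [(Finset.mem_filter.1 hx).2]

/-- Complete relations from finite families. -/
theorem relFin_of_family (H : ∀ ⦃W : (𝔛.X 0).Opens⦄ (g : W ⟶ U) (S : Finset I)
    (d : I → (ModSite.ringSh (𝔛.Osh h)).obj.obj (op W)), (∀ i ∉ S, d i = 0) →
    ∑ i ∈ S, d i • FPLocal.mres M g.op (t i) = 0 →
    FPLocal.Locally (Opens.grothendieckTopology _) W fun Z l => ∃ (Q : Type u) (_ : Fintype Q)
      (e : Q → (ModSite.ringSh (𝔛.Osh h)).obj.obj (op Z)) (c : Q → FinRel M t), ∀ i,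
        ∑ x, e x * ((ModSite.ringSh (𝔛.Osh h)).obj.map (l ≫ g).op).hom ((c x).1 i) =
          ((ModSite.ringSh (𝔛.Osh h)).obj.map l.op).hom (d i)) : RelFin M t := by
  classical
  intro W g S d hd0 hd
  refine (H g S d hd0 hd).mono fun Z l hl => ?_
  obtain ⟨Q, _, e, c, he⟩ := hl
  refine ⟨Finset.univ.image c, fun C => ∑ x ∈ Finset.univ.filter (fun x => c x = C), e x,
    fun i => Eq.trans ?_ (he i)⟩
  rw [← Finset.sum_fiberwise_of_maps_to (t := Finset.univ.image c)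
    (fun x _ => Finset.mem_image_of_mem _ (Finset.mem_univ x))]
  refine Finset.sum_congr rfl fun C _ => ?_
  rw [Finset.sum_mul]
  exact Finset.sum_congr rfl fun x hx => by rw [(Finset.mem_filter.1 hx).2]

variable (t) in
/-- A finite relation with given coefficients. -/
def mkFinRel (S : Finset I) (c : I → OR 𝔛 h U) (hc0 : ∀ i ∉ S, c i = 0) (hc : ∑ i ∈ S, c i • t i = 0) :
    FinRel M t :=
  ⟨Finsupp.onFinset S c fun i hi => by by_contra h'; exact hi (hc0 i h'),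
    (Finsupp.sum_of_support_subset _ Finsupp.support_onFinset_subset _
      (fun i _ => zero_smul ((ModSite.ringSh (𝔛.Osh h)).obj.obj (op U)) (t i))).trans hc⟩

lemma mkFinRel_apply (S : Finset I) (c : I → OR 𝔛 h U) (hc0 : ∀ i ∉ S, c i = 0) (hc : ∑ i ∈ S, c i • t i = 0)
    (i : I) : (mkFinRel t S c hc0 hc).1 i = c i := rfl

end Family

variable {𝔉 𝔊 : FSch.ModF 𝔛 h} {U V V' : (𝔛.X 0).Opens}

/-- Quasi-coherent modules have generators and relations near every point. -/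
theorem exists_relData [SheafOfModules.IsQuasicoherent.{u} 𝔉] {W : (𝔛.X 0).Opens} {x : 𝔛.X 0} (hx : x ∈ W) :
    ∃ V : (𝔛.X 0).Opens, V ≤ W ∧ x ∈ V ∧ Nonempty (RelData 𝔉 V) := by
  obtain ⟨q⟩ := SheafOfModules.IsQuasicoherent.nonempty_quasicoherentData (M := 𝔉)
  obtain ⟨V, g, hg, hxV⟩ := q.coversTop W x hx
  obtain ⟨i, ⟨f⟩⟩ := (Sieve.mem_ofObjects_iff ..).mp hg
  exact ⟨V, leOfHom g, hxV, ⟨relDataOfPresentation 𝔉 (FPLocal.presentationRestr 𝔉 f (q.presentation i))⟩⟩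

/-- Relations of finitely many sections over an affine open. -/
theorem relComplete_qc (hL : 𝔛.IsLocNoethFormal) (D : RelData 𝔉 V) (hU : IsAffineOpen U) (hUV : U ≤ V)
    {ι : Type u} [Fintype ι] (s : ι → 𝔉.val.obj (op U)) :
    ∃ (l : ℕ) (c : ULift.{u} (Fin l) → ι → OR 𝔛 h U),
      (∀ k, ∑ i, c k i • s i = 0) ∧ FPLocal.RelComplete 𝔉 c s := by
  classical
  choose S a ha0 ha using fun i => exists_eq_sum hL D hU hUV (s i)
  refine relComplete_of_relData hL D hU hUV s (Finset.univ.biUnion S) a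
    (fun i j hj => ha0 i j fun hc => hj (Finset.mem_biUnion.2 ⟨i, Finset.mem_univ i, hc⟩)) fun i => ?_
  exact (Finset.sum_subset (fun j hj => Finset.mem_biUnion.2 ⟨i, Finset.mem_univ i, hj⟩)
    fun j _ hj => by rw [ha0 i j hj, zero_smul]).symm.trans (ha i)

variable (φ : 𝔉 ⟶ 𝔊)

theorem genFin_kernel (hL : 𝔛.IsLocNoethFormal) (D : RelData 𝔉 V) (D' : RelData 𝔊 V') (hU : IsAffineOpen U)
    (hUV : U ≤ V) (hUV' : U ≤ V') : GenFin (kernel φ) (id : (kernel φ).val.obj (op U) → _) := by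
  classical
  refine genFin_of_family fun W g z => ?_
  let z' := ((kernel.ι φ).val.app (op W)).hom z
  refine FPLocal.Locally.bind (D.gen (g ≫ homOfLE hUV) z') fun Z l ⟨S, d, hd⟩ => ?_
  obtain ⟨n, c, hc0, hc⟩ := relComplete_qc hL D' hU hUV'
    (fun j : ↥S => (φ.val.app (op U)).hom (FPLocal.mres 𝔉 (homOfLE hUV).op (D.t j.1)))
  have hz : ∑ j : ↥S, d j.1 • FPLocal.mres 𝔊 (l ≫ g).op
      ((φ.val.app (op U)).hom (FPLocal.mres 𝔉 (homOfLE hUV).op (D.t j.1))) = 0 := by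
    have e := congrArg (φ.val.app (op Z)).hom hd
    rw [map_sum, FPLocal.app_mres, show (φ.val.app (op W)).hom z' = 0 from
      congrArg (fun f : kernel φ ⟶ 𝔊 => (f.val.app (op W)).hom z) (kernel.condition φ), map_zero,
      ← Finset.sum_coe_sort] at e
    refine Eq.trans (Finset.sum_congr rfl fun j _ => ?_) e
    rw [map_smul, ← FPLocal.app_mres, ← FPLocal.mres_comp]
    rfl
  obtain ⟨T, hT, hT'⟩ := hc (l ≫ g) (fun j : ↥S => d j.1) hz
  have hker : ∀ k, ∃ κ : (kernel φ).val.obj (op U), ((kernel.ι φ).val.app (op U)).hom κ =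
      ∑ j : ↥S, c k j • FPLocal.mres 𝔉 (homOfLE hUV).op (D.t j.1) := fun k => by
    refine FPLocal.exists_kernel_preimage φ _ ?_
    rw [map_sum]
    exact Eq.trans (Finset.sum_congr rfl fun j _ => map_smul (φ.val.app (op U)).hom (c k j) _) (hc0 k)
  choose κ hκ using hker
  refine ⟨T, hT, fun Y q hq => ?_⟩
  obtain ⟨e, he⟩ := hT' q hq
  refine ⟨ULift.{u} (Fin n), inferInstance, κ, e, FPLocal.app_injective_of_mono (kernel.ι φ) Y ?_⟩
  rw [map_sum, FPLocal.app_mres]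
  show _ = FPLocal.mres 𝔉 (q ≫ l).op z'
  have hd' := congrArg (FPLocal.mres 𝔉 q.op) hd
  rw [map_sum, ← FPLocal.mres_comp, ← Finset.sum_coe_sort] at hd'
  refine Eq.trans ?_ hd'
  have hY : ∀ k : ULift.{u} (Fin n), ((kernel.ι φ).val.app (op Y)).hom
      (e k • FPLocal.mres (kernel φ) ((q ≫ l) ≫ g).op (id (κ k))) =
      ∑ j : ↥S, (e k * ((ModSite.ringSh (𝔛.Osh h)).obj.map (q ≫ l ≫ g).op).hom (c k j)) •
        FPLocal.mres 𝔉 (q ≫ l ≫ g ≫ homOfLE hUV).op (D.t j.1) := fun k => by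
    rw [map_smul, FPLocal.app_mres, id_eq, hκ, map_sum, Finset.smul_sum, Category.assoc]
    refine Finset.sum_congr rfl fun j _ => ?_
    rw [mul_smul]
    refine congrArg (e k • ·) ?_
    refine (PresheafOfModules.map_smul 𝔉.val (q ≫ l ≫ g).op (c k j) _).trans ?_
    exact congrArg _ (FPLocal.mres_comp (M := 𝔉) (homOfLE hUV).op (q ≫ l ≫ g).op (D.t j.1)).symm
  refine (Finset.sum_congr rfl fun k _ => hY k).trans ?_
  rw [Finset.sum_comm]
  refine Finset.sum_congr rfl fun j _ => ?_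
  rw [← Finset.sum_smul]
  refine Eq.trans (congrArg (· • FPLocal.mres 𝔉 (q ≫ l ≫ g ≫ homOfLE hUV).op (D.t j.1)) (he j)) ?_
  refine Eq.trans ?_ (PresheafOfModules.map_smul 𝔉.val q.op (d j.1) _).symm
  refine congrArg _ ?_
  exact FPLocal.mres_comp (M := 𝔉) (l ≫ g ≫ homOfLE hUV).op q.op (D.t j.1)

theorem relFin_kernel (hL : 𝔛.IsLocNoethFormal) (D : RelData 𝔉 V) (hU : IsAffineOpen U) (hUV : U ≤ V) :
    RelFin (kernel φ) (id : (kernel φ).val.obj (op U) → _) := by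
  classical
  refine relFin_of_family fun W g S d hd0 hd => ?_
  obtain ⟨n, c, hc0, hc⟩ := relComplete_qc hL D hU hUV
    (fun s : ↥S => ((kernel.ι φ).val.app (op U)).hom s.1)
  have hd' : ∑ s : ↥S, d s.1 • FPLocal.mres 𝔉 g.op (((kernel.ι φ).val.app (op U)).hom s.1) = 0 := by
    have e := congrArg ((kernel.ι φ).val.app (op W)).hom hd
    rw [map_sum, map_zero, ← Finset.sum_coe_sort] at e
    refine Eq.trans (Finset.sum_congr rfl fun s _ => ?_) e
    rw [map_smul, FPLocal.app_mres]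
    rfl
  obtain ⟨T, hT, hT'⟩ := hc g (fun s : ↥S => d s.1) hd'
  let c' : ULift.{u} (Fin n) → (kernel φ).val.obj (op U) → OR 𝔛 h U := fun k s =>
    if hs : s ∈ S then c k ⟨s, hs⟩ else 0
  have hc' : ∀ k, ∑ s ∈ S, c' k s • id s = 0 := fun k => by
    refine FPLocal.app_injective_of_mono (kernel.ι φ) U ?_
    rw [map_sum, map_zero, ← Finset.sum_coe_sort]
    refine Eq.trans (Finset.sum_congr rfl fun s _ => ?_) (hc0 k)
    refine (map_smul ((kernel.ι φ).val.app (op U)).hom (c' k s.1) _).trans ?_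
    exact congrArg (· • _) (dif_pos s.2)
  refine ⟨T, hT, fun Y q hq => ?_⟩
  obtain ⟨e, he⟩ := hT' q hq
  refine ⟨ULift.{u} (Fin n), inferInstance, e,
    fun k => mkFinRel id S (c' k) (fun s hs => dif_neg hs) (hc' k), fun s => ?_⟩
  by_cases hs : s ∈ S
  · refine Eq.trans (Finset.sum_congr rfl fun k _ => ?_) (he ⟨s, hs⟩)
    refine congrArg (fun x : OR 𝔛 h U => e k * ((ModSite.ringSh (𝔛.Osh h)).obj.map (q ≫ g).op).hom x) ?_
    exact dif_pos hs
  · rw [hd0 s hs, map_zero]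
    refine Finset.sum_eq_zero fun k _ => ?_
    refine (congrArg (fun x : OR 𝔛 h U => e k * ((ModSite.ringSh (𝔛.Osh h)).obj.map (q ≫ g).op).hom x)
      (dif_neg hs : c' k s = 0)).trans ?_
    exact (congrArg (e k * ·) (map_zero _)).trans (mul_zero _)

/-- Kernels of maps of quasi-coherent modules are quasi-coherent. -/
theorem isQuasicoherent_kernel (hL : 𝔛.IsLocNoethFormal) [SheafOfModules.IsQuasicoherent.{u} 𝔉]
    [SheafOfModules.IsQuasicoherent.{u} 𝔊] : SheafOfModules.IsQuasicoherent.{u} (kernel φ) := by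
  refine isQuasicoherent_of_genFin (kernel φ) fun W =>
    ⟨{ arrows := fun Z _ => ∃ (U : (𝔛.X 0).Opens) (_ : Z ⟶ U) (I : Type u) (t : I → (kernel φ).val.obj (op U)),
        GenFin (kernel φ) t ∧ RelFin (kernel φ) t
       downward_closed := fun {Y Z} _ ⟨U, f, hU⟩ k => ⟨U, k ≫ f, hU⟩ }, fun x hx => ?_, fun Z g hg => hg⟩
  obtain ⟨V, hVW, hxV, ⟨D⟩⟩ := exists_relData (𝔉 := 𝔉) hx
  obtain ⟨V', hV'V, hxV', ⟨D'⟩⟩ := exists_relData (𝔉 := 𝔊) hxV
  obtain ⟨U, hU, hxU, hUV'⟩ := exists_affine_le (𝔛 := 𝔛) hxV'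
  exact ⟨U, homOfLE ((hUV'.trans hV'V).trans hVW), ⟨U, 𝟙 U, _, _,
    genFin_kernel φ hL D D' hU (hUV'.trans hV'V) hUV', relFin_kernel φ hL D hU (hUV'.trans hV'V)⟩, hxU⟩


theorem genFin_cokernel (D' : RelData 𝔊 V') (hUV' : U ≤ V') :
    GenFin (cokernel φ) (fun j => ((cokernel.π φ).val.app (op U)).hom (FPLocal.mres 𝔊 (homOfLE hUV').op (D'.t j))) := by
  intro W g m
  refine FPLocal.Locally.bind (P := fun Z l => ∃ y, ((cokernel.π φ).val.app (op Z)).hom y =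
    FPLocal.mres (cokernel φ) l.op m) (FPLocal.exists_sieve_preimage (cokernel.π φ) m) fun Z l ⟨y, hy⟩ => ?_
  refine (D'.gen (l ≫ g ≫ homOfLE hUV') y).mono fun Y q hq => ?_
  obtain ⟨S, a, ha⟩ := hq
  refine ⟨S, a, ?_⟩
  have e := congrArg ((cokernel.π φ).val.app (op Y)).hom ha
  rw [map_sum, FPLocal.app_mres, hy, ← FPLocal.mres_comp] at e
  refine Eq.trans (Finset.sum_congr rfl fun j _ => ?_) e
  rw [map_smul, FPLocal.app_mres]
  refine congrArg (a j • ·) ?_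
  rw [← FPLocal.app_mres, ← FPLocal.app_mres, ← FPLocal.mres_comp]
  rfl

theorem relFin_cokernel (hL : 𝔛.IsLocNoethFormal) (D : RelData 𝔉 V) (D' : RelData 𝔊 V') (hU : IsAffineOpen U)
    (hUV : U ≤ V) (hUV' : U ≤ V') :
    RelFin (cokernel φ) (fun j => ((cokernel.π φ).val.app (op U)).hom (FPLocal.mres 𝔊 (homOfLE hUV').op (D'.t j))) := by
  classical
  let tg := fun j => FPLocal.mres 𝔊 (homOfLE hUV').op (D'.t j)
  let tc := fun j => ((cokernel.π φ).val.app (op U)).hom (tg j)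
  choose Sb b hb0 hb using fun i : D.I => exists_eq_sum hL D' hU hUV'
    ((φ.val.app (op U)).hom (FPLocal.mres 𝔉 (homOfLE hUV).op (D.t i)))
  choose Sk hSk0 hSk using fun k : D'.K => exists_support D' hU hUV' k
  have hrelb : ∀ i, ∑ j ∈ Sb i, b i j • tc j = 0 := fun i => by
    have e : ((cokernel.π φ).val.app (op U)).hom ((φ.val.app (op U)).hom (FPLocal.mres 𝔉 (homOfLE hUV).op (D.t i))) = 0 :=
      congrArg (fun f : 𝔉 ⟶ cokernel φ => (f.val.app (op U)).hom _) (cokernel.condition φ)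
    rw [← hb i, map_sum] at e
    exact Eq.trans (Finset.sum_congr rfl fun j _ => (map_smul _ _ _).symm) e
  have hrelk : ∀ k, ∑ j ∈ Sk k, rsO 𝔛 h hUV' (D'.r k j) • tc j = 0 := fun k => by
    have e := congrArg ((cokernel.π φ).val.app (op U)).hom (hSk k)
    rw [map_sum, map_zero] at e
    exact Eq.trans (Finset.sum_congr rfl fun j _ => (map_smul _ _ _).symm) e
  refine relFin_of_family fun W g S d hd0 hd => ?_
  let y : 𝔊.val.obj (op W) := ∑ j ∈ S, d j • FPLocal.mres 𝔊 g.op (tg j)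
  have hy : ((cokernel.π φ).val.app (op W)).hom y = 0 := by
    rw [map_sum]
    refine Eq.trans (Finset.sum_congr rfl fun j _ => ?_) hd
    rw [map_smul, FPLocal.app_mres]
  obtain ⟨w, hw⟩ := FPLocal.exists_kernel_preimage (cokernel.π φ) y hy
  refine FPLocal.Locally.bind (P := fun Z l => ∃ x, ((Abelian.factorThruImage φ).val.app (op Z)).hom x =
    FPLocal.mres _ l.op w) (FPLocal.exists_sieve_preimage (Abelian.factorThruImage φ) w) fun Z l ⟨x, hx⟩ => ?_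
  have hx' : (φ.val.app (op Z)).hom x = FPLocal.mres 𝔊 l.op y := by
    refine Eq.trans (congrArg (fun f : 𝔉 ⟶ 𝔊 => (f.val.app (op Z)).hom x) (Abelian.image.fac φ)).symm ?_
    show ((Abelian.image.ι φ).val.app (op Z)).hom (((Abelian.factorThruImage φ).val.app (op Z)).hom x) = _
    rw [hx, FPLocal.app_mres]
    exact congrArg (FPLocal.mres 𝔊 l.op) hw
  refine FPLocal.Locally.bind (D.gen (l ≫ g ≫ homOfLE hUV) x) fun Z₂ l₂ ⟨T₀, a₀, ha⟩ => ?_
  let a : D.I → OR 𝔛 h Z₂ := a₀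
  let J2 : Finset D'.I := S ∪ T₀.biUnion Sb
  have hUZ : Z₂ ≤ U := leOfHom (l₂ ≫ l ≫ g)
  have hdW : Z₂ ≤ W := leOfHom (l₂ ≫ l)
  let d₂ : D'.I → OR 𝔛 h Z₂ := fun j => rsO 𝔛 h hdW (d j) - ∑ i ∈ T₀, a i * rsO 𝔛 h hUZ (b i j)
  have hd₂0 : ∀ j ∉ J2, d₂ j = 0 := fun j hj => by
    show rsO 𝔛 h hdW (d j) - ∑ i ∈ T₀, a i * rsO 𝔛 h hUZ (b i j) = 0
    rw [hd0 j fun hc => hj (Finset.mem_union_left _ hc), map_zero, zero_sub, neg_eq_zero]
    refine Finset.sum_eq_zero fun i hi => ?_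
    rw [hb0 i j fun hc => hj (Finset.mem_union_right _ (Finset.mem_biUnion.2 ⟨i, hi, hc⟩)), map_zero, mul_zero]
  have hd₂ : ∑ j ∈ J2, d₂ j • FPLocal.mres 𝔊 (homOfLE (hUZ.trans hUV')).op (D'.t j) = 0 := by
    simp only [d₂, sub_smul, Finset.sum_sub_distrib, sub_eq_zero, Finset.sum_smul]
    refine Eq.trans ((Finset.sum_subset (Finset.subset_union_left : S ⊆ J2) fun j _ hj => by
      rw [hd0 j hj, map_zero, zero_smul]).symm) ?_
    have h1 : ∑ j ∈ S, rsO 𝔛 h hdW (d j) • FPLocal.mres 𝔊 (homOfLE (hUZ.trans hUV')).op (D'.t j) =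
        FPLocal.mres 𝔊 (l₂ ≫ l).op y := by
      rw [map_sum]
      refine Finset.sum_congr rfl fun j _ => ?_
      refine Eq.trans ?_ (mres_smul' hdW (d j) _).symm
      refine congrArg (rsO 𝔛 h hdW (d j) • ·) ?_
      show _ = FPLocal.mres 𝔊 (homOfLE hdW).op (FPLocal.mres 𝔊 g.op (FPLocal.mres 𝔊 (homOfLE hUV').op (D'.t j)))
      rw [← FPLocal.mres_comp, ← FPLocal.mres_comp]
      rfl
    have h3 : FPLocal.mres 𝔊 (l₂ ≫ l).op y = (φ.val.app (op Z₂)).hom (FPLocal.mres 𝔉 l₂.op x) :=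
      (FPLocal.mres_comp (M := 𝔊) l.op l₂.op y).trans
        ((congrArg (FPLocal.mres 𝔊 l₂.op) hx'.symm).trans (FPLocal.app_mres φ l₂ x).symm)
    refine (h1.trans (h3.trans ((congrArg (φ.val.app (op Z₂)).hom ha.symm).trans (map_sum _ _ _)))).trans ?_
    rw [Finset.sum_comm]
    refine Finset.sum_congr rfl fun i hi => ?_
    rw [← Finset.sum_subset (fun j hj => Finset.mem_union_right _ (Finset.mem_biUnion.2 ⟨i, hi, hj⟩) : Sb i ⊆ J2)
      fun j _ hj => by rw [hb0 i j hj, map_zero, mul_zero, zero_smul]]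
    simp only [mul_smul, ← Finset.smul_sum]
    rw [map_smul]
    refine congrArg (a i • ·) ?_
    have e := congrArg (FPLocal.mres 𝔊 (homOfLE hUZ).op) (hb i)
    rw [map_sum, ← FPLocal.app_mres, ← FPLocal.mres_comp] at e
    refine e.symm.trans (Finset.sum_congr rfl fun j _ => ?_)
    rw [mres_smul', ← FPLocal.mres_comp]
    rfl
  refine (D'.complete (homOfLE (hUZ.trans hUV')) J2 d₂ hd₂0 hd₂).mono fun Y q hq => ?_
  obtain ⟨T₁, e₀, he⟩ := hq
  let e : D'.K → OR 𝔛 h Y := e₀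
  refine ⟨↥T₁ ⊕ ↥T₀, inferInstance, Sum.elim (fun k => e k.1) (fun i => rsO 𝔛 h (leOfHom q) (a i.1)),
    Sum.elim (fun k => mkFinRel tc (Sk k.1) (fun j => rsO 𝔛 h hUV' (D'.r k.1 j)) (hSk0 k.1) (hrelk k.1))
      (fun i => mkFinRel tc (Sb i.1) (b i.1) (hb0 i.1) (hrelb i.1)), fun j => ?_⟩
  rw [Fintype.sum_sum_type]
  show ∑ k : ↥T₁, e k.1 * rsO 𝔛 h (leOfHom ((q ≫ l₂ ≫ l) ≫ g)) (rsO 𝔛 h hUV' (D'.r k.1 j)) +
      ∑ i : ↥T₀, rsO 𝔛 h (leOfHom q) (a i.1) * rsO 𝔛 h (leOfHom ((q ≫ l₂ ≫ l) ≫ g)) (b i.1 j) =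
    rsO 𝔛 h (leOfHom (q ≫ l₂ ≫ l)) (d j)
  have h2 : ∑ k ∈ T₁, e k * rsO 𝔛 h (leOfHom (q ≫ homOfLE (hUZ.trans hUV'))) (D'.r k j) =
      rsO 𝔛 h (leOfHom q) (d₂ j) := he j
  simp only [rsO_rsO]
  rw [Finset.sum_coe_sort T₁ fun k => e k * rsO 𝔛 h (leOfHom (q ≫ homOfLE (hUZ.trans hUV'))) (D'.r k j), h2,
    Finset.sum_coe_sort T₀ fun i => rsO 𝔛 h (leOfHom q) (a i) * rsO 𝔛 h (leOfHom ((q ≫ l₂ ≫ l) ≫ g)) (b i j)]
  simp only [d₂, map_sub, map_sum, map_mul, rsO_rsO]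
  exact sub_add_cancel _ _

/-- Cokernels of maps of quasi-coherent modules are quasi-coherent. -/
theorem isQuasicoherent_cokernel (hL : 𝔛.IsLocNoethFormal) [SheafOfModules.IsQuasicoherent.{u} 𝔉]
    [SheafOfModules.IsQuasicoherent.{u} 𝔊] : SheafOfModules.IsQuasicoherent.{u} (cokernel φ) := by
  refine isQuasicoherent_of_genFin (cokernel φ) fun W =>
    ⟨{ arrows := fun Z _ => ∃ (U : (𝔛.X 0).Opens) (_ : Z ⟶ U) (I : Type u) (t : I → (cokernel φ).val.obj (op U)),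
        GenFin (cokernel φ) t ∧ RelFin (cokernel φ) t
       downward_closed := fun {Y Z} _ ⟨U, f, hU⟩ k => ⟨U, k ≫ f, hU⟩ }, fun x hx => ?_, fun Z g hg => hg⟩
  obtain ⟨V, hVW, hxV, ⟨D⟩⟩ := exists_relData (𝔉 := 𝔉) hx
  obtain ⟨V', hV'V, hxV', ⟨D'⟩⟩ := exists_relData (𝔉 := 𝔊) hxV
  obtain ⟨U, hU, hxU, hUV'⟩ := exists_affine_le (𝔛 := 𝔛) hxV'
  exact ⟨U, homOfLE ((hUV'.trans hV'V).trans hVW), ⟨U, 𝟙 U, _, _,
    genFin_cokernel φ D' hUV', relFin_cokernel φ hL D D' hU (hUV'.trans hV'V) hUV'⟩, hxU⟩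

/-- Images of maps of quasi-coherent modules are quasi-coherent. -/
theorem isQuasicoherent_image (hL : 𝔛.IsLocNoethFormal) [SheafOfModules.IsQuasicoherent.{u} 𝔉]
    [SheafOfModules.IsQuasicoherent.{u} 𝔊] : SheafOfModules.IsQuasicoherent.{u} (Abelian.image φ) :=
  haveI := isQuasicoherent_cokernel φ hL
  isQuasicoherent_kernel (cokernel.π φ) hL

end Groth.Agent.FCompl
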