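import Groth.Agent.FComplLib.Level
import Groth.Agent.FComplLib.Factor
import Groth.Agent.FComplLib.QCKernel

/-!
# Lifting of sections over affine opens when the kernel is quasi-coherent
-/

set_option autoImplicit false
set_option linter.style.haveILetI false
set_option linter.unusedVariables false
set_option backward.isDefEq.respectTransparency false
set_option backward.isDefEq.respectTransparency.types false
set_option maxHeartbeats 4000000
universe u

open CategoryTheory CategoryTheory.Limits AlgebraicGeometry TopologicalSpace Opposite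

noncomputable section

namespace Groth.Agent.FCompl

variable {𝔛 : FSch.Sys.{u}} {h : 𝔛.IsFormal} {U : (𝔛.X 0).Opens} {ι K : Type u} [Fintype ι]

/-- The span of the restrictions of relations. -/
abbrev spanO (r : K → ι → OR 𝔛 h U) {W : (𝔛.X 0).Opens} (hW : W ≤ U) : Submodule (OR 𝔛 h W) (ι → OR 𝔛 h W) :=
  Submodule.span (OR 𝔛 h W) (Set.range fun k => rsv hW (r k))

lemma prv_rsv' {A B : (𝔛.X 0).Opens} (hBA : B ≤ A) (n : ℕ) (v : ι → OR 𝔛 h A) :
    prv n B (rsv hBA v) = rsl n hBA (prv n A v) :=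
  funext fun i => pr_rsO 𝔛 h hBA n (v i)

lemma rsv_rsv {A B C : (𝔛.X 0).Opens} (hBA : B ≤ A) (hCB : C ≤ B) (v : ι → OR 𝔛 h A) :
    rsv hCB (rsv hBA v) = rsv (hCB.trans hBA) v :=
  funext fun i => rsO_rsO hBA hCB (v i)

lemma rsv_sub {A B : (𝔛.X 0).Opens} (hBA : B ≤ A) (v w : ι → OR 𝔛 h A) :
    rsv hBA (v - w) = rsv hBA v - rsv hBA w := funext fun i => map_sub _ _ _

lemma prv_sub {A : (𝔛.X 0).Opens} (n : ℕ) (v w : ι → OR 𝔛 h A) :
    prv n A (v - w) = prv n A v - prv n A w := funext fun i => map_sub _ _ _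

lemma prv_add {A : (𝔛.X 0).Opens} (n : ℕ) (v w : ι → OR 𝔛 h A) :
    prv n A (v + w) = prv n A v + prv n A w := funext fun i => map_add _ _ _

lemma rsv_mem_spanO {r : K → ι → OR 𝔛 h U} {A B : (𝔛.X 0).Opens} {hA : A ≤ U} (hBA : B ≤ A)
    {d : ι → OR 𝔛 h A} (hd : d ∈ spanO r hA) : rsv hBA d ∈ spanO r (hBA.trans hA) := by
  induction hd using Submodule.span_induction with
  | mem y hy =>
    obtain ⟨k, rfl⟩ := hy
    exact Submodule.subset_span ⟨k, (rsv_rsv hA hBA (r k)).symm⟩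
  | zero => rw [show rsv hBA (0 : ι → OR 𝔛 h A) = 0 from funext fun i => map_zero _]; exact zero_mem _
  | add p q _ _ hp hq =>
    rw [show rsv hBA (p + q) = rsv hBA p + rsv hBA q from funext fun i => map_add _ _ _]
    exact add_mem hp hq
  | smul s p _ hp =>
    rw [show rsv hBA (s • p) = rsO 𝔛 h hBA s • rsv hBA p from funext fun i => map_mul _ _ _]
    exact Submodule.smul_mem _ _ hp

/-- Membership in the relations on all levels is membership in the relations. -/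
theorem mem_spanO_of_levels (hL : 𝔛.IsLocNoethFormal) {r : K → ι → OR 𝔛 h U} {W : (𝔛.X 0).Opens} {hW : W ≤ U}
    (hWa : IsAffineOpen W) {d : ι → OR 𝔛 h W} (hd : ∀ n, prv n W d ∈ spanL r n hW) : d ∈ spanO r hW := by
  classical
  haveI := noetherian (h := h) hL hWa
  refine mem_of_forall_mem_sup (II_le_jacobson hL hWa) _ fun n => ?_
  obtain ⟨d', hd', hde⟩ := exists_lift_mem_spanL hL hWa (hd n)
  refine Submodule.mem_sup.2 ⟨d', hd', d - d', ?_, by abel⟩
  have hker : ∀ i, (d - d') i ∈ II 𝔛 h W ^ n := fun i => by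
    refine Ideal.pow_le_pow_right (Nat.le_succ n) ?_
    rw [← ker_pr hL hWa n, RingHom.mem_ker]
    show pr 𝔛 h W n (d i - d' i) = 0
    rw [map_sub, sub_eq_zero]
    exact (congrFun hde i).symm
  rw [← Finset.univ_sum_single (d - d')]
  refine Submodule.sum_mem _ fun i _ => ?_
  rw [show Pi.single i ((d - d') i) = (d - d') i • (Pi.single i (1 : OR 𝔛 h W) : ι → OR 𝔛 h W) by
    rw [← Pi.single_smul, smul_eq_mul, mul_one]]
  exact Submodule.smul_mem_smul (hker i) trivial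

/-- Membership in the relations is local on an affine open. -/
theorem mem_spanO_of_locally (hU : IsAffineOpen U) (hL : 𝔛.IsLocNoethFormal) {r : K → ι → OR 𝔛 h U}
    {W : (𝔛.X 0).Opens} (hW : W ≤ U) (hWa : IsAffineOpen W) {d : ι → OR 𝔛 h W}
    (hd : ∀ x ∈ W, ∃ (A : (𝔛.X 0).Opens) (hA : A ≤ W), x ∈ A ∧ rsv hA d ∈ spanO r (hA.trans hW)) :
    d ∈ spanO r hW := by
  refine mem_spanO_of_levels hL hWa fun n => ?_
  obtain ⟨G, hG, φ, φres, φspan, φaff⟩ := exists_levelMod (h := h) hU hL n r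
  refine (φaff W hW hWa).2 _ ?_
  choose A hA hxA hAd using fun x : W => hd x.1 x.2
  refine TopCat.Sheaf.eq_of_locally_eq' (⟨_, G.isSheaf⟩ : TopCat.Sheaf AddCommGrpCat.{u} (𝔛.X n).carrier)
    (fun x : W => 𝔛.lvU h n (A x)) (𝔛.lvU h n W) (fun x => homOfLE (lvU_mono 𝔛 h (hA x) n))
    (fun y hy => Opens.mem_iSup.2 ⟨⟨_, hy⟩, hxA ⟨_, hy⟩⟩) _ 0 fun x => ?_
  refine (φres W hW (A x) (hA x) _).trans (Eq.trans ?_ (map_zero _).symm)
  refine φspan _ _ _ ?_
  rw [← prv_rsv']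
  exact prv_mem_spanL n (hAd x)

/-- Elements congruent on a level to an element of the relations. -/
lemma rsl_mem_spanL (hL : 𝔛.IsLocNoethFormal) {r : K → ι → OR 𝔛 h U} {n : ℕ} {A B : (𝔛.X 0).Opens} {hA : A ≤ U}
    (hAa : IsAffineOpen A) (hBA : B ≤ A) {d : ι → LR 𝔛 h A n} (hd : d ∈ spanL r n hA) :
    rsl n hBA d ∈ spanL r n (hBA.trans hA) := by
  obtain ⟨d', hd', rfl⟩ := exists_lift_mem_spanL hL hAa hd
  rw [← prv_rsv']
  exact prv_mem_spanL n (rsv_mem_spanO hBA hd')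

variable {α : Type u} {D : α → (𝔛.X 0).Opens}

/-- Cocycles of vectors are coboundaries modulo the relations. -/
theorem exists_coboundary [Finite α] (hU : IsAffineOpen U) (hL : 𝔛.IsLocNoethFormal) (hDU : ∀ p, D p ≤ U)
    (hD : ∀ p, IsAffineOpen (D p)) (hD2 : ∀ p q, IsAffineOpen (D p ⊓ D q)) (hcov : U ≤ iSup D)
    (r : K → ι → OR 𝔛 h U) (g : α → OR 𝔛 h U)
    (hspan : ∀ n, Ideal.span (Set.range fun p => pr 𝔛 h U n (g p)) = ⊤)
    (hg : ∀ n p, 𝔛.lvU h n (D p) = (𝔛.X n).basicOpen (pr 𝔛 h U n (g p)))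
    (a : ∀ p q, ι → OR 𝔛 h (D p ⊓ D q))
    (ha : ∀ p q s, rsv (le_inf (inf_le_left.trans inf_le_right) inf_le_right) (a q s) -
        rsv (le_inf (inf_le_left.trans inf_le_left) inf_le_right) (a p s) + rsv inf_le_left (a p q) ∈
      spanO r ((inf_le_left.trans inf_le_left).trans (hDU p) : D p ⊓ D q ⊓ D s ≤ U)) :
    ∃ b : ∀ p, ι → OR 𝔛 h (D p), ∀ p q,
      a p q - (rsv inf_le_right (b q) - rsv inf_le_left (b p)) ∈
        spanO r (inf_le_left.trans (hDU p) : D p ⊓ D q ≤ U) := by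
  classical
  let P : ℕ → (∀ p, ι → OR 𝔛 h (D p)) → Prop := fun n b => ∀ p q,
    prv n _ (a p q - (rsv inf_le_right (b q) - rsv inf_le_left (b p))) ∈
      spanL r n (inf_le_left.trans (hDU p) : D p ⊓ D q ≤ U)
  have hlev : ∀ n, ∃ b, P n b := fun n => by
    obtain ⟨b', hb'⟩ := level_coboundary (h := h) hDU hU hL hD hD2 n r (fun p => pr 𝔛 h U n (g p)) (hspan n) (hg n)
      (fun p q => prv n _ (a p q)) fun p q s => by
        rw [← prv_rsv', ← prv_rsv', ← prv_rsv', ← prv_sub, ← prv_add]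
        exact prv_mem_spanL n (ha p q s)
    choose b hb using fun p i => pr_surjective (h := h) hL (hD p) n (b' p i)
    refine ⟨b, fun p q => ?_⟩
    have e : ∀ p, prv n (D p) (b p) = b' p := fun p => funext (hb p)
    rw [prv_sub, prv_sub, prv_rsv', prv_rsv', e, e]
    exact hb' p q
  have hdown : ∀ n b, P (n + 1) b → P n b := fun n b hb p q => by
    have := tr_mem_spanL (hb p q)
    simp only [prv, tr_pr] at this
    exact this
  have hex : ∀ n b, P n b → ∃ b', P (n + 1) b' ∧ ∀ p, prv n (D p) (b' p) = prv n (D p) (b p) := by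
    intro n b hb
    obtain ⟨v, hv⟩ := hlev (n + 1)
    obtain ⟨w', hw'⟩ := level_glue (h := h) hDU hU hL hD hcov n r (fun p => prv n (D p) (v p - b p)) fun p q => by
      have := sub_mem (hb p q) (hdown n v hv p q)
      rw [← prv_sub] at this
      rw [← prv_rsv', ← prv_rsv', ← prv_sub, rsv_sub, rsv_sub]
      convert this using 2
      abel
    choose w hw using fun i => pr_surjective (h := h) hL hU n (w' i)
    have ew : prv n U w = w' := funext hw
    have hd : ∀ p, prv n (D p) (v p - b p - rsv (hDU p) w) ∈ spanL r n (hDU p) := fun p => by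
      rw [prv_sub, prv_rsv', ew]
      exact hw' p
    choose d hd' hde using fun p => exists_lift_mem_spanL hL (hD p) (hd p)
    refine ⟨fun p => v p - rsv (hDU p) w - d p, fun p q => ?_, fun p => ?_⟩
    · have e : a p q - (rsv inf_le_right (v q - rsv (hDU q) w - d q) - rsv inf_le_left (v p - rsv (hDU p) w - d p)) =
          (a p q - (rsv inf_le_right (v q) - rsv inf_le_left (v p))) +
            (rsv inf_le_right (d q) - rsv inf_le_left (d p)) := by
        rw [rsv_sub, rsv_sub, rsv_sub, rsv_sub, rsv_rsv, rsv_rsv]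
        abel
      rw [e, prv_add]
      exact add_mem (hv p q) (prv_mem_spanL _ (sub_mem (rsv_mem_spanO _ (hd' q)) (rsv_mem_spanO _ (hd' p))))
    · rw [prv_sub, hde, prv_sub, prv_sub, prv_sub]
      abel
  obtain ⟨b0, hb0⟩ := hlev 0
  choose! next hnext hnext' using hex
  let w : ℕ → (∀ p, ι → OR 𝔛 h (D p)) := fun n => Nat.rec b0 next n
  have hw : ∀ n, P n (w n) := fun n => by
    induction n with
    | zero => exact hb0
    | succ n ih => exact hnext n (w n) ih
  have hb : ∀ p i n, tr 𝔛 h (D p) n (pr 𝔛 h (D p) (n + 1) (w (n + 1) p i)) = pr 𝔛 h (D p) n (w n p i) :=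
    fun p i n => (tr_pr 𝔛 h (D p) n _).trans (congrFun (hnext' n (w n) (hw n) p) i)
  choose b hbl using fun p i => osh_lift (fun n => pr 𝔛 h (D p) n (w n p i)) (hb p i)
  refine ⟨b, fun p q => mem_spanO_of_levels hL (hD2 p q) fun n => ?_⟩
  have e : ∀ p, prv n (D p) (b p) = prv n (D p) (w n p) := fun p => funext fun i => hbl p i n
  rw [prv_sub, prv_sub, prv_rsv', prv_rsv', e, e, ← prv_rsv', ← prv_rsv', ← prv_sub, ← prv_sub]
  exact hw n p q

/-- Preimages of basic opens on the levels. -/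
lemma lvU_basicOpen (hL : 𝔛.IsLocNoethFormal) (hU : IsAffineOpen U) (g : Γ(𝔛.X 0, U)) :
    ∃ g' : OR 𝔛 h U, ∀ n, 𝔛.lvU h n ((𝔛.X 0).basicOpen g) = (𝔛.X n).basicOpen (pr 𝔛 h U n g') := by
  have e0 : 𝔛.lvU h 0 U = U := lvU_toX (k := 0) U
  obtain ⟨g', hg'⟩ := pr_surjective (h := h) hL hU 0 ((𝔛.X 0).presheaf.map (homOfLE e0.le).op g)
  refine ⟨g', fun n => ?_⟩
  have key : (𝔛.X 0).basicOpen g = 𝔛.toX n ⁻¹ᵁ (𝔛.X n).basicOpen (pr 𝔛 h U n g') := by
    have e1 : (𝔛.X 0).basicOpen g = (𝔛.X 0).basicOpen (cm 𝔛 h U n (pr 𝔛 h U n g')) := by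
      rw [cm_pr, hg', Scheme.basicOpen_res]
      exact (inf_eq_right.2 (((𝔛.X 0).basicOpen_le g).trans e0.ge)).symm
    rw [e1, Scheme.preimage_basicOpen]
    show (𝔛.X 0).basicOpen ((𝔛.X 0).presheaf.map (homOfLE (toX_le 𝔛 h U n)).op
      ((𝔛.toX n).app (𝔛.lvU h n U) (pr 𝔛 h U n g'))) = _
    rw [Scheme.basicOpen_res]
    exact inf_eq_right.2 (((𝔛.X 0).basicOpen_le _).trans (toX_preimage_eq 𝔛 h U n).le)
  rw [key, lvU_toX]

section Eval

variable {M : FSch.ModF 𝔛 h} (tt : ι → M.val.obj (op U))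

/-- The combination of given sections with given coefficients. -/
def evv {W : (𝔛.X 0).Opens} (hW : W ≤ U) (d : ι → OR 𝔛 h W) : M.val.obj (op W) :=
  ∑ j, d j • FPLocal.mres M (homOfLE hW).op (tt j)

lemma evv_rsv {A B : (𝔛.X 0).Opens} (hA : A ≤ U) (hBA : B ≤ A) (d : ι → OR 𝔛 h A) :
    evv tt (hBA.trans hA) (rsv hBA d) = FPLocal.mres M (homOfLE hBA).op (evv tt hA d) := by
  unfold evv
  rw [map_sum]
  refine Finset.sum_congr rfl fun j _ => ?_
  exact Eq.trans (congrArg (rsO 𝔛 h hBA (d j) • ·)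
    (FPLocal.mres_comp (M := M) (homOfLE hA).op (homOfLE hBA).op (tt j))) (mres_smul' hBA (d j) _).symm

lemma evv_add {W : (𝔛.X 0).Opens} (hW : W ≤ U) (d d' : ι → OR 𝔛 h W) :
    evv tt hW (d + d') = evv tt hW d + evv tt hW d' := by
  simp only [evv, Pi.add_apply, add_smul, Finset.sum_add_distrib]

lemma evv_sub {W : (𝔛.X 0).Opens} (hW : W ≤ U) (d d' : ι → OR 𝔛 h W) :
    evv tt hW (d - d') = evv tt hW d - evv tt hW d' := by
  simp only [evv, Pi.sub_apply, sub_smul, Finset.sum_sub_distrib]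

lemma evv_eq_zero (r : K → ι → OR 𝔛 h U) (hr0 : ∀ k, ∑ i, r k i • tt i = 0) {W : (𝔛.X 0).Opens} (hW : W ≤ U)
    {d : ι → OR 𝔛 h W} (hd : d ∈ spanO r hW) : evv tt hW d = 0 := by
  induction hd using Submodule.span_induction with
  | mem y hy =>
    obtain ⟨k, rfl⟩ := hy
    refine (evv_rsv tt le_rfl hW (r k)).trans ((congrArg (FPLocal.mres M (homOfLE hW).op) ?_).trans (map_zero _))
    refine Eq.trans (Finset.sum_congr rfl fun j _ => congrArg (r k j • ·) ?_) (hr0 k)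
    exact congr($(M.val.presheaf.map_id (op U)) (tt j))
  | zero => exact Finset.sum_eq_zero fun j _ => zero_smul _ _
  | add d d' _ _ hd hd' => rw [evv_add, hd, hd', add_zero]
  | smul e d _ hd =>
    simp only [evv, Pi.smul_apply, smul_eq_mul, mul_smul, ← Finset.smul_sum] at hd ⊢
    rw [hd, smul_zero]

end Eval

variable {M : FSch.ModF 𝔛 h} {V : (𝔛.X 0).Opens}

/-- Cocycles of a quasi-coherent module on a standard covering of an affine open are coboundaries. -/
theorem exists_cocycle_split [Finite α] (hL : 𝔛.IsLocNoethFormal) (Dk : RelData M V) (hU : IsAffineOpen U)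
    (hUV : U ≤ V) (g : α → Γ(𝔛.X 0, U)) (hcov : U ≤ iSup fun p => (𝔛.X 0).basicOpen (g p))
    (z : ∀ p q, M.val.obj (op ((𝔛.X 0).basicOpen (g p) ⊓ (𝔛.X 0).basicOpen (g q))))
    (hz : ∀ p q s,
      FPLocal.mres M (homOfLE (le_inf (inf_le_left.trans inf_le_right) inf_le_right :
        (𝔛.X 0).basicOpen (g p) ⊓ (𝔛.X 0).basicOpen (g q) ⊓ (𝔛.X 0).basicOpen (g s) ≤ _)).op (z q s) -
      FPLocal.mres M (homOfLE (le_inf (inf_le_left.trans inf_le_left) inf_le_right :
        (𝔛.X 0).basicOpen (g p) ⊓ (𝔛.X 0).basicOpen (g q) ⊓ (𝔛.X 0).basicOpen (g s) ≤ _)).op (z p s) +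
      FPLocal.mres M (homOfLE (inf_le_left :
        (𝔛.X 0).basicOpen (g p) ⊓ (𝔛.X 0).basicOpen (g q) ⊓ (𝔛.X 0).basicOpen (g s) ≤ _)).op (z p q) = 0) :
    ∃ w : ∀ p, M.val.obj (op ((𝔛.X 0).basicOpen (g p))), ∀ p q,
      FPLocal.mres M (homOfLE inf_le_right).op (w q) - FPLocal.mres M (homOfLE inf_le_left).op (w p) = z p q := by
  classical
  haveI := Fintype.ofFinite α
  let D : α → (𝔛.X 0).Opens := fun p => (𝔛.X 0).basicOpen (g p)
  have hDU : ∀ p, D p ≤ U := fun p => (𝔛.X 0).basicOpen_le _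
  have hD : ∀ p, IsAffineOpen (D p) := fun p => hU.basicOpen _
  have hD2 : ∀ p q, IsAffineOpen (D p ⊓ D q) := fun p q => by
    rw [← Scheme.basicOpen_mul]; exact hU.basicOpen _
  have hD3 : ∀ p q s, IsAffineOpen (D p ⊓ D q ⊓ D s) := fun p q s => by
    rw [← Scheme.basicOpen_mul, ← Scheme.basicOpen_mul]; exact hU.basicOpen _
  choose gg hgg using fun p : α => lvU_basicOpen (h := h) hL hU (g p)
  have hspan : ∀ n, Ideal.span (Set.range fun p => pr 𝔛 h U n (gg p)) = ⊤ := fun n => by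
    rw [← (affine_lvU (h := h) hU n).self_le_iSup_basicOpen_iff]
    intro x hx
    obtain ⟨p, hp⟩ := Opens.mem_iSup.1 (hcov hx)
    exact Opens.mem_iSup.2 ⟨⟨_, p, rfl⟩, (hgg p n).le hp⟩
  choose Sz c hc0 hc using fun p q => exists_eq_sum hL Dk (hD2 p q) ((inf_le_left.trans (hDU p)).trans hUV) (z p q)
  let J0 : Finset Dk.I := Finset.univ.biUnion fun pq : α × α => Sz pq.1 pq.2
  let tt : ↥J0 → M.val.obj (op U) := fun j => FPLocal.mres _ (homOfLE hUV).op (Dk.t j.1)
  obtain ⟨l, r, hr0, hr⟩ := relComplete_qc hL Dk hU hUV tt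
  let a : ∀ p q, ↥J0 → OR 𝔛 h (D p ⊓ D q) := fun p q j => c p q j.1
  have ha : ∀ p q, evv tt (inf_le_left.trans (hDU p)) (a p q) = z p q := fun p q => by
    refine Eq.trans ?_ (hc p q)
    rw [Finset.sum_subset (s₂ := J0) (fun j hj => Finset.mem_biUnion.2 ⟨(p, q), Finset.mem_univ _, hj⟩)
      (fun j _ hj => by rw [hc0 p q j hj, zero_smul]), ← Finset.sum_coe_sort J0]
    refine Finset.sum_congr rfl fun j _ => ?_
    exact congrArg (c p q j.1 • ·) (FPLocal.mres_comp (M := M) _ _ _).symm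
  have hcocycle : ∀ p q s, rsv (le_inf (inf_le_left.trans inf_le_right) inf_le_right) (a q s) -
      rsv (le_inf (inf_le_left.trans inf_le_left) inf_le_right) (a p s) + rsv inf_le_left (a p q) ∈
      spanO r ((inf_le_left.trans inf_le_left).trans (hDU p) : D p ⊓ D q ⊓ D s ≤ U) := fun p q s => by
    refine mem_spanO_of_locally hU hL _ (hD3 p q s) fun x hx => ?_
    have hzero : evv tt ((inf_le_left.trans inf_le_left).trans (hDU p))
        (rsv (le_inf (inf_le_left.trans inf_le_right) inf_le_right) (a q s) -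
          rsv (le_inf (inf_le_left.trans inf_le_left) inf_le_right) (a p s) + rsv inf_le_left (a p q) :
            ↥J0 → OR 𝔛 h (D p ⊓ D q ⊓ D s)) = 0 := by
      rw [evv_add, evv_sub, evv_rsv tt (inf_le_left.trans (hDU q)), evv_rsv tt (inf_le_left.trans (hDU p)),
        evv_rsv tt (inf_le_left.trans (hDU p)), ha, ha, ha]
      exact hz p q s
    obtain ⟨T, hT, hT'⟩ := hr (homOfLE ((inf_le_left.trans inf_le_left).trans (hDU p))) _ hzero
    obtain ⟨A, k, hk, hxA⟩ := hT x hx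
    obtain ⟨e, he⟩ := hT' k hk
    refine ⟨A, leOfHom k, hxA, ?_⟩
    refine (Submodule.mem_span_range_iff_exists_fun _).2 ⟨e, funext fun j => ?_⟩
    rw [Finset.sum_apply]
    exact he j
  obtain ⟨b, hb⟩ := exists_coboundary hU hL hDU hD hD2 hcov r gg hspan (fun n p => hgg p n) a hcocycle
  refine ⟨fun p => evv tt (hDU p) (b p), fun p q => ?_⟩
  have e := evv_eq_zero tt r hr0 _ (hb p q)
  rw [evv_sub, evv_sub, ha, evv_rsv tt (hDU q), evv_rsv tt (hDU p), sub_eq_zero] at e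
  exact e.symm

variable {F G : FSch.ModF 𝔛 h} (π : F ⟶ G) [Epi π]

/-- Sections lift over affine opens when the kernel is quasi-coherent. -/
theorem exists_lift_section (hL : 𝔛.IsLocNoethFormal) (Dk : RelData (kernel π) V) (hU : IsAffineOpen U)
    (hUV : U ≤ V) (s : G.val.obj (op U)) :
    ∃ t : F.val.obj (op U), (π.val.app (op U)).hom t = s := by
  classical
  obtain ⟨S, hS, hS'⟩ := FPLocal.exists_sieve_preimage π s
  have hx : ∀ x : U, ∃ g : Γ(𝔛.X 0, U), x.1 ∈ (𝔛.X 0).basicOpen g ∧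
      ∃ t : F.val.obj (op ((𝔛.X 0).basicOpen g)),
        (π.val.app (op ((𝔛.X 0).basicOpen g))).hom t = FPLocal.mres G (homOfLE ((𝔛.X 0).basicOpen_le g)).op s := by
    intro x
    obtain ⟨W, k, hk, hxW⟩ := hS x.1 x.2
    obtain ⟨g, hgW, hxg⟩ := hU.exists_basicOpen_le (V := W) ⟨x.1, hxW⟩ x.2
    exact ⟨g, hxg, hS' (homOfLE ((𝔛.X 0).basicOpen_le g)) (S.downward_closed hk (homOfLE hgW))⟩
  choose g₀ hxg t₀ ht₀ using hx
  obtain ⟨ys, hys⟩ := hU.isCompact.elim_finite_subcover (fun x : U => ((𝔛.X 0).basicOpen (g₀ x) : Set (𝔛.X 0)))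
    (fun x => ((𝔛.X 0).basicOpen (g₀ x)).2) fun x hx => Set.mem_iUnion.2 ⟨⟨x, hx⟩, hxg _⟩
  let β : Type u := {y : U // y ∈ ys}
  let g : β → Γ(𝔛.X 0, U) := fun p => g₀ p.1
  let D : β → (𝔛.X 0).Opens := fun p => (𝔛.X 0).basicOpen (g p)
  let t : ∀ p : β, F.val.obj (op (D p)) := fun p => t₀ p.1
  have hDU : ∀ p, D p ≤ U := fun p => (𝔛.X 0).basicOpen_le _
  have hcov : U ≤ iSup D := fun x hx => by
    obtain ⟨y, hy, hxy⟩ : ∃ y ∈ ys, x ∈ (𝔛.X 0).basicOpen (g₀ y) := by simpa using hys hx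
    exact Opens.mem_iSup.2 ⟨⟨y, hy⟩, hxy⟩
  -- differences of the lifts
  have hker : ∀ p q, ∃ z : (kernel π).val.obj (op (D p ⊓ D q)), ((kernel.ι π).val.app _).hom z =
      FPLocal.mres F (homOfLE inf_le_right).op (t q) - FPLocal.mres F (homOfLE inf_le_left).op (t p) := fun p q => by
    refine FPLocal.exists_kernel_preimage π _ ?_
    rw [map_sub, FPLocal.app_mres, FPLocal.app_mres]
    erw [ht₀ q.1, ht₀ p.1]
    rw [← FPLocal.mres_comp, ← FPLocal.mres_comp]
    exact sub_self _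
  choose z hz using hker
  obtain ⟨w, hw⟩ := exists_cocycle_split hL Dk hU hUV g hcov z fun p q s => by
    refine FPLocal.app_injective_of_mono (kernel.ι π) _ ?_
    rw [map_add, map_sub, FPLocal.app_mres, FPLocal.app_mres, FPLocal.app_mres, hz, hz, hz, map_zero, map_sub,
      map_sub, map_sub, ← FPLocal.mres_comp, ← FPLocal.mres_comp, ← FPLocal.mres_comp, ← FPLocal.mres_comp,
      ← FPLocal.mres_comp, ← FPLocal.mres_comp]
    simp only [← op_comp, homOfLE_comp]
    abel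
  let t' : ∀ p, F.val.obj (op (D p)) := fun p => t p - ((kernel.ι π).val.app _).hom (w p)
  have hcompat : ∀ p q, FPLocal.mres F (homOfLE inf_le_left).op (t' p) =
      FPLocal.mres F (homOfLE inf_le_right : D p ⊓ D q ⟶ D q).op (t' q) := fun p q => by
    have e := congrArg ((kernel.ι π).val.app (op (D p ⊓ D q))).hom (hw p q)
    rw [map_sub, FPLocal.app_mres, FPLocal.app_mres, hz, ← sub_eq_zero] at e
    rw [← sub_eq_zero, map_sub, map_sub]
    refine Eq.trans ?_ e
    abel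
  have hsh : TopCat.Presheaf.IsSheaf (C := AddCommGrpCat.{u}) (X := (𝔛.X 0).carrier) F.val.presheaf := F.isSheaf
  obtain ⟨x, hx, -⟩ := TopCat.Sheaf.existsUnique_gluing' (⟨_, hsh⟩ : TopCat.Sheaf AddCommGrpCat.{u} (𝔛.X 0).carrier)
    D U (fun p => homOfLE (hDU p)) hcov t' fun p q => hcompat p q
  refine ⟨x, ?_⟩
  have hsh' : TopCat.Presheaf.IsSheaf (C := AddCommGrpCat.{u}) (X := (𝔛.X 0).carrier) G.val.presheaf := G.isSheaf
  refine TopCat.Sheaf.eq_of_locally_eq' (⟨_, hsh'⟩ : TopCat.Sheaf AddCommGrpCat.{u} (𝔛.X 0).carrier)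
    D U (fun p => homOfLE (hDU p)) hcov _ s fun p => ?_
  show FPLocal.mres G (homOfLE (hDU p)).op ((π.val.app (op U)).hom x) = FPLocal.mres G (homOfLE (hDU p)).op s
  rw [← FPLocal.app_mres]
  erw [hx p]
  rw [map_sub]
  erw [ht₀ p.1]
  rw [show (π.val.app (op (D p))).hom (((kernel.ι π).val.app _).hom (w p)) = 0 from
    congrArg (fun f : kernel π ⟶ G => (f.val.app (op (D p))).hom (w p)) (kernel.condition π)]
  exact sub_zero _

end Groth.Agent.FCompl
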