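import Groth.Agent.CohBase.MV
import Mathlib.AlgebraicGeometry.Morphisms.QuasiCompact
import Mathlib.AlgebraicGeometry.Noetherian

/-!
# A bound on cohomological dimension from vanishing on affine opens
-/

set_option autoImplicit false
set_option linter.style.haveILetI false
set_option linter.unusedVariables false
universe u

open CategoryTheory CategoryTheory.Limits AlgebraicGeometry TopologicalSpace Opposite

noncomputable section

namespace Groth.Agent.FCompl

variable {X : Scheme.{u}} (Good : CohBase.AbSh X → Prop)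
  (hac : ∀ {V : X.Opens}, IsAffineOpen V → ∀ F, Good F → ∀ n, Subsingleton (CohBase.HU V F (n + 1)))

/-- Cohomology of the basic opens of `U` vanishes uniformly in high degrees. -/
def CdBdd (U : X.Opens) : Prop :=
  ∃ t : ℕ, ∀ g : Γ(X, U), ∀ F, Good F → ∀ n, t ≤ n → Subsingleton (CohBase.HU (X.basicOpen g) F n)

include hac in
theorem cdBdd_le_affine [NoetherianSpace X] {V W : X.Opens} (hV : IsAffineOpen V) (hW : W ≤ V) : CdBdd Good W := by
  classical
  have hx : ∀ x : W, ∃ f : Γ(X, V), X.basicOpen f ≤ W ∧ x.1 ∈ X.basicOpen f := fun x =>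
    hV.exists_basicOpen_le (V := W) x (hW x.2)
  choose f hfW hxf using hx
  obtain ⟨s, hs⟩ := (NoetherianSpace.isCompact (W : Set X)).elim_finite_subcover
    (fun x : W => (X.basicOpen (f x) : Set X)) (fun x => (X.basicOpen (f x)).2)
    fun x hx => Set.mem_iUnion.2 ⟨⟨x, hx⟩, hxf _⟩
  let e := (Fintype.equivFin {x // x ∈ s}).symm
  refine ⟨s.card, fun g F hF n hn => ?_⟩
  have hcard : Fintype.card {x // x ∈ s} = s.card := Fintype.card_coe s
  let O : Fin (Fintype.card {x // x ∈ s}) → X.Opens := fun a => X.basicOpen (f (e a).1) ⊓ X.basicOpen g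
  have hsup : ⨆ a, O a = X.basicOpen g := by
    refine le_antisymm (iSup_le fun a => inf_le_right) fun x hx => ?_
    obtain ⟨y, hy, hxy⟩ : ∃ y ∈ s, x ∈ X.basicOpen (f y) := by simpa using hs (X.basicOpen_le g hx)
    exact Opens.mem_iSup.2 ⟨e.symm ⟨y, hy⟩, by simp [O, hxy, hx]⟩
  rw [← hsup]
  refine CohBase.subsingleton_HU_iUnion F (fun P => ∃ f' : Γ(X, V), P = X.basicOpen f') ?_ ?_ _ O (fun a => ?_) n
    (by omega)
  · rintro _ _ ⟨f₁, rfl⟩ ⟨f₂, rfl⟩
    exact ⟨f₁ * f₂, (X.basicOpen_mul f₁ f₂).symm⟩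
  · rintro _ ⟨f₁, rfl⟩ k
    exact hac (hV.basicOpen f₁) F hF k
  · obtain ⟨f', hf'⟩ := hV.basicOpen_basicOpen_is_basicOpen (f (e a).1) (X.presheaf.map (homOfLE (hfW _)).op g)
    exact ⟨f', (X.basicOpen_res g (homOfLE (hfW _)).op).symm.trans hf'.symm⟩

include hac in
theorem cdBdd [NoetherianSpace X] (U : X.Opens) : CdBdd Good U := by
  refine compact_open_induction_on U (NoetherianSpace.isCompact _) ?_ fun S hS V hS' => ?_
  · refine ⟨0, fun g F hF n hn => ?_⟩
    rw [show X.basicOpen g = ⊥ from le_bot_iff.1 (X.basicOpen_le g)]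
    exact CohBase.subsingleton_HU_bot F n
  obtain ⟨t₁, ht₁⟩ := hS'
  obtain ⟨t₂, ht₂⟩ := cdBdd_le_affine Good hac V.2 (le_refl V.1)
  obtain ⟨t₃, ht₃⟩ := cdBdd_le_affine Good hac V.2 (inf_le_right : S ⊓ V.1 ≤ V.1)
  refine ⟨max (max t₁ t₂) (t₃ + 1), fun g F hF n hn => ?_⟩
  obtain ⟨m, rfl⟩ : ∃ m, n = m + 1 := ⟨n - 1, by omega⟩
  have e : X.basicOpen g = (S ⊓ X.basicOpen g) ⊔ (V.1 ⊓ X.basicOpen g) := by
    rw [← inf_sup_right]
    exact (inf_eq_right.2 (X.basicOpen_le g)).symm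
  rw [e]
  haveI : Subsingleton (CohBase.HU (S ⊓ X.basicOpen g) F (m + 1)) := by
    rw [← X.basicOpen_res g (homOfLE (le_sup_left : S ≤ S ⊔ V.1)).op]
    exact ht₁ _ F hF _ (by omega)
  haveI : Subsingleton (CohBase.HU (V.1 ⊓ X.basicOpen g) F (m + 1)) := by
    rw [← X.basicOpen_res g (homOfLE (le_sup_right : V.1 ≤ S ⊔ V.1)).op]
    exact ht₂ _ F hF _ (by omega)
  haveI : Subsingleton (CohBase.HU ((S ⊓ X.basicOpen g) ⊓ (V.1 ⊓ X.basicOpen g)) F m) := by
    rw [← inf_inf_distrib_right, ← X.basicOpen_res g (homOfLE (inf_le_left.trans le_sup_left : S ⊓ V.1 ≤ S ⊔ V.1)).op]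
    exact ht₃ _ F hF _ (by omega)
  exact CohBase.subsingleton_HU_sup F _ _ m

include hac in
/-- Cohomology of each open vanishes in high degrees. -/
theorem exists_cd [NoetherianSpace X] (U : X.Opens) :
    ∃ t : ℕ, ∀ F, Good F → ∀ n, t ≤ n → Subsingleton (CohBase.HU U F n) := by
  obtain ⟨t, ht⟩ := cdBdd Good hac U
  refine ⟨t, fun F hF n hn => ?_⟩
  have h1 := ht 1 F hF n hn
  rwa [X.basicOpen_of_isUnit isUnit_one] at h1

end Groth.Agent.FCompl
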