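import Groth.Agent.FComplLib.Morph

/-!
# The inverse image of a coherent module to a formal scheme over a scheme
-/

set_option autoImplicit false
set_option linter.style.haveILetI false
set_option linter.unusedVariables false
set_option backward.isDefEq.respectTransparency false
set_option backward.isDefEq.respectTransparency.types false
set_option maxHeartbeats 1000000
universe u

open CategoryTheory CategoryTheory.Limits AlgebraicGeometry TopologicalSpace Opposite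

noncomputable section

namespace Groth.Agent.FCompl

variable {𝔛 : FSch.Sys.{u}} {h : 𝔛.IsFormal}

section Functorial

variable {𝔉 𝔊 : FSch.ModF 𝔛 h} (θ : 𝔉 ⟶ 𝔊)

/-- The induced map of systems of restrictions. -/
def sysMap : sysOf 𝔉 ⟶ sysOf 𝔊 :=
  ⟨fun k => (FSch.levelMor 𝔛 h k).pull.map θ,
    fun k => ((adjS 𝔛 h k).leftAdjointUniq (FSch.levelMor 𝔛 h k).adj).hom.naturality θ⟩

lemma realModMap_proj {𝔐 𝔑 : FSch.ModSys 𝔛} (φ : 𝔐 ⟶ 𝔑) (k : ℕ) :
    FSch.ModSys.realModMap h φ ≫ FSch.realProj 𝔛 h 𝔑.F 𝔑.toPush k =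
      FSch.realProj 𝔛 h 𝔐.F 𝔐.toPush k ≫ (FSch.levelMor 𝔛 h k).push.map (φ.app k) :=
  FSch.realLimMap_realProj 𝔛 h φ.app (FSch.ModSys.Hom.toPush_comm φ) k

lemma eps_natural : θ ≫ eps 𝔊 = eps 𝔉 ≫ FSch.ModSys.realModMap h (sysMap θ) := by
  refine limit.hom_ext fun j => ?_
  show (θ ≫ eps 𝔊) ≫ FSch.realProj 𝔛 h (sysOf 𝔊).F (sysOf 𝔊).toPush j.unop =
    (eps 𝔉 ≫ FSch.ModSys.realModMap h (sysMap θ)) ≫ FSch.realProj 𝔛 h (sysOf 𝔊).F (sysOf 𝔊).toPush j.unop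
  refine (Category.assoc _ _ _).trans ((congrArg (θ ≫ ·) (eps_proj 𝔊 j.unop)).trans ?_)
  refine Eq.trans ?_ (Category.assoc _ _ _).symm
  refine Eq.trans ?_ (congrArg (eps 𝔉 ≫ ·) (realModMap_proj (sysMap θ) j.unop)).symm
  refine Eq.trans ?_ (Category.assoc _ _ _)
  refine Eq.trans ?_ (congrArg (fun z => z ≫ (FSch.levelMor 𝔛 h j.unop).push.map ((sysMap θ).app j.unop))
    (eps_proj 𝔉 j.unop)).symm
  exact (FSch.levelMor 𝔛 h j.unop).adj.unit.naturality θ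

theorem isIso_realModMap {𝔐 𝔑 : FSch.ModSys 𝔛} (φ : 𝔐 ⟶ 𝔑) [∀ k, IsIso (φ.app k)] :
    IsIso (FSch.ModSys.realModMap h φ) := by
  let ψ : 𝔑 ⟶ 𝔐 := ⟨fun k => inv (φ.app k), fun k => by
    rw [← cancel_epi ((Scheme.Modules.pullback (𝔛.ι k)).map (φ.app (k + 1))), ← Category.assoc,
      ← Functor.map_comp, IsIso.hom_inv_id, CategoryTheory.Functor.map_id, Category.id_comp, ← Category.assoc,
      φ.comm k, Category.assoc, IsIso.hom_inv_id, Category.comp_id]⟩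
  refine ⟨FSch.ModSys.realModMap h ψ, ?_, ?_⟩
  all_goals
    refine limit.hom_ext fun j => ?_
    refine (Category.assoc _ _ _).trans ?_
    refine Eq.trans ?_ (Category.id_comp _).symm
  · refine (congrArg (_ ≫ ·) (realModMap_proj ψ j.unop)).trans ?_
    refine ((Category.assoc _ _ _).symm.trans (congrArg (· ≫ _) (realModMap_proj φ j.unop))).trans ?_
    refine (Category.assoc _ _ _).trans ?_
    rw [← Functor.map_comp, show φ.app j.unop ≫ ψ.app j.unop = 𝟙 _ from IsIso.hom_inv_id _]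
    exact (congrArg (_ ≫ ·) ((FSch.levelMor 𝔛 h j.unop).push.map_id _)).trans (Category.comp_id _)
  · refine (congrArg (_ ≫ ·) (realModMap_proj φ j.unop)).trans ?_
    refine ((Category.assoc _ _ _).symm.trans (congrArg (· ≫ _) (realModMap_proj ψ j.unop))).trans ?_
    refine (Category.assoc _ _ _).trans ?_
    rw [← Functor.map_comp, show ψ.app j.unop ≫ φ.app j.unop = 𝟙 _ from IsIso.inv_hom_id _]
    exact (congrArg (_ ≫ ·) ((FSch.levelMor 𝔛 h j.unop).push.map_id _)).trans (Category.comp_id _)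

/-- A map of coherent modules which is invertible on all levels is invertible. -/
theorem isIso_of_pull (hL : 𝔛.IsLocNoethFormal) (h𝔉 : FSch.IsCohF 𝔛 h 𝔉) (h𝔊 : FSch.IsCohF 𝔛 h 𝔊)
    (H : ∀ k, IsIso ((FSch.levelMor 𝔛 h k).pull.map θ)) : IsIso θ := by
  haveI : ∀ k, IsIso ((sysMap θ).app k) := H
  haveI := eps_isIso hL h𝔉
  haveI := eps_isIso hL h𝔊
  haveI := isIso_realModMap (h := h) (sysMap θ)
  haveI : IsIso (θ ≫ eps 𝔊) := by rw [eps_natural]; infer_instance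
  exact IsIso.of_isIso_comp_right θ (eps 𝔊)

end Functorial

section Cmp

variable {Y : Scheme.{u}} (p : ∀ n, 𝔛.X n ⟶ Y) (hp : ∀ n, 𝔛.ι n ≫ p (n + 1) = p n)

theorem schPushCompare_isIso (k : ℕ) : IsIso (FSch.schPushCompare 𝔛 h p hp k) := by
  haveI : ∀ G, IsIso ((FSch.schPushCompare 𝔛 h p hp k).app G) := fun G => by
    let φ := (FSch.schPushCompare 𝔛 h p hp k).app G
    let ψ := (SheafOfModules.forget _).map φ
    haveI : ∀ U, IsIso (((PresheafOfModules.toPresheaf _).map ψ).app U) := fun U => by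
      rw [ConcreteCategory.isIso_iff_bijective]
      exact PullbackMod.res_bijective G (FSch.lvU_p 𝔛 h p hp k U.unop).ge (FSch.lvU_p 𝔛 h p hp k U.unop).le
    haveI : IsIso ((PresheafOfModules.toPresheaf _).map ψ) := NatIso.isIso_of_isIso_app _
    haveI : IsIso ψ := isIso_of_reflects_iso ψ (PresheafOfModules.toPresheaf _)
    exact @isIso_of_reflects_iso _ _ _ _ _ _ φ (SheafOfModules.forget _) _
      (SheafOfModules.fullyFaithfulForget _).reflectsIsomorphisms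
  exact NatIso.isIso_of_isIso_app _

/-- The section of the `k`-th level defined by a section downstairs. -/
def secLv (F : Y.Modules) (k : ℕ) (U : Y.Opens) (m : Γ(F, U)) :
    Γ((Scheme.Modules.pullback (p k)).obj F, 𝔛.lvU h k (p 0 ⁻¹ᵁ U)) :=
  PullbackMod.pullMap (p k) F (FSch.lvU_p 𝔛 h p hp k U).ge m

variable (F : Y.Modules) (𝔐 : FSch.ModSys 𝔛) (θ₀ : ∀ k, (Scheme.Modules.pullback (p k)).obj F ≅ 𝔐.F k)

/-- The map to the direct image of a level. -/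
def lvHom (k : ℕ) : F ⟶ (FSch.toSchemeMor 𝔛 h p hp).push.obj ((FSch.levelMor 𝔛 h k).push.obj (𝔐.F k)) :=
  (Scheme.Modules.pullbackPushforwardAdjunction (p k)).homEquiv _ _ (θ₀ k).hom ≫
    (FSch.schPushCompare 𝔛 h p hp k).app (𝔐.F k)

lemma lvHom_app (k : ℕ) (U : Y.Opens) (m : Γ(F, U)) :
    (show Γ(𝔐.F k, 𝔛.lvU h k (p 0 ⁻¹ᵁ U)) from ((lvHom p hp F 𝔐 θ₀ k).val.app (op U)).hom m) =
      (θ₀ k).hom.app _ (secLv (h := h) p hp F k U m) := by
  refine Eq.trans ?_ (congr($((θ₀ k).hom.mapPresheaf.naturality (homOfLE (FSch.lvU_p 𝔛 h p hp k U).ge).op)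
    (((Scheme.Modules.pullbackPushforwardAdjunction (p k)).unit.app F).app U m))).symm
  rw [lvHom, Adjunction.homEquiv_unit]
  rfl

variable (hθ₀ : ∀ k (U : Y.Opens) (m : Γ(F, U)),
  tm h 𝔐 (p 0 ⁻¹ᵁ U) k ((θ₀ (k + 1)).hom.app _ (secLv (h := h) p hp F (k + 1) U m)) =
    (θ₀ k).hom.app _ (secLv (h := h) p hp F k U m))

/-- The cone defining the comparison map. -/
def schModCone : Cone (FSch.levelSysOf 𝔛 h 𝔐.F 𝔐.toPush ⋙ (FSch.toSchemeMor 𝔛 h p hp).push) where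
  pt := F
  π := NatTrans.ofOpSequence (lvHom p hp F 𝔐 θ₀) fun k => by
    refine (Category.id_comp _).trans ?_
    rw [Functor.comp_map, FSch.levelSysOf_map_succ]
    ext U m
    refine Eq.trans ?_ (show tm h 𝔐 (p 0 ⁻¹ᵁ U.unop) k
      (show Γ(𝔐.F (k + 1), 𝔛.lvU h (k + 1) (p 0 ⁻¹ᵁ U.unop)) from
        ((lvHom p hp F 𝔐 θ₀ (k + 1)).val.app U).hom m) = _ from rfl)
    refine Eq.trans ?_ (congrArg (tm h 𝔐 (p 0 ⁻¹ᵁ U.unop) k) (lvHom_app p hp F 𝔐 θ₀ (k + 1) U.unop m)).symm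
    rw [hθ₀]
    exact lvHom_app p hp F 𝔐 θ₀ k U.unop m

/-- The comparison map. -/
def cmpMap : (FSch.toSchemeMor 𝔛 h p hp).pull.obj F ⟶ 𝔐.realMod h :=
  ((FSch.toSchemeMor 𝔛 h p hp).adj.homEquiv _ _).symm
    ((isLimitOfPreserves (FSch.toSchemeMor 𝔛 h p hp).push
      (limit.isLimit (FSch.levelSysOf 𝔛 h 𝔐.F 𝔐.toPush))).lift (schModCone p hp F 𝔐 θ₀ hθ₀))

lemma cmpMap_proj (k : ℕ) :
    (FSch.toSchemeMor 𝔛 h p hp).adj.homEquiv _ _ (cmpMap p hp F 𝔐 θ₀ hθ₀) ≫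
      (FSch.toSchemeMor 𝔛 h p hp).push.map (FSch.realProj 𝔛 h 𝔐.F 𝔐.toPush k) = lvHom p hp F 𝔐 θ₀ k := by
  rw [cmpMap]
  refine (congrArg (· ≫ _) (Equiv.apply_symm_apply _ _)).trans ?_
  exact (isLimitOfPreserves (FSch.toSchemeMor 𝔛 h p hp).push
    (limit.isLimit (FSch.levelSysOf 𝔛 h 𝔐.F 𝔐.toPush))).fac (schModCone p hp F 𝔐 θ₀ hθ₀) (op k)

theorem cmpMap_isIso (hL : 𝔛.IsLocNoethFormal) (hF : SheafOfModules.IsFinitePresentation (R := Y.ringCatSheaf) F)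
    (h𝔐 : 𝔐.IsCoh) : IsIso (cmpMap p hp F 𝔐 θ₀ hθ₀) := by
  let g := FSch.toSchemeMor 𝔛 h p hp
  haveI : SheafOfModules.IsFinitePresentation (R := ModSite.ringSh Y.sheaf) F := hF
  refine isIso_of_pull _ hL (PullFlat.isFinitePresentation_pull g (F := F))
    (isCohF_of_affine _ fun U hU => hasRels_realMod 𝔐 hL h𝔐 hU) fun k => ?_
  let f := FSch.levelMor 𝔛 h k
  haveI := schPushCompare_isIso (h := h) p hp k
  let c : Scheme.Modules.pushforward (p k) ≅ f.push ⋙ g.push := asIso (FSch.schPushCompare 𝔛 h p hp k)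
  let adjC : g.pull ⋙ f.pull ⊣ Scheme.Modules.pushforward (p k) := (g.adj.comp f.adj).ofNatIsoRight c.symm
  let L := adjC.leftAdjointUniq (Scheme.Modules.pullbackPushforwardAdjunction (p k))
  let α : f.pull.obj (g.pull.obj F) ⟶ 𝔐.F k := L.hom.app F ≫ (θ₀ k).hom
  let β := (f.adj.homEquiv _ _).symm (FSch.realProj 𝔛 h 𝔐.F 𝔐.toPush k)
  haveI : IsIso β := isIso_symm_realProj 𝔐 hL h𝔐 k
  suffices e : f.pull.map (cmpMap p hp F 𝔐 θ₀ hθ₀) ≫ β = α by
    haveI : IsIso (f.pull.map (cmpMap p hp F 𝔐 θ₀ hθ₀) ≫ β) := by rw [e]; infer_instance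
    exact IsIso.of_isIso_comp_right (f.pull.map (cmpMap p hp F 𝔐 θ₀ hθ₀)) β
  apply (f.adj.homEquiv _ _).injective
  rw [Adjunction.homEquiv_naturality_left]
  refine (congrArg (cmpMap p hp F 𝔐 θ₀ hθ₀ ≫ ·) (Equiv.apply_symm_apply (f.adj.homEquiv _ _)
    (FSch.realProj 𝔛 h 𝔐.F 𝔐.toPush k))).trans ?_
  apply (g.adj.homEquiv _ _).injective
  rw [Adjunction.homEquiv_naturality_right]
  refine (cmpMap_proj p hp F 𝔐 θ₀ hθ₀ k).trans ?_
  have h1 : adjC.homEquiv _ _ α =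
      (Scheme.Modules.pullbackPushforwardAdjunction (p k)).homEquiv _ _ (θ₀ k).hom := by
    rw [Adjunction.homEquiv_unit, Adjunction.homEquiv_unit, Functor.map_comp, ← Category.assoc,
      Adjunction.unit_leftAdjointUniq_hom_app]
  rw [lvHom, ← h1]
  have h2 : adjC.homEquiv _ _ α = g.adj.homEquiv _ _ (f.adj.homEquiv _ _ α) ≫ c.inv.app _ := by
    have hn := c.inv.naturality α
    simp only [Functor.comp_map] at hn
    simp only [adjC, Adjunction.ofNatIsoRight, Adjunction.homEquiv_unit, Adjunction.comp_unit_app, Iso.symm_hom,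
      NatTrans.comp_app, Functor.whiskerLeft_app, Functor.map_comp, Category.assoc]
    exact congrArg (g.adj.unit.app F ≫ ·) (congrArg (g.push.map (f.adj.unit.app (g.pull.obj F)) ≫ ·) hn.symm)
  refine (congrArg (· ≫ c.hom.app _) h2).trans ?_
  rw [Category.assoc, Iso.inv_hom_id_app]
  exact Category.comp_id _

end Cmp

end Groth.Agent.FCompl
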