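import Groth.Agent.FComplLib.Comparison
import Groth.Agent.S3854

/-!
# Completions of coherent modules on locally Noetherian schemes
-/

set_option autoImplicit false
set_option linter.style.haveILetI false
set_option linter.unusedVariables false
set_option backward.isDefEq.respectTransparency false
set_option backward.isDefEq.respectTransparency.types false
set_option maxHeartbeats 1000000
universe u

open CategoryTheory CategoryTheory.Limits AlgebraicGeometry TopologicalSpace Opposite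

noncomputable section

namespace Groth.Agent.FCompl

/-- Iterated inverse images of sections. -/
theorem pullMap_comp {X X' X'' : Scheme.{u}} {j : X'' ⟶ X'} {i : X' ⟶ X} {k : X'' ⟶ X} (hk : j ≫ i = k)
    (M : X.Modules) {U : X.Opens} {U' : X'.Opens} {U'' : X''.Opens} (e₁ : U' ≤ i ⁻¹ᵁ U) (e₂ : U'' ≤ j ⁻¹ᵁ U')
    (e₃ : U'' ≤ k ⁻¹ᵁ U) (m : Γ(M, U)) :
    ((Scheme.Modules.pullbackComp j i).hom.app M ≫ (Scheme.Modules.pullbackCongr hk).hom.app M).app U''
      (PullbackMod.pullMap j _ e₂ (PullbackMod.pullMap i M e₁ m)) = PullbackMod.pullMap k M e₃ m := by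
  subst hk
  have e := unit_conjugateEquiv
    ((Scheme.Modules.pullbackPushforwardAdjunction i).comp (Scheme.Modules.pullbackPushforwardAdjunction j))
    (Scheme.Modules.pullbackPushforwardAdjunction (j ≫ i)) (Scheme.Modules.pullbackComp j i).inv M
  rw [Scheme.Modules.conjugateEquiv_pullbackComp_inv] at e
  have e' := congr($(e).app U m)
  simp only [Scheme.Modules.pullbackCongr, eqToIso_refl, Iso.refl_hom, NatTrans.id_app, Category.comp_id]
  let a := ((Scheme.Modules.pullbackPushforwardAdjunction i).unit.app M).app U m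
  let b := ((Scheme.Modules.pullbackPushforwardAdjunction j).unit.app _).app (i ⁻¹ᵁ U) a
  let P' := (Scheme.Modules.pullback i).obj M
  let P := (Scheme.Modules.pullback j).obj P'
  have hb : b = ((Scheme.Modules.pullbackComp j i).inv.app M).app ((j ≫ i) ⁻¹ᵁ U)
      (((Scheme.Modules.pullbackPushforwardAdjunction (j ≫ i)).unit.app M).app U m) := e'
  have h1 : PullbackMod.pullMap j P' e₂ (PullbackMod.pullMap i M e₁ m) = P.presheaf.map (homOfLE e₃).op b := by
    show P.presheaf.map (homOfLE e₂).op (((Scheme.Modules.pullbackPushforwardAdjunction j).unit.app P').app U'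
      (P'.presheaf.map (homOfLE e₁).op a)) = _
    refine (congrArg (P.presheaf.map (homOfLE e₂).op)
      (congr($(((Scheme.Modules.pullbackPushforwardAdjunction j).unit.app P').mapPresheaf.naturality
        (homOfLE e₁).op) a))).trans ?_
    exact CohBase.restr_trans P (j.preimage_mono e₁) e₂ b
  refine (congrArg (((Scheme.Modules.pullbackComp j i).hom.app M).app U'') h1).trans ?_
  refine (congr($(((Scheme.Modules.pullbackComp j i).hom.app M).mapPresheaf.naturality (homOfLE e₃).op) b)).trans ?_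
  refine congrArg (((Scheme.Modules.pullback (j ≫ i)).obj M).presheaf.map (homOfLE e₃).op) ?_
  refine (congrArg (((Scheme.Modules.pullbackComp j i).hom.app M).app ((j ≫ i) ⁻¹ᵁ U)) hb).trans ?_
  exact congr($((Scheme.Modules.pullbackComp j i).inv_hom_id_app M).app ((j ≫ i) ⁻¹ᵁ U) _)

section Natural

variable {𝔛 : FSch.Sys.{u}} {h : 𝔛.IsFormal} {Y : Scheme.{u}} (p : ∀ n, 𝔛.X n ⟶ Y)
  (hp : ∀ n, 𝔛.ι n ≫ p (n + 1) = p n) {F G : Y.Modules} {𝔐 𝔑 : FSch.ModSys 𝔛}
  (θF : ∀ k, (Scheme.Modules.pullback (p k)).obj F ≅ 𝔐.F k)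
  (θG : ∀ k, (Scheme.Modules.pullback (p k)).obj G ≅ 𝔑.F k)

lemma compat_of_trans (F : Y.Modules) (𝔐 : FSch.ModSys 𝔛)
    (θ : ∀ k, (Scheme.Modules.pullback (p k)).obj F ≅ 𝔐.F k)
    (hθ : ∀ k, (Scheme.Modules.pullback (𝔛.ι k)).map (θ (k + 1)).hom ≫ (𝔐.e k).hom =
      ((Scheme.Modules.pullbackComp (𝔛.ι k) (p (k + 1))).hom.app F ≫
        (Scheme.Modules.pullbackCongr (hp k)).hom.app F) ≫ (θ k).hom) (k : ℕ) (U : Y.Opens) (m : Γ(F, U)) :
    tm h 𝔐 (p 0 ⁻¹ᵁ U) k ((θ (k + 1)).hom.app _ (secLv (h := h) p hp F (k + 1) U m)) =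
      (θ k).hom.app _ (secLv (h := h) p hp F k U m) := by
  let V := p 0 ⁻¹ᵁ U
  let w := PullbackMod.pullMap (p (k + 1)) F (FSch.lvU_p 𝔛 h p hp (k + 1) U).ge m
  refine Eq.trans ?_ (congrArg ((θ k).hom.app (𝔛.lvU h k V)) (pullMap_comp (hp k) F
    (FSch.lvU_p 𝔛 h p hp (k + 1) U).ge (𝔛.lvU_le h k V) (FSch.lvU_p 𝔛 h p hp k U).ge m))
  refine Eq.trans ?_ (congr(($(hθ k)).app (𝔛.lvU h k V) (PullbackMod.pullMap (𝔛.ι k) _ (𝔛.lvU_le h k V) w)))
  show _ = (𝔐.e k).hom.app _ (((Scheme.Modules.pullback (𝔛.ι k)).map (θ (k + 1)).hom).app _ _)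
  rw [PullbackMod.pullMap_natural]
  show (𝔐.F k).presheaf.map (homOfLE (𝔛.lvU_le h k V)).op ((𝔐.toPush k).app (𝔛.lvU h (k + 1) V) _) = _
  rw [FSch.ModSys.toPush, Adjunction.homEquiv_unit]
  exact (congr($((𝔐.e k).hom.mapPresheaf.naturality (homOfLE (𝔛.lvU_le h k V)).op)
    (((Scheme.Modules.pullbackPushforwardAdjunction (𝔛.ι k)).unit.app (𝔐.F (k + 1))).app
      (𝔛.lvU h (k + 1) V) ((θ (k + 1)).hom.app _ w)))).symm

/-- The system of inverse images. -/
abbrev pullSys (F : Y.Modules) : FSch.ModSys 𝔛 where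
  F n := (Scheme.Modules.pullback (p n)).obj F
  e n := (Scheme.Modules.pullbackComp (𝔛.ι n) (p (n + 1)) ≪≫ Scheme.Modules.pullbackCongr (hp n)).app F

lemma pullSys_compat (F : Y.Modules) (k : ℕ) (U : Y.Opens) (m : Γ(F, U)) :
    tm h (pullSys p hp F) (p 0 ⁻¹ᵁ U) k ((Iso.refl ((pullSys p hp F).F (k + 1))).hom.app _
      (secLv (h := h) p hp F (k + 1) U m)) =
      (Iso.refl ((pullSys p hp F).F k)).hom.app _ (secLv (h := h) p hp F k U m) :=
  compat_of_trans p hp F (pullSys p hp F) (fun k => Iso.refl _) (fun k => by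
    rw [Iso.refl_hom, Iso.refl_hom, CategoryTheory.Functor.map_id, Category.id_comp, Category.comp_id]
    rfl) k U m

theorem cmpMap_natural
    (hF : ∀ k (U : Y.Opens) (m : Γ(F, U)), tm h 𝔐 (p 0 ⁻¹ᵁ U) k
      ((θF (k + 1)).hom.app _ (secLv (h := h) p hp F (k + 1) U m)) = (θF k).hom.app _ (secLv (h := h) p hp F k U m))
    (hG : ∀ k (U : Y.Opens) (m : Γ(G, U)), tm h 𝔑 (p 0 ⁻¹ᵁ U) k
      ((θG (k + 1)).hom.app _ (secLv (h := h) p hp G (k + 1) U m)) = (θG k).hom.app _ (secLv (h := h) p hp G k U m))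
    (φ : F ⟶ G) (Φ : 𝔐 ⟶ 𝔑) (hΦ : ∀ k, (Scheme.Modules.pullback (p k)).map φ ≫ (θG k).hom = (θF k).hom ≫ Φ.app k) :
    (FSch.toSchemeMor 𝔛 h p hp).pull.map φ ≫ cmpMap p hp G 𝔑 θG hG =
      cmpMap p hp F 𝔐 θF hF ≫ FSch.ModSys.realModMap h Φ := by
  let g := FSch.toSchemeMor 𝔛 h p hp
  apply (g.adj.homEquiv _ _).injective
  refine (isLimitOfPreserves g.push (limit.isLimit (FSch.levelSysOf 𝔛 h 𝔑.F 𝔑.toPush))).hom_ext fun j => ?_
  show g.adj.homEquiv _ _ _ ≫ g.push.map (FSch.realProj 𝔛 h 𝔑.F 𝔑.toPush j.unop) =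
    g.adj.homEquiv _ _ _ ≫ g.push.map (FSch.realProj 𝔛 h 𝔑.F 𝔑.toPush j.unop)
  rw [Adjunction.homEquiv_naturality_left, Adjunction.homEquiv_naturality_right, Category.assoc]
  refine ((congrArg (φ ≫ ·) (cmpMap_proj p hp G 𝔑 θG hG j.unop)).trans ?_).trans (Category.assoc _ _ _).symm
  rw [← Functor.map_comp]
  refine Eq.trans ?_ (congrArg (fun z => g.adj.homEquiv _ _ (cmpMap p hp F 𝔐 θF hF) ≫ g.push.map z)
    (realModMap_proj Φ j.unop)).symm
  rw [Functor.map_comp, ← Category.assoc (g.adj.homEquiv _ _ (cmpMap p hp F 𝔐 θF hF))]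
  refine Eq.trans ?_ (congrArg (· ≫ g.push.map ((FSch.levelMor 𝔛 h j.unop).push.map (Φ.app j.unop)))
    (cmpMap_proj p hp F 𝔐 θF hF j.unop)).symm
  rw [lvHom, lvHom, Category.assoc]
  refine Eq.trans ?_ (congrArg (_ ≫ ·) ((FSch.schPushCompare 𝔛 h p hp j.unop).naturality (Φ.app j.unop)))
  rw [← Category.assoc, ← Category.assoc, ← Adjunction.homEquiv_naturality_left,
    ← Adjunction.homEquiv_naturality_right, hΦ]

end Natural

section Completion

variable (X : Scheme.{u}) (𝓘 : X.IdealSheafData) (h : (FSch.completionAlong X 𝓘).IsFormal)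

lemma complTransIso_eq (k : ℕ) : FSch.complTransIso 𝓘 k =
    Scheme.Modules.pullbackComp ((FSch.completionAlong X 𝓘).ι k) (FSch.completionToX X 𝓘 (k + 1)) ≪≫
      Scheme.Modules.pullbackCongr (FSch.completionToX_comm X 𝓘 k) := by
  delta FSch.complTransIso
  rfl

lemma complMod_e_hom (F : X.Modules) (k : ℕ) : ((FSch.complMod 𝓘 F).e k).hom =
    (Scheme.Modules.pullbackComp ((FSch.completionAlong X 𝓘).ι k) (FSch.completionToX X 𝓘 (k + 1))).hom.app F ≫
      (Scheme.Modules.pullbackCongr (FSch.completionToX_comm X 𝓘 k)).hom.app F :=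
  (congrArg (fun T => (Iso.app T F).hom) (complTransIso_eq X 𝓘 k) :)

/-- The levels of a completed module. -/
def complθ (F : X.Modules) (k : ℕ) :
    (Scheme.Modules.pullback (FSch.completionToX X 𝓘 k)).obj F ≅ (FSch.complMod 𝓘 F).F k :=
  Iso.refl ((Scheme.Modules.pullback (FSch.completionToX X 𝓘 k)).obj F)

lemma complθ_hom (F : X.Modules) (k : ℕ) :
    (complθ X 𝓘 F k).hom = 𝟙 ((Scheme.Modules.pullback (FSch.completionToX X 𝓘 k)).obj F) := rfl

lemma complMod_compat (F : X.Modules) (k : ℕ) (U : X.Opens) (m : Γ(F, U)) :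
    tm h (FSch.complMod 𝓘 F) (FSch.completionToX X 𝓘 0 ⁻¹ᵁ U) k
      ((complθ X 𝓘 F (k + 1)).hom.app _
        (secLv (h := h) (FSch.completionToX X 𝓘) (FSch.completionToX_comm X 𝓘) F (k + 1) U m)) =
      (complθ X 𝓘 F k).hom.app _
        (secLv (h := h) (FSch.completionToX X 𝓘) (FSch.completionToX_comm X 𝓘) F k U m) :=
  compat_of_trans (h := h) (FSch.completionToX X 𝓘) (FSch.completionToX_comm X 𝓘) F (FSch.complMod 𝓘 F)
    (complθ X 𝓘 F) (fun k => by
      refine (congrArg (· ≫ _) ((congrArg _ (complθ_hom X 𝓘 F (k + 1))).trans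
        (CategoryTheory.Functor.map_id _ _))).trans ?_
      refine (Category.id_comp _).trans ?_
      refine (complMod_e_hom X 𝓘 F k).trans ?_
      exact (Category.comp_id _).symm) k U m

/-- The comparison map of a completion. -/
def complCmp (F : X.Modules) :
    (FSch.toSchemeMor (FSch.completionAlong X 𝓘) h (FSch.completionToX X 𝓘) (FSch.completionToX_comm X 𝓘)).pull.obj F ⟶
      (FSch.complMod 𝓘 F).realMod h :=
  cmpMap (FSch.completionToX X 𝓘) (FSch.completionToX_comm X 𝓘) F (FSch.complMod 𝓘 F) (complθ X 𝓘 F)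
    (complMod_compat X 𝓘 h F)

variable [IsLocallyNoetherian X]

theorem complCmp_isIso (F : X.Modules) (hF : Coh.IsCoh F) : IsIso (complCmp X 𝓘 h F) :=
  cmpMap_isIso _ _ F (FSch.complMod 𝓘 F) _ _ (S3854.result X 𝓘) (QCohLib.isFP_of_isCoh F hF)
    fun k => PullbackMod.isCoh_pullback (FSch.completionToX X 𝓘 k) F hF

theorem exists_complMod_iso (F : X.Modules) (hF : Coh.IsCoh F) :
    ∃ e : (FSch.toSchemeMor (FSch.completionAlong X 𝓘) h (FSch.completionToX X 𝓘) (FSch.completionToX_comm X 𝓘)).pull.obj F ≅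
        (FSch.complMod 𝓘 F).realMod h,
      ∀ k, ((FSch.toSchemeMor (FSch.completionAlong X 𝓘) h (FSch.completionToX X 𝓘) (FSch.completionToX_comm X 𝓘)).adj.homEquiv _ _ e.hom) ≫
          (FSch.toSchemeMor (FSch.completionAlong X 𝓘) h (FSch.completionToX X 𝓘) (FSch.completionToX_comm X 𝓘)).push.map
            (FSch.realProj (FSch.completionAlong X 𝓘) h (FSch.complMod 𝓘 F).F (FSch.complMod 𝓘 F).toPush k) =
        (Scheme.Modules.pullbackPushforwardAdjunction (FSch.completionToX X 𝓘 k)).unit.app F ≫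
          (FSch.schPushCompare (FSch.completionAlong X 𝓘) h (FSch.completionToX X 𝓘) (FSch.completionToX_comm X 𝓘) k).app _ := by
  haveI := complCmp_isIso X 𝓘 h F hF
  refine ⟨asIso (complCmp X 𝓘 h F), fun k => ?_⟩
  refine (cmpMap_proj (FSch.completionToX X 𝓘) (FSch.completionToX_comm X 𝓘) F (FSch.complMod 𝓘 F)
    (complθ X 𝓘 F) (complMod_compat X 𝓘 h F) k).trans ?_
  rw [lvHom, complθ_hom, Adjunction.homEquiv_unit, CategoryTheory.Functor.map_id]
  exact congrArg (· ≫ _) (Category.comp_id _)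

omit [IsLocallyNoetherian X] in
lemma complCmp_natural {F G : X.Modules} (φ : F ⟶ G) :
    (FSch.toSchemeMor (FSch.completionAlong X 𝓘) h (FSch.completionToX X 𝓘) (FSch.completionToX_comm X 𝓘)).pull.map φ ≫
      complCmp X 𝓘 h G = complCmp X 𝓘 h F ≫ FSch.ModSys.realModMap h (FSch.complModMap 𝓘 φ) :=
  cmpMap_natural _ _ _ _ _ _ φ _ fun k => by
    rw [complθ_hom, complθ_hom]
    exact (Category.comp_id _).trans (Category.id_comp _).symm

end Completion

end Groth.Agent.FCompl
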