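import Groth.Agent.FComplLib.Exact
import Groth.Agent.SuppLib.Basic
import Groth.Agent.QCohLib.Coherent
import Groth.Agent.PullbackMod.SuppClosed
import Groth.Agent.DCohLib.SuppOpen

/-!
# Completion along the closed fibres of a closed morphism is conservative
-/

set_option autoImplicit false
set_option linter.style.haveILetI false
set_option linter.unusedVariables false
set_option backward.isDefEq.respectTransparency false
set_option backward.isDefEq.respectTransparency.types false
universe u

open CategoryTheory CategoryTheory.Limits AlgebraicGeometry TopologicalSpace Opposite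

noncomputable section

namespace Groth.Agent.FCompl

/-- A closed map to the spectrum of an adically complete ring: a closed set missing the closed fibres is empty. -/
theorem closed_eq_empty_of_disjoint {A : Type u} [CommRing A] (J : Ideal A) [IsAdicComplete J A]
    {X : Scheme.{u}} (f : X ⟶ Spec (CommRingCat.of A)) (hf : IsClosedMap f.base) (C : Set X) (hC : IsClosed C)
    (h : Disjoint C (f.base ⁻¹' PrimeSpectrum.zeroLocus (J : Set A))) : C = ∅ := by
  by_contra hne
  obtain ⟨x, hx⟩ := Set.nonempty_iff_ne_empty.2 hne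
  obtain ⟨m, hm, hle⟩ := Ideal.exists_le_maximal (f.base x).asIdeal (f.base x).isPrime.ne_top
  have hmem : (⟨m, hm.isPrime⟩ : PrimeSpectrum A) ∈ f.base '' C :=
    ((PrimeSpectrum.le_iff_specializes (f.base x) ⟨m, hm.isPrime⟩).1 hle).mem_closed (hf _ hC) ⟨x, hx, rfl⟩
  obtain ⟨y, hy, hfy⟩ := hmem
  refine Set.disjoint_left.1 h hy ?_
  show f.base y ∈ PrimeSpectrum.zeroLocus (J : Set A)
  rw [hfy]
  exact (IsAdicComplete.le_jacobson_bot J).trans (sInf_le ⟨bot_le, hm⟩)

lemma range_completionToX_zero (X : Scheme.{u}) (𝓘 : X.IdealSheafData) :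
    Set.range (FSch.completionToX X 𝓘 0).base = (𝓘.support : Set X) := by
  refine (Scheme.IdealSheafData.range_subschemeι _).trans ?_
  rw [pow_one]

lemma support_idealSpec_comap {A : Type u} [CommRing A] (J : Ideal A)
    {X : Scheme.{u}} (f : X ⟶ Spec (CommRingCat.of A)) :
    (((FSch.idealSpec A J).comap f).support : Set X) = f.base ⁻¹' PrimeSpectrum.zeroLocus (J : Set A) := by
  have h1 : ((FSch.idealSpec A J).support : Set (Spec (CommRingCat.of A))) = PrimeSpectrum.zeroLocus (J : Set A) := by
    refine (Scheme.Hom.support_ker (Spec.map (CommRingCat.ofHom (Ideal.Quotient.mk J)))).trans ?_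
    show closure (Set.range (PrimeSpectrum.comap (Ideal.Quotient.mk J))) = _
    rw [range_comap_of_surjective _ (Ideal.Quotient.mk J) Ideal.Quotient.mk_surjective,
      Ideal.mk_ker]
    exact (PrimeSpectrum.isClosed_zeroLocus _).closure_eq
  rw [Scheme.IdealSheafData.support_comap]
  exact congrArg (f.base ⁻¹' ·) h1

variable (X : Scheme.{u}) [IsLocallyNoetherian X] (𝓘 : X.IdealSheafData) (h : (FSch.completionAlong X 𝓘).IsFormal)

/-- If the completion of a coherent module vanishes, its support misses the centre. -/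
theorem disjoint_support_of_isZero (K : X.Modules) (hK : Coh.IsCoh K)
    (h0 : IsZero ((FSch.complMod 𝓘 K).realMod h)) : Disjoint (CohB1.support K) (𝓘.support : Set X) := by
  have hLN : (FSch.completionAlong X 𝓘).IsLocNoethFormal := S3854.result X 𝓘
  let 𝔐 := FSch.complMod 𝓘 K
  let a := FSch.levelMor (FSch.completionAlong X 𝓘) h 0
  have hb : IsIso ((a.adj.homEquiv _ _).symm (FSch.realProj (FSch.completionAlong X 𝓘) h 𝔐.F 𝔐.toPush 0)) :=
    isIso_symm_realProj 𝔐 hLN (fun k => PullbackMod.isCoh_pullback (FSch.completionToX X 𝓘 k) K hK) 0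
  haveI : a.pull.IsLeftAdjoint := a.adj.isLeftAdjoint
  haveI : a.pull.Additive := a.adj.left_adjoint_additive
  haveI : a.pull.PreservesZeroMorphisms := Functor.preservesZeroMorphisms_of_additive _
  have hz : IsZero ((Scheme.Modules.pullback (FSch.completionToX X 𝓘 0)).obj K) :=
    (Functor.map_isZero a.pull h0).of_iso (@asIso _ _ _ _ _ hb).symm
  rw [← range_completionToX_zero, Set.disjoint_left]
  rintro x hx ⟨y, rfl⟩
  haveI := hK.1
  have hy : y ∈ CohB1.support ((Scheme.Modules.pullback (FSch.completionToX X 𝓘 0)).obj K) := by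
    rw [SuppLib.support_pullback _ K hK.2]; exact hx
  refine hy ?_
  exact DCohLib.subsingleton_stalk_of_isZero hz y

variable {A : Type u} [CommRing A] (J : Ideal A) [IsAdicComplete J A]
    (f : X ⟶ Spec (CommRingCat.of A)) (hf : IsClosedMap f.base) (h𝓘 : 𝓘 = (FSch.idealSpec A J).comap f)

include hf h𝓘 in
theorem isZero_of_isZero_completion (K : X.Modules) (hK : Coh.IsCoh K)
    (h0 : IsZero ((FSch.complMod 𝓘 K).realMod h)) : IsZero K := by
  refine DCohLib.isZero_of_stalks fun x => ?_
  have e := closed_eq_empty_of_disjoint J f hf (CohB1.support K) (PullbackMod.isClosed_support_of_isFT hK.2) ?_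
  · exact not_not.1 fun hx => (Set.eq_empty_iff_forall_notMem.1 e x) hx
  rw [← support_idealSpec_comap J f, ← h𝓘]
  exact disjoint_support_of_isZero X 𝓘 h K hK h0

include hf h𝓘 in
theorem mono_epi_completion_iff {F G : X.Modules} (hF : Coh.IsCoh F) (hG : Coh.IsCoh G) (u : F ⟶ G) :
    (Mono (FSch.ModSys.realModMap h (FSch.complModMap 𝓘 u)) ↔ Mono u) ∧
      (Epi (FSch.ModSys.realModMap h (FSch.complModMap 𝓘 u)) ↔ Epi u) := by
  let g := FSch.toSchemeMor (FSch.completionAlong X 𝓘) h (FSch.completionToX X 𝓘) (FSch.completionToX_comm X 𝓘)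
  haveI : PreservesFiniteLimits g.pull := CompFlat.completion_flat X 𝓘 h
  haveI : g.pull.IsLeftAdjoint := g.adj.isLeftAdjoint
  haveI : g.pull.Additive := g.adj.left_adjoint_additive
  haveI : g.pull.PreservesZeroMorphisms := Functor.preservesZeroMorphisms_of_additive _
  haveI := complCmp_isIso X 𝓘 h F hF
  haveI := complCmp_isIso X 𝓘 h G hG
  let e : Arrow.mk (g.pull.map u) ≅ Arrow.mk (FSch.ModSys.realModMap h (FSch.complModMap 𝓘 u)) :=
    Arrow.isoMk (asIso (complCmp X 𝓘 h F)) (asIso (complCmp X 𝓘 h G)) (complCmp_natural X 𝓘 h u).symm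
  have hk := QCohLib.isCoh_kernel_cokernel u hF hG
  have z1 : ∀ K : X.Modules, Coh.IsCoh K → IsZero (g.pull.obj K) → IsZero K := fun K hK hz => by
    haveI := complCmp_isIso X 𝓘 h K hK
    exact isZero_of_isZero_completion X 𝓘 h J f hf h𝓘 K hK (hz.of_iso (asIso (complCmp X 𝓘 h K)).symm)
  constructor
  · refine ⟨fun hm => ?_, fun hm => ?_⟩
    · haveI : Mono (g.pull.map u) := ((MorphismProperty.monomorphisms _).arrow_mk_iso_iff e).2 hm
      exact Preadditive.mono_of_isZero_kernel _ (z1 _ hk.1
        ((isZero_kernel_of_mono (g.pull.map u)).of_iso (PreservesKernel.iso g.pull u)))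
    · exact ((MorphismProperty.monomorphisms _).arrow_mk_iso_iff e).1 (inferInstanceAs (Mono (g.pull.map u)))
  · refine ⟨fun hm => ?_, fun hm => ?_⟩
    · haveI : Epi (g.pull.map u) := ((MorphismProperty.epimorphisms _).arrow_mk_iso_iff e).2 hm
      exact Preadditive.epi_of_isZero_cokernel _ (z1 _ hk.2
        ((isZero_cokernel_of_epi (g.pull.map u)).of_iso (PreservesCokernel.iso g.pull u)))
    · exact ((MorphismProperty.epimorphisms _).arrow_mk_iso_iff e).1 (inferInstanceAs (Epi (g.pull.map u)))

end Groth.Agent.FCompl
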