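import Groth.Agent.FComplLib.Factor

/-!
# Test modules supported on an affine open, and maps out of presented modules
-/

set_option autoImplicit false
set_option linter.style.haveILetI false
set_option backward.isDefEq.respectTransparency false
set_option backward.isDefEq.respectTransparency.types false
set_option maxHeartbeats 1000000
universe u

open CategoryTheory CategoryTheory.Limits AlgebraicGeometry TopologicalSpace Opposite

noncomputable section

namespace Groth.Agent.FCompl

section Scheme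

variable {X : Scheme.{u}} {W : X.Opens}

/-- The quasi-coherent module on an affine open with given sections, pushed to the whole scheme. -/
theorem exists_test_module (hW : IsAffineOpen W) (N : Type u) [AddCommGroup N] [Module Γ(X, W) N] :
    ∃ (G : X.Modules) (e : N ≃ₗ[Γ(X, W)] Γ(G, W)),
      (∀ W' : X.Opens, Function.Bijective (G.presheaf.map (homOfLE (inf_le_left : W' ⊓ W ≤ W')).op)) ∧
      ∀ (M : X.Modules) [Coh.IsQCoh M], PullbackMod.DetW M W G := by
  let i := hW.fromSpec
  let N' : ModuleCat.{u} Γ(X, W) := ModuleCat.of Γ(X, W) N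
  let T : (Spec Γ(X, W)).Modules := (tilde.functor Γ(X, W)).obj N'
  let G := (Scheme.Modules.pushforward i).obj T
  have hi : i ⁻¹ᵁ W = ⊤ := hW.fromSpec_preimage_self
  let ι : N → Γ(G, W) := fun q => tilde.toOpen N' (i ⁻¹ᵁ W) q
  have hι : Function.Bijective ι := PullbackMod.toOpen_bijective N' hi
  have hιs : ∀ (b : Γ(X, W)) q, ι (b • q) = b • ι q := fun b q => by
    refine (map_smul (tilde.toOpen N' (i ⁻¹ᵁ W)).hom b q).trans ?_
    have hb : i.app W b = algebraMap Γ(X, W) Γ(Spec Γ(X, W), i ⁻¹ᵁ W) b := by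
      rw [hW.fromSpec_app_self]
      rfl
    show b • (show Γ(T, i ⁻¹ᵁ W) from tilde.toOpen N' (i ⁻¹ᵁ W) q) =
      i.app W b • (show Γ(T, i ⁻¹ᵁ W) from ι q)
    rw [hb]
    exact (algebraMap_smul Γ(Spec Γ(X, W), i ⁻¹ᵁ W) b _).symm
  refine ⟨G, LinearEquiv.ofBijective
    { toFun := ι, map_add' := fun p q => map_add (tilde.toOpen N' (i ⁻¹ᵁ W)).hom p q, map_smul' := hιs } hι,
    fun W' => ?_, fun M _ => ?_⟩
  · refine PullbackMod.res_bijective T (i.preimage_mono inf_le_left) ?_
    show i ⁻¹ᵁ W' ≤ i ⁻¹ᵁ W' ⊓ i ⁻¹ᵁ W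
    rw [hi]
    simp
  · haveI : IsIso (M.restrict hW.fromSpec).fromTildeΓ :=
      (isIso_fromTildeΓ_iff_isLocalizing _).mpr (CohBase.isLocalizing_restrict M hW)
    exact PullbackMod.detW_pushforward_fromSpec hW M T

end Scheme

section Hom

variable {T : TopCat.{u}} {R : Sheaf (Opens.grothendieckTopology T) RingCat.{u}}
  (M N : SheafOfModules.{u} R) {U : Opens T}

set_option maxHeartbeats 2000000 in
/-- A module with a presentation over `U` maps to a module living on `U` by the values on the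
generators. -/
theorem exists_hom_of_rels {I K : Type u} [Fintype I] [Fintype K] (s : I → M.val.obj (op U))
    (c : K → I → R.obj.obj (op U)) (hs : FPLocal.Gen M s) (h0 : ∀ k, ∑ i, c k i • s i = 0)
    (hc : FPLocal.RelComplete M c s) (n : I → N.val.obj (op U)) (hn : ∀ k, ∑ i, c k i • n i = 0)
    (hN : ∀ W : Opens T, Function.Bijective (FPLocal.mres N (homOfLE (inf_le_left : W ⊓ U ≤ W)).op)) :
    ∃ ψ : M ⟶ N, ∀ i, (ψ.val.app (op U)).hom (s i) = n i := by
  haveI := hs.epi
  haveI := FPLocal.epi_relLift h0 hc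
  let π := FPLocal.freeHomMk M s
  have w : kernel.ι π ≫ FPLocal.freeHomMk N n = 0 := by
    rw [← cancel_epi (FPLocal.relLift h0), comp_zero]
    refine FPLocal.free_hom_ext fun k => ?_
    rw [comp_zero, ← Category.assoc, FPLocal.relLift, FPLocal.ιFree_freeDesc, ← Category.assoc, kernel.lift_ι]
    exact FPLocal.combHom_comp (hn k)
  haveI : Epi (ShortComplex.mk (kernel.ι π) π (kernel.condition π)).g := inferInstanceAs (Epi π)
  let ψU : M.over U ⟶ N.over U :=
    (ShortComplex.exact_of_f_is_kernel (ShortComplex.mk (kernel.ι π) π (kernel.condition π))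
      (kernelIsKernel π)).desc (FPLocal.freeHomMk N n) w
  have hπψ : π ≫ ψU = FPLocal.freeHomMk N n :=
    (ShortComplex.exact_of_f_is_kernel (ShortComplex.mk (kernel.ι π) π (kernel.condition π))
      (kernelIsKernel π)).g_desc (FPLocal.freeHomMk N n) w
  let eN : ∀ W : Opens T, N.val.obj (op W) ≃+ N.val.obj (op (W ⊓ U)) := fun W => AddEquiv.ofBijective _ (hN W)
  let f : ∀ W : Opens T, M.val.obj (op (W ⊓ U)) →+ N.val.obj (op (W ⊓ U)) := fun W =>
    (ψU.val.app (op (Over.mk (homOfLE (inf_le_right : W ⊓ U ≤ U))))).hom.toAddMonoidHom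
  have hf : ∀ W (a : R.obj.obj (op (W ⊓ U))) (m : M.val.obj (op (W ⊓ U))), f W (a • m) = a • f W m :=
    fun W a m => map_smul (ψU.val.app (op (Over.mk (homOfLE (inf_le_right : W ⊓ U ≤ U))))).hom a m
  have hfn : ∀ {W W' : Opens T} (hW : W' ≤ W) (m : M.val.obj (op (W ⊓ U))),
      f W' (FPLocal.mres M (homOfLE (inf_le_inf_right U hW)).op m) =
        FPLocal.mres N (homOfLE (inf_le_inf_right U hW)).op (f W m) := fun {W W'} hW m =>
    PresheafOfModules.naturality_apply ψU.val
      (Over.homMk (homOfLE (inf_le_inf_right U hW)) (Subsingleton.elim _ _) :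
        Over.mk (homOfLE (inf_le_right : W' ⊓ U ≤ U)) ⟶ Over.mk (homOfLE (inf_le_right : W ⊓ U ≤ U))).op m
  let g : ∀ W : Opens T, M.val.obj (op W) →+ N.val.obj (op W) := fun W =>
    (eN W).symm.toAddMonoidHom.comp ((f W).comp (FPLocal.mres M (homOfLE (inf_le_left : W ⊓ U ≤ W)).op))
  have hg : ∀ W m, FPLocal.mres N (homOfLE (inf_le_left : W ⊓ U ≤ W)).op (g W m) =
      f W (FPLocal.mres M (homOfLE (inf_le_left : W ⊓ U ≤ W)).op m) := fun W m => (eN W).apply_symm_apply _
  let p : M.val.presheaf ⟶ N.val.presheaf :=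
    { app := fun W => AddCommGrpCat.ofHom (g W.unop)
      naturality := fun W W' i => by
        ext m
        have hW : W'.unop ≤ W.unop := leOfHom i.unop
        apply (hN W'.unop).1
        show FPLocal.mres N _ (g W'.unop (FPLocal.mres M i m)) = FPLocal.mres N _ (FPLocal.mres N i (g W.unop m))
        rw [hg, ← FPLocal.mres_comp, show i ≫ (homOfLE (inf_le_left : W'.unop ⊓ U ≤ W'.unop)).op =
            (homOfLE (inf_le_left : W.unop ⊓ U ≤ W.unop)).op ≫ (homOfLE (inf_le_inf_right U hW)).op from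
          Subsingleton.elim _ _, FPLocal.mres_comp, hfn hW, ← FPLocal.mres_comp (M := N) i, show i ≫ (homOfLE (inf_le_left : W'.unop ⊓ U ≤ W'.unop)).op =
            (homOfLE (inf_le_left : W.unop ⊓ U ≤ W.unop)).op ≫ (homOfLE (inf_le_inf_right U hW)).op from
          Subsingleton.elim _ _, FPLocal.mres_comp, hg] }
  have hgl : ∀ (W : Opens T) (a : R.obj.obj (op W)) (m : M.val.obj (op W)), g W (a • m) = a • g W m := by
    intro W a m
    apply (hN W).1
    refine (hg W _).trans ?_
    refine Eq.trans ?_ (N.val.map_smul (homOfLE (inf_le_left : W ⊓ U ≤ W)).op a _).symm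
    rw [show FPLocal.mres M (homOfLE (inf_le_left : W ⊓ U ≤ W)).op (a • m) = _ from
      M.val.map_smul (homOfLE (inf_le_left : W ⊓ U ≤ W)).op a m, hf]
    exact congrArg _ (hg W m).symm
  refine ⟨⟨PresheafOfModules.homMk p fun W a m => hgl W.unop a m⟩, fun i => (hN U).1 ?_⟩
  show FPLocal.mres N _ (g U (s i)) = FPLocal.mres N _ (n i)
  rw [hg]
  have e1 : FPLocal.basisVal (π ≫ ψU) i (Over.mk (homOfLE (inf_le_right : U ⊓ U ≤ U))) =
      f U (FPLocal.basisVal π i (Over.mk (homOfLE (inf_le_right : U ⊓ U ≤ U)))) := rfl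
  rw [hπψ, FPLocal.basisVal_freeHomMk, FPLocal.basisVal_freeHomMk] at e1
  exact e1.symm

end Hom

end Groth.Agent.FCompl
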