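import Groth.Agent.FComplLib.Sheaf
import Groth.Agent.FComplLib.TestMod
import Groth.Agent.QCohLib.Push
import Groth.Agent.TildeD.TensorQCoh

/-!
# Descent of vectors modulo finitely many relations along a cover of an affine open
-/

set_option autoImplicit false
set_option linter.style.haveILetI false
set_option linter.unusedVariables false
set_option backward.isDefEq.respectTransparency false
set_option backward.isDefEq.respectTransparency.types false
set_option maxHeartbeats 2000000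
universe u

open CategoryTheory CategoryTheory.Limits AlgebraicGeometry TopologicalSpace Opposite

noncomputable section

namespace Groth.Agent.FCompl

/-- A quasi-coherent module with given sections over an affine open. -/
theorem exists_test_qc {X : Scheme.{u}} [IsLocallyNoetherian X] {W : X.Opens} (hW : IsAffineOpen W)
    (N : Type u) [AddCommGroup N] [Module Γ(X, W) N] :
    ∃ (G : X.Modules) (_ : N ≃ₗ[Γ(X, W)] Γ(G, W)), Coh.IsQCoh G := by
  let i := hW.fromSpec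
  let N' : ModuleCat.{u} Γ(X, W) := ModuleCat.of Γ(X, W) N
  let T : (Spec Γ(X, W)).Modules := (tilde.functor Γ(X, W)).obj N'
  let G := (Scheme.Modules.pushforward i).obj T
  have hi : i ⁻¹ᵁ W = ⊤ := hW.fromSpec_preimage_self
  let ι : N → Γ(G, W) := fun q => tilde.toOpen N' (i ⁻¹ᵁ W) q
  have hι : Function.Bijective ι := PullbackMod.toOpen_bijective N' hi
  have hιs : ∀ (b : Γ(X, W)) q, ι (b • q) = b • ι q := fun b q => by
    refine (map_smul (tilde.toOpen N' (i ⁻¹ᵁ W)).hom b q).trans ?_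
    have hb : i.app W b = algebraMap Γ(X, W) Γ(Spec Γ(X, W), i ⁻¹ᵁ W) b := by
      rw [hW.fromSpec_app_self]
      rfl
    show b • (show Γ(T, i ⁻¹ᵁ W) from tilde.toOpen N' (i ⁻¹ᵁ W) q) =
      i.app W b • (show Γ(T, i ⁻¹ᵁ W) from ι q)
    rw [hb]
    exact (algebraMap_smul Γ(Spec Γ(X, W), i ⁻¹ᵁ W) b _).symm
  refine ⟨G, LinearEquiv.ofBijective
    { toFun := ι, map_add' := fun p q => map_add (tilde.toOpen N' (i ⁻¹ᵁ W)).hom p q, map_smul' := hιs } hι, ?_⟩
  haveI : Coh.IsQCoh T := TildeD.isQCoh_tilde N'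
  exact QCohLib.isQCoh_pushforward T i

variable {𝔛 : FSch.Sys.{u}} {h : 𝔛.IsFormal} {U : (𝔛.X 0).Opens} {ι K : Type u} [Fintype ι]

/-- Reductions of vectors. -/
abbrev prv (n : ℕ) (W : (𝔛.X 0).Opens) (v : ι → OR 𝔛 h W) : ι → LR 𝔛 h W n := fun i => pr 𝔛 h W n (v i)

/-- Restrictions of vectors. -/
abbrev rsv {W : (𝔛.X 0).Opens} (hW : W ≤ U) (v : ι → OR 𝔛 h U) : ι → OR 𝔛 h W := fun i => rsO 𝔛 h hW (v i)

/-- The span of the restrictions of relations on a level. -/
abbrev spanL (r : K → ι → OR 𝔛 h U) (n : ℕ) {W : (𝔛.X 0).Opens} (hW : W ≤ U) :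
    Submodule (LR 𝔛 h W n) (ι → LR 𝔛 h W n) :=
  Submodule.span (LR 𝔛 h W n) (Set.range fun k => prv n W (rsv hW (r k)))

lemma prv_rsv {W : (𝔛.X 0).Opens} (hW : W ≤ U) (n : ℕ) (v : ι → OR 𝔛 h U) :
    prv n W (rsv hW v) = fun i => rsL 𝔛 h hW n (pr 𝔛 h U n (v i)) :=
  funext fun i => pr_rsO 𝔛 h hW n (v i)

lemma tr_mem_spanL {r : K → ι → OR 𝔛 h U} {n : ℕ} {W : (𝔛.X 0).Opens} {hW : W ≤ U} {d : ι → LR 𝔛 h W (n + 1)}
    (hd : d ∈ spanL r (n + 1) hW) : (fun i => tr 𝔛 h W n (d i)) ∈ spanL r n hW := by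
  induction hd using Submodule.span_induction with
  | mem y hy =>
    obtain ⟨k, rfl⟩ := hy
    refine Submodule.subset_span ⟨k, funext fun i => ?_⟩
    exact (tr_pr 𝔛 h W n _).symm
  | zero => simp only [Pi.zero_apply, map_zero]; exact zero_mem _
  | add a b _ _ ha hb => simp only [Pi.add_apply, map_add]; exact add_mem ha hb
  | smul a b _ hb => simp only [Pi.smul_apply, smul_eq_mul, map_mul]; exact Submodule.smul_mem _ (tr 𝔛 h W n a) hb

lemma prv_mem_spanL {r : K → ι → OR 𝔛 h U} (n : ℕ) {W : (𝔛.X 0).Opens} {hW : W ≤ U} {d : ι → OR 𝔛 h W}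
    (hd : d ∈ Submodule.span (OR 𝔛 h W) (Set.range fun k => rsv hW (r k))) : prv n W d ∈ spanL r n hW := by
  induction hd using Submodule.span_induction with
  | mem y hy =>
    obtain ⟨k, rfl⟩ := hy
    exact Submodule.subset_span ⟨k, rfl⟩
  | zero => rw [show prv n W (0 : ι → OR 𝔛 h W) = 0 from funext fun i => map_zero _]; exact zero_mem _
  | add a b _ _ ha hb => rw [show prv n W (a + b) = prv n W a + prv n W b from funext fun i => map_add _ _ _]; exact add_mem ha hb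
  | smul a b _ hb =>
    rw [show prv n W (a • b) = pr 𝔛 h W n a • prv n W b from funext fun i => map_mul _ _ _]
    exact Submodule.smul_mem _ _ hb

lemma exists_lift_mem_spanL (hL : 𝔛.IsLocNoethFormal) {r : K → ι → OR 𝔛 h U} {n : ℕ} {W : (𝔛.X 0).Opens}
    (hWa : IsAffineOpen W) {hW : W ≤ U} {d : ι → LR 𝔛 h W n} (hd : d ∈ spanL r n hW) :
    ∃ d' ∈ Submodule.span (OR 𝔛 h W) (Set.range fun k => rsv hW (r k)), prv n W d' = d := by
  induction hd using Submodule.span_induction with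
  | mem y hy =>
    obtain ⟨k, rfl⟩ := hy
    exact ⟨_, Submodule.subset_span ⟨k, rfl⟩, rfl⟩
  | zero => exact ⟨0, zero_mem _, funext fun i => map_zero _⟩
  | add a b _ _ ha hb =>
    obtain ⟨a', ha', rfl⟩ := ha
    obtain ⟨b', hb', rfl⟩ := hb
    exact ⟨a' + b', add_mem ha' hb', funext fun i => map_add _ _ _⟩
  | smul a b _ hb =>
    obtain ⟨b', hb', rfl⟩ := hb
    obtain ⟨a', rfl⟩ := pr_surjective (h := h) hL hWa n a
    exact ⟨a' • b', Submodule.smul_mem _ _ hb', funext fun i => map_mul _ _ _⟩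

variable {κ : Type u} {Z : κ → (𝔛.X 0).Opens} (hZU : ∀ k, Z k ≤ U) (hZ : ∀ k, IsAffineOpen (Z k))
  (hcov : U ≤ iSup Z) {r : K → ι → OR 𝔛 h U} {a : ∀ k, ι → OR 𝔛 h (Z k)}

set_option maxHeartbeats 4000000 in
include hZ hcov in
/-- On a single level compatible vectors glue, uniquely modulo the relations. -/
theorem glue_level (hL : 𝔛.IsLocNoethFormal) (hU : IsAffineOpen U) (n : ℕ)
    (hcomp : ∀ k k', ∀ x ∈ Z k ⊓ Z k', ∃ (A' : (𝔛.X 0).Opens) (h₁ : A' ≤ Z k) (h₂ : A' ≤ Z k'), x ∈ A' ∧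
      (fun i => rsO 𝔛 h h₁ (a k i) - rsO 𝔛 h h₂ (a k' i)) ∈
        Submodule.span (OR 𝔛 h A') (Set.range fun j => rsv (h₁.trans (hZU k)) (r j))) :
    (∃ v : ι → OR 𝔛 h U, ∀ k, prv n (Z k) (rsv (hZU k) v - a k) ∈ spanL r n (hZU k)) ∧
      ∀ v : ι → OR 𝔛 h U, (∀ k, prv n (Z k) (rsv (hZU k) v) ∈ spanL r n (hZU k)) →
        prv n U v ∈ spanL r n (le_refl U) := by
  classical
  haveI := hL.2.2 n
  let Un := 𝔛.lvU h n U
  have hUn : IsAffineOpen Un := affine_lvU (h := h) hU n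
  let Q : Submodule (LR 𝔛 h U n) (ι → LR 𝔛 h U n) := Submodule.span _ (Set.range fun j => prv n U (r j))
  obtain ⟨G, e, hG⟩ := exists_test_qc hUn ((ι → LR 𝔛 h U n) ⧸ Q)
  haveI := hG
  let nv : ι → Γ(G, Un) := fun i => e (Submodule.Quotient.mk (Pi.single i 1))
  have hcomb : ∀ d : ι → LR 𝔛 h U n, ∑ i, d i • nv i = e (Submodule.Quotient.mk d) := fun d => by
    conv_rhs => rw [← Finset.univ_sum_single d]
    rw [← Submodule.mkQ_apply Q, map_sum, map_sum]
    refine Finset.sum_congr rfl fun i _ => ?_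
    rw [show Pi.single i (d i) = d i • (Pi.single i (1 : LR 𝔛 h U n) : ι → LR 𝔛 h U n) by
      rw [← Pi.single_smul, smul_eq_mul, mul_one], map_smul, map_smul]
    rfl
  have hQ : Q = spanL r n (le_refl U) := by
    refine congrArg (fun f => Submodule.span (LR 𝔛 h U n) (Set.range f)) (funext fun j => funext fun i => ?_)
    refine congrArg (pr 𝔛 h U n) ?_
    exact (congrArg (fun f => f (r j i)) (congrArg CommRingCat.Hom.hom ((𝔛.Osh h).obj.map_id (op U))) :).symm
  let res : ∀ (W : (𝔛.X 0).Opens) (hW : W ≤ U), Γ(G, Un) → Γ(G, 𝔛.lvU h n W) := fun W hW m =>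
    G.presheaf.map (homOfLE (lvU_mono 𝔛 h hW n)).op m
  let φ : ∀ (W : (𝔛.X 0).Opens) (hW : W ≤ U), (ι → LR 𝔛 h W n) → Γ(G, 𝔛.lvU h n W) := fun W hW d =>
    ∑ i, d i • res W hW (nv i)
  have φ_res : ∀ (W : (𝔛.X 0).Opens) (hW : W ≤ U) (W' : (𝔛.X 0).Opens) (hW' : W' ≤ W) (d : ι → LR 𝔛 h W n),
      G.presheaf.map (homOfLE (lvU_mono 𝔛 h hW' n)).op (φ W hW d) =
        φ W' (hW'.trans hW) (fun i => rsL 𝔛 h hW' n (d i)) := fun W hW W' hW' d => by
    rw [map_sum]
    refine Finset.sum_congr rfl fun i _ => ?_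
    refine (G.val.map_smul (homOfLE (lvU_mono 𝔛 h hW' n)).op (d i) _).trans ?_
    exact congrArg (rsL 𝔛 h hW' n (d i) • ·) (CohBase.restr_trans G (lvU_mono 𝔛 h hW n) (lvU_mono 𝔛 h hW' n) (nv i))
  have φ_span : ∀ (W : (𝔛.X 0).Opens) (hW : W ≤ U) (d : ι → LR 𝔛 h W n), d ∈ spanL r n hW → φ W hW d = 0 := by
    intro W hW d hd
    induction hd using Submodule.span_induction with
    | mem y hy =>
      obtain ⟨j, rfl⟩ := hy
      show φ W hW (prv n W (rsv hW (r j))) = 0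
      rw [prv_rsv]
      refine Eq.trans ?_ ((congrArg (res W hW) ((hcomb _).trans ((congrArg e ((Submodule.Quotient.mk_eq_zero Q).2
        (Submodule.subset_span ⟨j, rfl⟩))).trans (map_zero e)))).trans (map_zero _))
      show φ W hW _ = G.presheaf.map _ (∑ i, pr 𝔛 h U n (r j i) • nv i)
      rw [map_sum]
      exact Finset.sum_congr rfl fun i _ =>
        (G.val.map_smul (homOfLE (lvU_mono 𝔛 h hW n)).op (pr 𝔛 h U n (r j i)) (nv i)).symm
    | zero => exact Finset.sum_eq_zero fun i _ => zero_smul _ _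
    | add p q _ _ hp hq =>
      show ∑ i, (p + q) i • res W hW (nv i) = 0
      simp only [Pi.add_apply, add_smul, Finset.sum_add_distrib]
      rw [show ∑ i, p i • res W hW (nv i) = 0 from hp, show ∑ i, q i • res W hW (nv i) = 0 from hq, add_zero]
    | smul c p _ hp =>
      show ∑ i, (c • p) i • res W hW (nv i) = 0
      simp only [Pi.smul_apply, smul_eq_mul, mul_smul, ← Finset.smul_sum]
      rw [show ∑ i, p i • res W hW (nv i) = 0 from hp, smul_zero]
  have φ_ker : ∀ (W : (𝔛.X 0).Opens) (hW : W ≤ U), IsAffineOpen W → ∀ d : ι → LR 𝔛 h W n,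
      φ W hW d = 0 → d ∈ spanL r n hW := by
    intro W hW hWa d hd
    letI : Algebra (LR 𝔛 h U n) (LR 𝔛 h W n) := (rsL 𝔛 h hW n).toAlgebra
    haveI : Module.Flat (LR 𝔛 h U n) (LR 𝔛 h W n) := rsL_flat (h := h) hU hWa hW n
    letI : Module (LR 𝔛 h U n) Γ(G, 𝔛.lvU h n W) := Module.compHom _ (rsL 𝔛 h hW n)
    haveI : IsScalarTower (LR 𝔛 h U n) (LR 𝔛 h W n) Γ(G, 𝔛.lvU h n W) := .of_algebraMap_smul fun _ _ => rfl
    have hbc := isBaseChange_res G hUn (affine_lvU (h := h) hWa n) (lvU_mono 𝔛 h hW n)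
    refine Submodule.span_le.2 ?_ (mem_span_relations hbc nv d hd)
    rintro _ ⟨c, hc, rfl⟩
    have hcQ : c ∈ Q := by
      rw [← Submodule.Quotient.mk_eq_zero]
      exact e.injective ((hcomb c).symm.trans ((hc : ∑ i, c i • nv i = 0).trans (map_zero e).symm))
    have hmap : ∀ c ∈ Q, (fun i => rsL 𝔛 h hW n (c i)) ∈ spanL r n hW := by
      intro c hcQ
      induction hcQ using Submodule.span_induction with
      | mem y hy =>
        obtain ⟨j, rfl⟩ := hy
        exact Submodule.subset_span ⟨j, (prv_rsv hW n (r j))⟩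
      | zero => simp only [Pi.zero_apply, map_zero]; exact zero_mem _
      | add p q _ _ hp hq => simp only [Pi.add_apply, map_add]; exact add_mem hp hq
      | smul s p _ hp =>
        simp only [Pi.smul_apply, smul_eq_mul, map_mul]; exact Submodule.smul_mem _ (rsL 𝔛 h hW n s) hp
    exact hmap c hcQ
  have hcov' : Un ≤ iSup fun k => 𝔛.lvU h n (Z k) := fun x hx => by
    obtain ⟨k, hk⟩ := Opens.mem_iSup.1 (hcov hx)
    exact Opens.mem_iSup.2 ⟨k, hk⟩
  have hsh : TopCat.Presheaf.IsSheaf (C := AddCommGrpCat.{u}) (X := (𝔛.X n).carrier) G.presheaf := G.isSheaf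
  let GS : TopCat.Sheaf AddCommGrpCat.{u} (𝔛.X n).carrier := ⟨_, hsh⟩
  have hresv : ∀ (v : ι → OR 𝔛 h U) (k : κ), res (Z k) (hZU k) (∑ i, pr 𝔛 h U n (v i) • nv i) =
      φ (Z k) (hZU k) (prv n (Z k) (rsv (hZU k) v)) := fun v k => by
    rw [prv_rsv]
    show G.presheaf.map _ _ = _
    rw [map_sum]
    exact Finset.sum_congr rfl fun i _ => G.val.map_smul (homOfLE (lvU_mono 𝔛 h (hZU k) n)).op (pr 𝔛 h U n (v i)) (nv i)
  have huniq : ∀ v : ι → OR 𝔛 h U, (∀ k, prv n (Z k) (rsv (hZU k) v) ∈ spanL r n (hZU k)) →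
      prv n U v ∈ spanL r n (le_refl U) := by
    intro v hv
    rw [← hQ, ← Submodule.Quotient.mk_eq_zero]
    refine e.injective (((hcomb _).symm.trans ?_).trans (map_zero e).symm)
    refine TopCat.Sheaf.eq_of_locally_eq' GS _ Un (fun k => homOfLE (lvU_mono 𝔛 h (hZU k) n)) hcov' _ 0 fun k => ?_
    exact ((hresv v k).trans (φ_span _ _ _ (hv k))).trans (map_zero _).symm
  refine ⟨?_, huniq⟩
  let sf : ∀ k, Γ(G, 𝔛.lvU h n (Z k)) := fun k => φ (Z k) (hZU k) (prv n (Z k) (a k))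
  have hc : TopCat.Presheaf.IsCompatible GS.1 (fun k => 𝔛.lvU h n (Z k)) sf := by
    intro k k'
    refine TopCat.Sheaf.eq_of_locally_eq' GS
      (fun A' : {A' : (𝔛.X 0).Opens // ∃ (h₁ : A' ≤ Z k) (h₂ : A' ≤ Z k'),
        (fun i => rsO 𝔛 h h₁ (a k i) - rsO 𝔛 h h₂ (a k' i)) ∈
          Submodule.span (OR 𝔛 h A') (Set.range fun j => rsv (h₁.trans (hZU k)) (r j))} => 𝔛.lvU h n A'.1)
      (𝔛.lvU h n (Z k) ⊓ 𝔛.lvU h n (Z k'))
      (fun A' => homOfLE (le_inf (lvU_mono 𝔛 h A'.2.choose n) (lvU_mono 𝔛 h A'.2.choose_spec.choose n)))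
      (fun x hx => ?_) _ _ fun A' => ?_
    · obtain ⟨A', h₁, h₂, hxA, hd⟩ := hcomp k k' _ hx
      exact Opens.mem_iSup.2 ⟨⟨A', h₁, h₂, hd⟩, hxA⟩
    · obtain ⟨A', hA'⟩ := A'
      obtain ⟨h₁, h₂, hd⟩ := hA'
      refine (CohBase.restr_trans G _ _ (sf k)).trans (Eq.trans ?_ (CohBase.restr_trans G _ _ (sf k')).symm)
      refine (φ_res (Z k) (hZU k) A' h₁ _).trans (Eq.trans ?_ (φ_res (Z k') (hZU k') A' h₂ _).symm)
      rw [← sub_eq_zero]
      refine Eq.trans ?_ (φ_span A' (h₁.trans (hZU k)) _ (prv_mem_spanL n hd))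
      show ∑ i, _ • res A' (h₁.trans (hZU k)) (nv i) - ∑ i, _ • res A' (h₂.trans (hZU k')) (nv i) =
        ∑ i, _ • res A' (h₁.trans (hZU k)) (nv i)
      rw [← Finset.sum_sub_distrib]
      refine Finset.sum_congr rfl fun i _ => ?_
      rw [← sub_smul]
      refine congrArg (· • res A' (h₁.trans (hZU k)) (nv i)) ?_
      show _ = pr 𝔛 h A' n (rsO 𝔛 h h₁ (a k i) - rsO 𝔛 h h₂ (a k' i))
      rw [map_sub, pr_rsO, pr_rsO]
  obtain ⟨g, hg, -⟩ := TopCat.Sheaf.existsUnique_gluing' GS _ Un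
    (fun k => homOfLE (lvU_mono 𝔛 h (hZU k) n)) hcov' sf hc
  obtain ⟨w, hw⟩ := e.surjective g
  obtain ⟨d, rfl⟩ := Submodule.Quotient.mk_surjective Q w
  choose v hv using fun i => pr_surjective (h := h) hL hU n (d i)
  refine ⟨v, fun k => φ_ker _ _ (hZ k) _ ?_⟩
  have h1 : φ (Z k) (hZU k) (prv n (Z k) (rsv (hZU k) v)) = sf k := by
    refine (hresv v k).symm.trans (Eq.trans ?_ (hg k))
    show res (Z k) (hZU k) _ = res (Z k) (hZU k) g
    rw [← hw, ← hcomb]
    simp only [hv]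
  show ∑ i, pr 𝔛 h (Z k) n ((rsv (hZU k) v - a k) i) • res (Z k) (hZU k) (nv i) = 0
  simp only [Pi.sub_apply, map_sub, sub_smul, Finset.sum_sub_distrib]
  exact sub_eq_zero.2 h1

include hZ hcov in
/-- Compatible vectors glue modulo the relations. -/
theorem exists_glue (hL : 𝔛.IsLocNoethFormal) (hU : IsAffineOpen U)
    (hcomp : ∀ k k', ∀ x ∈ Z k ⊓ Z k', ∃ (A' : (𝔛.X 0).Opens) (h₁ : A' ≤ Z k) (h₂ : A' ≤ Z k'), x ∈ A' ∧
      (fun i => rsO 𝔛 h h₁ (a k i) - rsO 𝔛 h h₂ (a k' i)) ∈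
        Submodule.span (OR 𝔛 h A') (Set.range fun j => rsv (h₁.trans (hZU k)) (r j))) :
    ∃ v : ι → OR 𝔛 h U, ∀ k, rsv (hZU k) v - a k ∈
      Submodule.span (OR 𝔛 h (Z k)) (Set.range fun j => rsv (hZU k) (r j)) := by
  classical
  let P : ℕ → (ι → OR 𝔛 h U) → Prop := fun n v => ∀ k, prv n (Z k) (rsv (hZU k) v - a k) ∈ spanL r n (hZU k)
  have hdown : ∀ n v, P (n + 1) v → P n v := fun n v hv k => by
    have := tr_mem_spanL (hv k)
    simp only [prv, tr_pr] at this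
    exact this
  have hex : ∀ n (w : ι → OR 𝔛 h U), P n w → ∃ w', P (n + 1) w' ∧ prv n U w' = prv n U w := by
    intro n w hw
    obtain ⟨v, hv⟩ := (glue_level hZU hZ hcov hL hU (n + 1) hcomp).1
    have hd : prv n U (v - w) ∈ spanL r n (le_refl U) :=
      (glue_level hZU hZ hcov hL hU n hcomp).2 (v - w) fun k => by
        have e : prv n (Z k) (rsv (hZU k) (v - w)) =
            prv n (Z k) (rsv (hZU k) v - a k) - prv n (Z k) (rsv (hZU k) w - a k) := funext fun i => by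
          simp only [prv, rsv, Pi.sub_apply, map_sub, sub_sub_sub_cancel_right]
        rw [e]
        exact sub_mem (hdown n v hv k) (hw k)
    obtain ⟨q, hq, hqe⟩ := exists_lift_mem_spanL hL hU hd
    refine ⟨v - q, fun k => ?_, funext fun i => ?_⟩
    · have hq' : prv (n + 1) (Z k) (rsv (hZU k) q) ∈ spanL r (n + 1) (hZU k) := by
        refine prv_mem_spanL (n + 1) ?_
        clear hqe
        induction hq using Submodule.span_induction with
        | mem y hy =>
          obtain ⟨j, rfl⟩ := hy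
          refine Submodule.subset_span ⟨j, funext fun i => ?_⟩
          exact (FPLocal.mres_comp (M := FSch.unitF 𝔛 h) (homOfLE (le_refl U)).op (homOfLE (hZU k)).op (r j i) :)
        | zero => rw [show rsv (hZU k) (0 : ι → OR 𝔛 h U) = 0 from funext fun i => map_zero _]; exact zero_mem _
        | add p p' _ _ hp hp' =>
          rw [show rsv (hZU k) (p + p') = rsv (hZU k) p + rsv (hZU k) p' from funext fun i => map_add _ _ _]
          exact add_mem hp hp'
        | smul s p _ hp =>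
          rw [show rsv (hZU k) (s • p) = rsO 𝔛 h (hZU k) s • rsv (hZU k) p from funext fun i => map_mul _ _ _]
          exact Submodule.smul_mem _ _ hp
      have e : prv (n + 1) (Z k) (rsv (hZU k) (v - q) - a k) =
          prv (n + 1) (Z k) (rsv (hZU k) v - a k) - prv (n + 1) (Z k) (rsv (hZU k) q) := funext fun i => by
        simp only [prv, rsv, Pi.sub_apply, map_sub]; ring
      rw [e]
      exact sub_mem (hv k) hq'
    · have h1 := congrFun hqe i
      simp only [prv, Pi.sub_apply, map_sub] at h1 ⊢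
      rw [h1]; ring
  obtain ⟨w0, hw0⟩ := (glue_level hZU hZ hcov hL hU 0 hcomp).1
  choose! next hnext hnext' using hex
  let w : ℕ → (ι → OR 𝔛 h U) := fun n => Nat.rec w0 next n
  have hw : ∀ n, P n (w n) := fun n => by
    induction n with
    | zero => exact hw0
    | succ n ih => exact hnext n (w n) ih
  have hb : ∀ i n, tr 𝔛 h U n (pr 𝔛 h U (n + 1) (w (n + 1) i)) = pr 𝔛 h U n (w n i) := fun i n =>
    (tr_pr 𝔛 h U n _).trans (congrFun (hnext' n (w n) (hw n)) i)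
  choose v hv using fun i => osh_lift (fun n => pr 𝔛 h U n (w n i)) (hb i)
  refine ⟨v, fun k => ?_⟩
  haveI := noetherian (h := h) hL (hZ k)
  refine mem_of_forall_mem_sup (II_le_jacobson hL (hZ k)) _ fun n => ?_
  have hn : prv n (Z k) (rsv (hZU k) v - a k) ∈ spanL r n (hZU k) := by
    have e : prv n (Z k) (rsv (hZU k) v - a k) = prv n (Z k) (rsv (hZU k) (w n) - a k) := funext fun i => by
      simp only [prv, rsv, Pi.sub_apply, map_sub, pr_rsO, hv]
    rw [e]
    exact hw n k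
  obtain ⟨d, hd, hde⟩ := exists_lift_mem_spanL hL (hZ k) hn
  refine Submodule.mem_sup.2 ⟨d, hd, rsv (hZU k) v - a k - d, ?_, by abel⟩
  have hker : ∀ i, (rsv (hZU k) v - a k - d) i ∈ II 𝔛 h (Z k) ^ n := fun i => by
    refine Ideal.pow_le_pow_right (Nat.le_succ n) ?_
    rw [← ker_pr hL (hZ k) n, RingHom.mem_ker]
    show pr 𝔛 h (Z k) n ((rsv (hZU k) v - a k) i - d i) = 0
    rw [map_sub, sub_eq_zero]
    exact (congrFun hde i).symm
  rw [← Finset.univ_sum_single (rsv (hZU k) v - a k - d)]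
  refine Submodule.sum_mem _ fun i _ => ?_
  rw [show Pi.single i ((rsv (hZU k) v - a k - d) i) =
    (rsv (hZU k) v - a k - d) i • (Pi.single i (1 : OR 𝔛 h (Z k)) : ι → OR 𝔛 h (Z k)) by
    rw [← Pi.single_smul, smul_eq_mul, mul_one]]
  exact Submodule.smul_mem_smul (hker i) trivial

end Groth.Agent.FCompl
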