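import Groth.Agent.FComplLib.Completion
import Groth.Agent.CompFlatLib.Scheme

/-!
# Exactness of completion of coherent modules
-/

set_option autoImplicit false
set_option linter.style.haveILetI false
set_option backward.isDefEq.respectTransparency false
set_option backward.isDefEq.respectTransparency.types false
universe u

open CategoryTheory CategoryTheory.Limits AlgebraicGeometry TopologicalSpace Opposite

noncomputable section

namespace Groth.Agent.FCompl

variable (X : Scheme.{u}) [IsLocallyNoetherian X] (𝓘 : X.IdealSheafData) (h : (FSch.completionAlong X 𝓘).IsFormal)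

theorem realModMap_shortExact (S : ShortComplex X.Modules) (hS : S.ShortExact)
    (h1 : Coh.IsCoh S.X₁) (h2 : Coh.IsCoh S.X₂) (h3 : Coh.IsCoh S.X₃) :
    FSch.ModSys.realModMap h (FSch.complModMap 𝓘 S.f) ≫ FSch.ModSys.realModMap h (FSch.complModMap 𝓘 S.g) = 0 ∧
      ∀ w : FSch.ModSys.realModMap h (FSch.complModMap 𝓘 S.f) ≫ FSch.ModSys.realModMap h (FSch.complModMap 𝓘 S.g) = 0,
        (ShortComplex.mk _ _ w).ShortExact := by
  let g := FSch.toSchemeMor (FSch.completionAlong X 𝓘) h (FSch.completionToX X 𝓘) (FSch.completionToX_comm X 𝓘)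
  haveI : PreservesFiniteLimits g.pull := CompFlat.completion_flat X 𝓘 h
  haveI : g.pull.IsLeftAdjoint := g.adj.isLeftAdjoint
  haveI : g.pull.Additive := g.adj.left_adjoint_additive
  haveI : g.pull.PreservesZeroMorphisms := Functor.preservesZeroMorphisms_of_additive _
  haveI := complCmp_isIso X 𝓘 h S.X₁ h1
  haveI := complCmp_isIso X 𝓘 h S.X₂ h2
  haveI := complCmp_isIso X 𝓘 h S.X₃ h3
  have e1 := complCmp_natural X 𝓘 h S.f
  have e2 := complCmp_natural X 𝓘 h S.g
  have hw : FSch.ModSys.realModMap h (FSch.complModMap 𝓘 S.f) ≫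
      FSch.ModSys.realModMap h (FSch.complModMap 𝓘 S.g) = 0 := by
    rw [← cancel_epi (complCmp X 𝓘 h S.X₁), comp_zero, ← Category.assoc, ← e1, Category.assoc, ← e2,
      ← Category.assoc, ← Functor.map_comp, S.zero, Functor.map_zero, zero_comp]
  refine ⟨hw, fun w => ?_⟩
  exact ShortComplex.shortExact_of_iso
    (ShortComplex.isoMk (S₁ := S.map g.pull) (S₂ := ShortComplex.mk _ _ w)
      (asIso (complCmp X 𝓘 h S.X₁)) (asIso (complCmp X 𝓘 h S.X₂)) (asIso (complCmp X 𝓘 h S.X₃))
      e1.symm e2.symm) (hS.map_of_exact g.pull)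

end Groth.Agent.FCompl
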