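import Groth.Agent.FComplLib.CechQC

/-!
# Extensions of quasi-coherent modules
-/

set_option autoImplicit false
set_option linter.style.haveILetI false
set_option linter.unusedVariables false
set_option backward.isDefEq.respectTransparency false
set_option backward.isDefEq.respectTransparency.types false
set_option maxHeartbeats 4000000
universe u

open CategoryTheory CategoryTheory.Limits AlgebraicGeometry TopologicalSpace Opposite

noncomputable section

namespace Groth.Agent.FCompl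

variable {𝔛 : FSch.Sys.{u}} {h : 𝔛.IsFormal} {M F G : FSch.ModF 𝔛 h} (ιK : M ⟶ F) (π : F ⟶ G)
  {U V V' : (𝔛.X 0).Opens} (D : RelData M V) (D'' : RelData G V') (hUV : U ≤ V) (hUV' : U ≤ V')
  (T : D''.I → F.val.obj (op U))

/-- The generators of an extension. -/
def extGen : D.I ⊕ D''.I → F.val.obj (op U) :=
  Sum.elim (fun i => (ιK.val.app (op U)).hom (FPLocal.mres M (homOfLE hUV).op (D.t i))) T

lemma extGen_inl {W : (𝔛.X 0).Opens} (g : W ⟶ U) (i : D.I) :
    FPLocal.mres F g.op (extGen ιK D D'' hUV T (Sum.inl i)) =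
      (ιK.val.app (op W)).hom (FPLocal.mres M (homOfLE ((leOfHom g).trans hUV)).op (D.t i)) := by
  show FPLocal.mres F g.op ((ιK.val.app (op U)).hom _) = _
  rw [← FPLocal.app_mres, ← FPLocal.mres_comp]
  rfl

lemma extGen_inr {W : (𝔛.X 0).Opens} (g : W ⟶ U)
    (hT : ∀ j, (π.val.app (op U)).hom (T j) = FPLocal.mres G (homOfLE hUV').op (D''.t j)) (j : D''.I) :
    (π.val.app (op W)).hom (FPLocal.mres F g.op (extGen ιK D D'' hUV T (Sum.inr j))) =
      FPLocal.mres G (homOfLE ((leOfHom g).trans hUV')).op (D''.t j) := by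
  show (π.val.app (op W)).hom (FPLocal.mres F g.op (T j)) = _
  rw [FPLocal.app_mres, hT, ← FPLocal.mres_comp]
  rfl

variable (hzero : ιK ≫ π = 0)
  (hexact : ∀ (W : (𝔛.X 0).Opens) (y : F.val.obj (op W)), (π.val.app (op W)).hom y = 0 →
    ∃ w, (ιK.val.app (op W)).hom w = y)
  (hT : ∀ j, (π.val.app (op U)).hom (T j) = FPLocal.mres G (homOfLE hUV').op (D''.t j))

include hexact hT in
theorem genFin_extension : GenFin F (extGen ιK D D'' hUV T) := by
  classical
  refine genFin_of_family fun W g m => ?_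
  refine FPLocal.Locally.bind (D''.gen (g ≫ homOfLE hUV') ((π.val.app (op W)).hom m)) fun Z l ⟨S, a₀, ha⟩ => ?_
  let a : D''.I → OR 𝔛 h Z := a₀
  let y : F.val.obj (op Z) := FPLocal.mres F l.op m -
    ∑ j ∈ S, a j • FPLocal.mres F (l ≫ g).op (extGen ιK D D'' hUV T (Sum.inr j))
  have hy : (π.val.app (op Z)).hom y = 0 := by
    rw [map_sub, map_sum, sub_eq_zero, FPLocal.app_mres, ← ha]
    refine Finset.sum_congr rfl fun j _ => ?_
    rw [map_smul, extGen_inr ιK π D D'' hUV hUV' T (l ≫ g) hT]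
    rfl
  obtain ⟨w, hw⟩ := hexact Z y hy
  refine (D.gen (l ≫ g ≫ homOfLE hUV) w).mono fun Y q hq => ?_
  obtain ⟨S₂, b₀, hb⟩ := hq
  let b : D.I → OR 𝔛 h Y := b₀
  refine ⟨↥S₂ ⊕ ↥S, inferInstance, Sum.map Subtype.val Subtype.val,
    Sum.elim (fun i => b i.1) (fun j => rsO 𝔛 h (leOfHom q) (a j.1)), ?_⟩
  rw [Fintype.sum_sum_type]
  have e := congrArg (ιK.val.app (op Y)).hom hb
  rw [map_sum, FPLocal.app_mres, hw] at e
  have e' : FPLocal.mres F q.op y = FPLocal.mres F (q ≫ l).op m -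
      ∑ j ∈ S, rsO 𝔛 h (leOfHom q) (a j) • FPLocal.mres F ((q ≫ l) ≫ g).op (extGen ιK D D'' hUV T (Sum.inr j)) := by
    rw [map_sub, map_sum, ← FPLocal.mres_comp]
    refine congr_arg₂ (· - ·) rfl (Finset.sum_congr rfl fun j _ => ?_)
    rw [show q = homOfLE (leOfHom q) from rfl, mres_smul', ← FPLocal.mres_comp]
    rfl
  rw [e', eq_sub_iff_add_eq] at e
  refine Eq.trans ?_ e
  refine congr_arg₂ (· + ·) ?_ (Finset.sum_coe_sort S fun j => rsO 𝔛 h (leOfHom q) (a j) •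
    FPLocal.mres F ((q ≫ l) ≫ g).op (extGen ιK D D'' hUV T (Sum.inr j)))
  rw [← Finset.sum_coe_sort S₂]
  refine Finset.sum_congr rfl fun i _ => ?_
  rw [map_smul]
  exact congrArg (b i.1 • ·) (extGen_inl ιK D D'' hUV T _ i.1)

include hzero hexact hT in
theorem relFin_extension [Mono ιK] (hL : 𝔛.IsLocNoethFormal) (hU : IsAffineOpen U) :
    RelFin F (extGen ιK D D'' hUV T) := by
  classical
  choose Sl hSl0 hSl using fun k : D.K => exists_support D hU hUV k
  choose Sk hSk0 hSk using fun k : D''.K => exists_support D'' hU hUV' k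
  have hker : ∀ k, ∃ κ : M.val.obj (op U), (ιK.val.app (op U)).hom κ =
      ∑ j ∈ Sk k, rsO 𝔛 h hUV' (D''.r k j) • T j := fun k => by
    refine hexact U _ ?_
    rw [map_sum]
    exact Eq.trans (Finset.sum_congr rfl fun j _ => (map_smul _ _ _).trans (congrArg (_ • ·) (hT j))) (hSk k)
  choose κ hκ using hker
  choose Sa α hα0 hα using fun k => exists_eq_sum hL D hU hUV (κ k)
  have hrel1 : ∀ k, ∑ x ∈ (Sl k).disjSum ∅, (Sum.elim (fun i => rsO 𝔛 h hUV (D.r k i)) 0 : D.I ⊕ D''.I → OR 𝔛 h U) x •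
      extGen ιK D D'' hUV T x = 0 := fun k => by
    rw [Finset.sum_disjSum, Finset.sum_empty, add_zero]
    have e := congrArg (ιK.val.app (op U)).hom (hSl k)
    rw [map_sum, map_zero] at e
    exact Eq.trans (Finset.sum_congr rfl fun j _ => (map_smul _ _ _).symm) e
  have hrel1' : ∀ k, ∀ x ∉ (Sl k).disjSum (∅ : Finset D''.I),
      (Sum.elim (fun i => rsO 𝔛 h hUV (D.r k i)) 0 : D.I ⊕ D''.I → OR 𝔛 h U) x = 0 := fun k x hx => by
    rcases x with i | j
    · exact hSl0 k i fun hc => hx (Finset.inl_mem_disjSum.2 hc)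
    · rfl
  have hrel2 : ∀ k, ∑ x ∈ (Sa k).disjSum (Sk k),
      (Sum.elim (fun i => - α k i) (fun j => rsO 𝔛 h hUV' (D''.r k j)) : D.I ⊕ D''.I → OR 𝔛 h U) x •
      extGen ιK D D'' hUV T x = 0 := fun k => by
    rw [Finset.sum_disjSum]
    show (∑ i ∈ Sa k, (- α k i) • (ιK.val.app (op U)).hom (FPLocal.mres M (homOfLE hUV).op (D.t i))) +
      ∑ j ∈ Sk k, rsO 𝔛 h hUV' (D''.r k j) • T j = 0
    have e := congrArg (ιK.val.app (op U)).hom (hα k)
    rw [map_sum, hκ k] at e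
    rw [← e, ← Finset.sum_add_distrib]
    refine Finset.sum_eq_zero fun i _ => ?_
    rw [map_smul, ← add_smul, neg_add_cancel, zero_smul]
  have hrel2' : ∀ k, ∀ x ∉ (Sa k).disjSum (Sk k),
      (Sum.elim (fun i => - α k i) (fun j => rsO 𝔛 h hUV' (D''.r k j)) : D.I ⊕ D''.I → OR 𝔛 h U) x = 0 := fun k x hx => by
    rcases x with i | j
    · exact neg_eq_zero.2 (hα0 k i fun hc => hx (Finset.inl_mem_disjSum.2 hc))
    · exact hSk0 k j fun hc => hx (Finset.inr_mem_disjSum.2 hc)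
  refine relFin_of_family fun W g S d hd0 hd => ?_
  let dl : D.I → OR 𝔛 h W := fun i => d (Sum.inl i)
  let dr : D''.I → OR 𝔛 h W := fun j => d (Sum.inr j)
  have hsum : ∑ i ∈ S.toLeft, dl i • FPLocal.mres F g.op (extGen ιK D D'' hUV T (Sum.inl i)) +
      ∑ j ∈ S.toRight, dr j • FPLocal.mres F g.op (extGen ιK D D'' hUV T (Sum.inr j)) = 0 := by
    have e := hd
    rw [← Finset.toLeft_disjSum_toRight (u := S), Finset.sum_disjSum] at e
    exact e
  have hdr : ∑ j ∈ S.toRight, dr j • FPLocal.mres G (g ≫ homOfLE hUV').op (D''.t j) = 0 := by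
    have e := congrArg (π.val.app (op W)).hom hsum
    rw [map_add, map_zero, map_sum, map_sum, Finset.sum_eq_zero (s := S.toLeft) fun i _ => by
      rw [map_smul, extGen_inl]
      exact (congrArg (dl i • ·) (congrArg (fun f : M ⟶ G => (f.val.app (op W)).hom _) hzero)).trans (smul_zero _),
      zero_add] at e
    refine Eq.trans (Finset.sum_congr rfl fun j _ => ?_) e
    rw [map_smul, extGen_inr ιK π D D'' hUV hUV' T g hT]
    rfl
  refine FPLocal.Locally.bind (D''.complete (g ≫ homOfLE hUV') S.toRight dr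
    (fun j hj => hd0 _ fun hc => hj (Finset.mem_toRight.2 hc)) hdr) fun Z l ⟨T₀, e₀, he⟩ => ?_
  let e : D''.K → OR 𝔛 h Z := e₀
  have hZW : Z ≤ W := leOfHom l
  have hZU : Z ≤ U := hZW.trans (leOfHom g)
  have he' : ∀ j, ∑ k ∈ T₀, e k * rsO 𝔛 h hZU (rsO 𝔛 h hUV' (D''.r k j)) = rsO 𝔛 h hZW (dr j) := fun j => by
    simp only [rsO_rsO]
    exact he j
  let d₂ : D.I → OR 𝔛 h Z := fun i => rsO 𝔛 h hZW (dl i) + ∑ k ∈ T₀, e k * rsO 𝔛 h hZU (α k i)
  let J2 : Finset D.I := S.toLeft ∪ T₀.biUnion Sa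
  let J3 : Finset D''.I := S.toRight ∪ T₀.biUnion Sk
  have hd₂0 : ∀ i ∉ J2, d₂ i = 0 := fun i hi => by
    show rsO 𝔛 h hZW (d (Sum.inl i)) + _ = 0
    rw [hd0 _ fun hc => hi (Finset.mem_union_left _ (Finset.mem_toLeft.2 hc)), map_zero, zero_add]
    refine Finset.sum_eq_zero fun k hk => ?_
    rw [hα0 k i fun hc => hi (Finset.mem_union_right _ (Finset.mem_biUnion.2 ⟨k, hk, hc⟩)), map_zero, mul_zero]
  have hd₂ : ∑ i ∈ J2, d₂ i • FPLocal.mres M (homOfLE (hZU.trans hUV)).op (D.t i) = 0 := by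
    refine FPLocal.app_injective_of_mono ιK Z ?_
    rw [map_sum, map_zero]
    have h1 : ∀ k ∈ T₀, ∑ i ∈ J2, rsO 𝔛 h hZU (α k i) •
        (ιK.val.app (op Z)).hom (FPLocal.mres M (homOfLE (hZU.trans hUV)).op (D.t i)) =
        ∑ j ∈ J3, rsO 𝔛 h hZU (rsO 𝔛 h hUV' (D''.r k j)) • FPLocal.mres F (homOfLE hZU).op (T j) := fun k hk => by
      have e1 := congrArg (FPLocal.mres F (homOfLE hZU).op)
        ((congrArg (ιK.val.app (op U)).hom (hα k)).trans (hκ k))
      rw [map_sum, map_sum, map_sum] at e1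
      rw [← Finset.sum_subset (fun i hi => Finset.mem_union_right _ (Finset.mem_biUnion.2 ⟨k, hk, hi⟩) : Sa k ⊆ J2)
          fun i _ hi => by rw [hα0 k i hi, map_zero, zero_smul],
        ← Finset.sum_subset (fun i hi => Finset.mem_union_right _ (Finset.mem_biUnion.2 ⟨k, hk, hi⟩) : Sk k ⊆ J3)
          fun i _ hi => by rw [hSk0 k i hi, map_zero, zero_smul]]
      refine Eq.trans (Finset.sum_congr rfl fun i _ => ?_) (e1.trans (Finset.sum_congr rfl fun j _ => mres_smul' hZU _ _))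
      rw [map_smul, mres_smul', ← FPLocal.app_mres, ← FPLocal.mres_comp]
      rfl
    have h2 : ∑ i ∈ J2, rsO 𝔛 h hZW (dl i) • (ιK.val.app (op Z)).hom (FPLocal.mres M (homOfLE (hZU.trans hUV)).op (D.t i)) +
        ∑ j ∈ J3, rsO 𝔛 h hZW (dr j) • FPLocal.mres F (homOfLE hZU).op (T j) = 0 := by
      rw [← Finset.sum_subset (Finset.subset_union_left : S.toLeft ⊆ J2) fun i _ hi => by
          rw [show dl i = 0 from hd0 _ fun hc => hi (Finset.mem_toLeft.2 hc), map_zero, zero_smul],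
        ← Finset.sum_subset (Finset.subset_union_left : S.toRight ⊆ J3) fun i _ hi => by
          rw [show dr i = 0 from hd0 _ fun hc => hi (Finset.mem_toRight.2 hc), map_zero, zero_smul]]
      have e2 := congrArg (FPLocal.mres F (homOfLE hZW).op) hsum
      rw [map_add, map_zero, map_sum, map_sum] at e2
      refine Eq.trans ?_ e2
      refine congr_arg₂ (· + ·) (Finset.sum_congr rfl fun i _ => ?_) (Finset.sum_congr rfl fun j _ => ?_)
      · rw [mres_smul', ← FPLocal.mres_comp]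
        exact congrArg (rsO 𝔛 h hZW (dl i) • ·) (extGen_inl ιK D D'' hUV T (homOfLE hZU) i).symm
      · rw [mres_smul', ← FPLocal.mres_comp]
        rfl
    refine Eq.trans ?_ h2
    rw [Finset.sum_congr rfl fun i _ => map_smul (ιK.val.app (op Z)).hom (d₂ i) _]
    simp only [d₂, add_smul, Finset.sum_add_distrib, Finset.sum_smul]
    refine congrArg (_ + ·) ?_
    rw [Finset.sum_comm, Finset.sum_congr rfl fun j _ => congrArg (· • FPLocal.mres F (homOfLE hZU).op (T j)) (he' j).symm]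
    simp only [Finset.sum_smul]
    rw [Finset.sum_comm (s := J3)]
    refine Finset.sum_congr rfl fun k hk => ?_
    simp only [mul_smul, ← Finset.smul_sum]
    rw [h1 k hk]
  refine (D.complete (homOfLE (hZU.trans hUV)) J2 d₂ hd₂0 hd₂).mono fun Y q hq => ?_
  obtain ⟨T₁, e₁, he₁⟩ := hq
  let e' : D.K → OR 𝔛 h Y := e₁
  have hYU : Y ≤ U := (leOfHom q).trans hZU
  refine ⟨↥T₁ ⊕ ↥T₀, inferInstance, Sum.elim (fun k => e' k.1) (fun k => rsO 𝔛 h (leOfHom q) (e k.1)),
    Sum.elim (fun k => mkFinRel _ ((Sl k.1).disjSum ∅) _ (hrel1' k.1) (hrel1 k.1))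
      (fun k => mkFinRel _ ((Sa k.1).disjSum (Sk k.1)) _ (hrel2' k.1) (hrel2 k.1)), fun x => ?_⟩
  rw [Fintype.sum_sum_type]
  rcases x with i | j
  · show ∑ k : ↥T₁, e' k.1 * rsO 𝔛 h hYU (rsO 𝔛 h hUV (D.r k.1 i)) +
        ∑ k : ↥T₀, rsO 𝔛 h (leOfHom q) (e k.1) * rsO 𝔛 h hYU (- α k.1 i) =
      rsO 𝔛 h ((leOfHom q).trans hZW) (dl i)
    have h3 : ∑ k ∈ T₁, e' k * rsO 𝔛 h ((leOfHom q).trans (hZU.trans hUV)) (D.r k i) =
        rsO 𝔛 h (leOfHom q) (d₂ i) := he₁ i
    simp only [rsO_rsO, map_neg, mul_neg, Finset.sum_neg_distrib]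
    rw [Finset.sum_coe_sort T₁ fun k => e' k * rsO 𝔛 h ((leOfHom q).trans (hZU.trans hUV)) (D.r k i),
      Finset.sum_coe_sort T₀ fun k => rsO 𝔛 h (leOfHom q) (e k) * rsO 𝔛 h hYU (α k i), h3]
    simp only [d₂, map_add, map_sum, map_mul, rsO_rsO]
    exact add_neg_cancel_right _ _
  · show ∑ k : ↥T₁, e' k.1 * rsO 𝔛 h hYU 0 +
        ∑ k : ↥T₀, rsO 𝔛 h (leOfHom q) (e k.1) * rsO 𝔛 h hYU (rsO 𝔛 h hUV' (D''.r k.1 j)) =
      rsO 𝔛 h ((leOfHom q).trans hZW) (dr j)
    simp only [map_zero, mul_zero, Finset.sum_const_zero, zero_add]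
    rw [← rsO_rsO hZW (leOfHom q), ← he' j, map_sum, ← Finset.sum_coe_sort T₀]
    refine Finset.sum_congr rfl fun k _ => ?_
    rw [map_mul, rsO_rsO hZU (leOfHom q)]

/-- Extensions of quasi-coherent modules are quasi-coherent. -/
theorem isQuasicoherent_extension (hL : 𝔛.IsLocNoethFormal) [Epi π] [SheafOfModules.IsQuasicoherent.{u} (kernel π)]
    [SheafOfModules.IsQuasicoherent.{u} G] : SheafOfModules.IsQuasicoherent.{u} F := by
  refine isQuasicoherent_of_genFin F fun W =>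
    ⟨{ arrows := fun Z _ => ∃ (U : (𝔛.X 0).Opens) (_ : Z ⟶ U) (I : Type u) (t : I → F.val.obj (op U)),
        GenFin F t ∧ RelFin F t
       downward_closed := fun {Y Z} _ ⟨U, f, hU⟩ k => ⟨U, k ≫ f, hU⟩ }, fun x hx => ?_, fun Z g hg => hg⟩
  obtain ⟨V, hVW, hxV, ⟨D⟩⟩ := exists_relData (𝔉 := kernel π) hx
  obtain ⟨V', hV'V, hxV', ⟨D''⟩⟩ := exists_relData (𝔉 := G) hxV
  obtain ⟨U, hU, hxU, hUV'⟩ := exists_affine_le (𝔛 := 𝔛) hxV'
  have hUV := hUV'.trans hV'V
  choose T hT using fun j => exists_lift_section π hL D hU hUV (FPLocal.mres G (homOfLE hUV').op (D''.t j))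
  have hex : ∀ (W : (𝔛.X 0).Opens) (y : F.val.obj (op W)), (π.val.app (op W)).hom y = 0 →
      ∃ w, ((kernel.ι π).val.app (op W)).hom w = y := fun W y hy => FPLocal.exists_kernel_preimage π y hy
  exact ⟨U, homOfLE (hUV.trans hVW), ⟨U, 𝟙 U, _, _,
    genFin_extension (kernel.ι π) π D D'' hUV hUV' T hex hT,
    relFin_extension (kernel.ι π) π D D'' hUV hUV' T (kernel.condition π) hex hT hL hU⟩, hxU⟩

/-- The middle term of an exact sequence of five modules is quasi-coherent. -/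
theorem isQuasicoherent_five (hL : 𝔛.IsLocNoethFormal) {A B M C E : FSch.ModF 𝔛 h} (f : A ⟶ B) (g : B ⟶ M) (k : M ⟶ C)
    (l : C ⟶ E) (hfg : f ≫ g = 0) (hgk : g ≫ k = 0) (hkl : k ≫ l = 0) (e₁ : (ShortComplex.mk f g hfg).Exact)
    (e₂ : (ShortComplex.mk g k hgk).Exact) (e₃ : (ShortComplex.mk k l hkl).Exact)
    [SheafOfModules.IsQuasicoherent.{u} A] [SheafOfModules.IsQuasicoherent.{u} B]
    [SheafOfModules.IsQuasicoherent.{u} C] [SheafOfModules.IsQuasicoherent.{u} E] :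
    SheafOfModules.IsQuasicoherent.{u} M := by
  let kk : M ⟶ kernel l := kernel.lift l k hkl
  haveI : Epi kk := e₃.epi_kernelLift
  let q : cokernel f ⟶ M := cokernel.desc f g hfg
  haveI : Mono q := e₁.mono_cokernelDesc
  have hq : q ≫ kk = 0 := coequalizer.hom_ext (equalizer.hom_ext (by simp [q, kk, hgk]))
  let S : ShortComplex (FSch.ModF 𝔛 h) := ShortComplex.mk q kk hq
  have hS : S.Exact := by
    let φ : ShortComplex.mk g kk (by rw [← cancel_mono (kernel.ι l)]; simp [kk, hgk]) ⟶ S :=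
      { τ₁ := cokernel.π f, τ₂ := 𝟙 M, τ₃ := 𝟙 _ }
    rw [← ShortComplex.exact_iff_of_epi_of_isIso_of_mono φ]
    let ψ : ShortComplex.mk g kk (by rw [← cancel_mono (kernel.ι l)]; simp [kk, hgk]) ⟶ ShortComplex.mk g k hgk :=
      { τ₁ := 𝟙 _, τ₂ := 𝟙 M, τ₃ := kernel.ι l }
    rw [ShortComplex.exact_iff_of_epi_of_isIso_of_mono ψ]
    exact e₂
  haveI := isQuasicoherent_kernel l hL
  haveI := isQuasicoherent_cokernel f hL
  haveI : Mono S.f := (inferInstance : Mono q)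
  let iso : cokernel f ≅ kernel kk := (IsLimit.conePointUniqueUpToIso hS.fIsKernel (kernelIsKernel S.g) :)
  haveI : SheafOfModules.IsQuasicoherent.{u} (kernel kk) :=
    (SheafOfModules.isQuasicoherent.{u} (ModSite.ringSh (𝔛.Osh h))).prop_of_iso iso inferInstance
  exact isQuasicoherent_extension kk hL

end Groth.Agent.FCompl
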