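import Groth.Agent.FComplLib.Ind5

/-!
# Coherent modules are finitely presentable on a Noetherian formal scheme
-/

set_option autoImplicit false
set_option linter.style.haveILetI false
set_option linter.unusedVariables false
set_option backward.isDefEq.respectTransparency false
set_option backward.isDefEq.respectTransparency.types false
set_option maxHeartbeats 4000000
universe u

open CategoryTheory CategoryTheory.Limits AlgebraicGeometry TopologicalSpace Opposite

noncomputable section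

namespace Groth.Agent.FCompl

variable {𝔛 : FSch.Sys.{u}} {h : 𝔛.IsFormal} {J : Type u} [SmallCategory J] [IsFiltered J]
  {D : J ⥤ FSch.ModF 𝔛 h} {c : Cocone D} (hc : IsColimit c)

/-- Push a section forward in the system. -/
abbrev pushSec {i j : J} (f : i ⟶ j) {U : (𝔛.X 0).Opens} (y : (D.obj i).val.obj (op U)) :
    (D.obj j).val.obj (op U) :=
  ((D.map f).val.app (op U)).hom y

/-- The class of a section in the colimit. -/
abbrev clSec (c : Cocone D) {i : J} {U : (𝔛.X 0).Opens} (y : (D.obj i).val.obj (op U)) : c.pt.val.obj (op U) :=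
  ((c.ι.app i).val.app (op U)).hom y

lemma clSec_push (c : Cocone D) {i j : J} (f : i ⟶ j) {U : (𝔛.X 0).Opens} (y : (D.obj i).val.obj (op U)) :
    clSec c (pushSec f y) = clSec c y :=
  congrArg (fun φ : D.obj i ⟶ c.pt => (φ.val.app (op U)).hom y) (c.w f)

lemma pushSec_push {i j k : J} (f : i ⟶ j) (g : j ⟶ k) {U : (𝔛.X 0).Opens} (y : (D.obj i).val.obj (op U)) :
    pushSec g (pushSec f y) = pushSec (f ≫ g) y :=
  (congrArg (fun φ : D.obj i ⟶ D.obj k => (φ.val.app (op U)).hom y) (D.map_comp f g)).symm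

include hc in
/-- Equality in the colimit over a compact open holds in the system. -/
theorem exists_push_eq {U : (𝔛.X 0).Opens} (hU : IsCompact (U : Set (𝔛.X 0))) {i j : J}
    (y : (D.obj i).val.obj (op U)) (z : (D.obj j).val.obj (op U)) (e : clSec c y = clSec c z) :
    ∃ (k : J) (f : i ⟶ k) (g : j ⟶ k), pushSec f y = pushSec g z := by
  classical
  obtain ⟨ι, hι, W, g, hcov, hW⟩ := FPLocal.exists_finite_cover hU fun x hx =>
    (FPLocal.locally_eq_of_app_eq hc y z e).near hx
  choose k f f' hk using hW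
  obtain ⟨k₀, f₀, f₀', -⟩ : ∃ k₀ : J, ∃ (_ : i ⟶ k₀) (_ : j ⟶ k₀), True :=
    ⟨_, IsFiltered.leftToMax i j, IsFiltered.rightToMax i j, trivial⟩
  let H : Finset (Σ' (X Y : J) (_ : X ∈ insert i (insert j (insert k₀ (Finset.univ.image k))))
      (_ : Y ∈ insert i (insert j (insert k₀ (Finset.univ.image k)))), X ⟶ Y) :=
    Finset.univ.image (fun a => ⟨i, k a, Finset.mem_insert_self _ _, Finset.mem_insert_of_mem
      (Finset.mem_insert_of_mem (Finset.mem_insert_of_mem (Finset.mem_image_of_mem k (Finset.mem_univ a)))), f a⟩) ∪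
    Finset.univ.image (fun a => ⟨j, k a, Finset.mem_insert_of_mem (Finset.mem_insert_self _ _), Finset.mem_insert_of_mem
      (Finset.mem_insert_of_mem (Finset.mem_insert_of_mem (Finset.mem_image_of_mem k (Finset.mem_univ a)))), f' a⟩)
  obtain ⟨K, T, hT⟩ := IsFiltered.sup_exists (insert i (insert j (insert k₀ (Finset.univ.image k)))) H
  refine ⟨K, T (Finset.mem_insert_self _ _), T (Finset.mem_insert_of_mem (Finset.mem_insert_self _ _)),
    FPLocal.eq_of_cover (D.obj K) W g hcov fun a => ?_⟩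
  show rsF _ (leOfHom (g a)) _ = rsF _ (leOfHom (g a)) _
  rw [pushSec, pushSec, ← app_rsF, ← app_rsF]
  have e1 := congrArg (pushSec (T (Finset.mem_insert_of_mem (Finset.mem_insert_of_mem
    (Finset.mem_insert_of_mem (Finset.mem_image_of_mem k (Finset.mem_univ a))))))) (hk a)
  have t1 := hT (Finset.mem_insert_self i _) _
    (Finset.mem_union_left _ (Finset.mem_image_of_mem _ (Finset.mem_univ a)))
  have t2 := hT (Finset.mem_insert_of_mem (Finset.mem_insert_self j _)) _
    (Finset.mem_union_right _ (Finset.mem_image_of_mem _ (Finset.mem_univ a)))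
  rw [pushSec_push, pushSec_push, t1, t2] at e1
  exact e1

include hc in
/-- Finitely many equalities in the colimit hold at one index. -/
theorem exists_push_zero_family {α : Type u} [Finite α] (U : α → (𝔛.X 0).Opens)
    (hU : ∀ a, IsCompact (U a : Set (𝔛.X 0))) {i : J} (y : ∀ a, (D.obj i).val.obj (op (U a)))
    (e : ∀ a, clSec c (y a) = 0) : ∃ (k : J) (f : i ⟶ k), ∀ a, pushSec f (y a) = 0 := by
  classical
  haveI := Fintype.ofFinite α
  suffices H : ∀ S : Finset α, ∃ (k : J) (f : i ⟶ k), ∀ a ∈ S, pushSec f (y a) = 0 by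
    obtain ⟨k, f, hf⟩ := H Finset.univ
    exact ⟨k, f, fun a => hf a (Finset.mem_univ a)⟩
  intro S
  induction S using Finset.induction with
  | empty => exact ⟨i, 𝟙 i, by simp⟩
  | insert a S ha ih =>
    obtain ⟨k, f, hf⟩ := ih
    obtain ⟨l, g, g', hg⟩ := exists_push_eq hc (hU a) (y a) (0 : (D.obj i).val.obj (op (U a)))
      ((e a).trans (map_zero _).symm)
    obtain ⟨m, p, q, hpq⟩ : ∃ (m : J) (p : k ⟶ m) (q : l ⟶ m), f ≫ p = g ≫ q := by
      let m₀ := IsFiltered.max k l
      exact ⟨IsFiltered.coeq (f ≫ IsFiltered.leftToMax k l) (g ≫ IsFiltered.rightToMax k l),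
        IsFiltered.leftToMax k l ≫ IsFiltered.coeqHom _ _, IsFiltered.rightToMax k l ≫ IsFiltered.coeqHom _ _,
        by rw [← Category.assoc, ← Category.assoc, IsFiltered.coeq_condition]⟩
    refine ⟨m, f ≫ p, fun b hb => ?_⟩
    rcases Finset.mem_insert.1 hb with rfl | hb
    · rw [hpq, ← pushSec_push, hg, pushSec, pushSec, map_zero, map_zero]
    · rw [← pushSec_push, hf b hb, pushSec, map_zero]

include hc in
/-- A section of the colimit over a compact open comes from the system. -/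
theorem exists_rep (hL : 𝔛.IsLocNoethFormal) [CompactSpace (𝔛.X 0)] {U : (𝔛.X 0).Opens} (m : c.pt.val.obj (op U)) :
    ∃ (j : J) (y : (D.obj j).val.obj (op U)), clSec c y = m := by
  classical
  obtain ⟨ι, hι, W, g, hcov, hW⟩ := FPLocal.exists_finite_cover (isCompact_opens hL U) fun x hx =>
    (FPLocal.locally_exists_rep hc m).near hx
  choose j y hy using hW
  obtain ⟨k, hk⟩ := IsFiltered.sup_objs_exists (Finset.univ.image j)
  let f : ∀ a, j a ⟶ k := fun a => (hk (Finset.mem_image_of_mem j (Finset.mem_univ a))).some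
  let y' : ∀ a, (D.obj k).val.obj (op (W a)) := fun a => pushSec (f a) (y a)
  have hy' : ∀ a, clSec c (y' a) = rsF _ (leOfHom (g a)) m := fun a => (clSec_push c _ _).trans (hy a)
  obtain ⟨l, q, hq⟩ := exists_push_zero_family hc (α := ι × ι) (fun p => W p.1 ⊓ W p.2)
    (fun p => isCompact_opens hL _) (fun p => rsF _ inf_le_left (y' p.1) - rsF _ inf_le_right (y' p.2)) fun p => by
      rw [clSec, map_sub, app_rsF, app_rsF]
      show rsF _ _ (clSec c (y' p.1)) - rsF _ _ (clSec c (y' p.2)) = 0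
      rw [hy', hy', rsF_rsF, rsF_rsF, sub_self]
  have hsh : TopCat.Presheaf.IsSheaf (C := AddCommGrpCat.{u}) (X := (𝔛.X 0).carrier) (D.obj l).val.presheaf :=
    (D.obj l).isSheaf
  obtain ⟨z, hz, -⟩ := TopCat.Sheaf.existsUnique_gluing'
    (⟨_, hsh⟩ : TopCat.Sheaf AddCommGrpCat.{u} (𝔛.X 0).carrier) W U g
    (fun x hx => Opens.mem_iSup.2 (hcov x hx)) (fun a => pushSec q (y' a)) fun a b => by
      show rsF _ inf_le_left (pushSec q (y' a)) = rsF _ inf_le_right (pushSec q (y' b))
      have e := hq (a, b)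
      rw [pushSec, map_sub, app_rsF, app_rsF, sub_eq_zero] at e
      exact e
  let z' : (D.obj l).val.obj (op U) := z
  refine ⟨l, z', FPLocal.eq_of_cover c.pt W g hcov fun a => ?_⟩
  show rsF c.pt (leOfHom (g a)) (clSec c z') = rsF c.pt (leOfHom (g a)) m
  exact (app_rsF (c.ι.app l) (leOfHom (g a)) z').symm.trans
    ((congrArg ((c.ι.app l).val.app (op (W a))).hom (hz a)).trans ((clSec_push c q _).trans (hy' a)))

include hc in
/-- Finitely many sections come from one index. -/
theorem exists_rep_family (hL : 𝔛.IsLocNoethFormal) [CompactSpace (𝔛.X 0)] {α : Type u} [Finite α]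
    (U : α → (𝔛.X 0).Opens) (m : ∀ a, c.pt.val.obj (op (U a))) :
    ∃ j : J, ∀ a, ∃ y : (D.obj j).val.obj (op (U a)), clSec c y = m a := by
  classical
  haveI := Fintype.ofFinite α
  choose j y hy using fun a => exists_rep hc hL (m a)
  obtain ⟨k, hk⟩ := IsFiltered.sup_objs_exists (Finset.univ.image j)
  refine ⟨k, fun a => ⟨pushSec (hk (Finset.mem_image_of_mem j (Finset.mem_univ a))).some (y a),
    (clSec_push c _ _).trans (hy a)⟩⟩

/-- Finite charts of a coherent module: generators and a finite test for prescribed values. -/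
theorem exists_charts (hL : 𝔛.IsLocNoethFormal) [CompactSpace (𝔛.X 0)] {C : FSch.ModF 𝔛 h}
    (hC : FSch.IsCohF 𝔛 h C) :
    ∃ (A : Type u) (_ : Finite A) (U : A → (𝔛.X 0).Opens) (I : A → Type u) (_ : ∀ a, Fintype (I a))
      (s : ∀ a, I a → C.val.obj (op (U a))) (Q : Type u) (_ : Finite Q) (p p' : Q → A)
      (W : Q → (𝔛.X 0).Opens) (hp : ∀ q, W q ≤ U (p q)) (hp' : ∀ q, W q ≤ U (p' q))
      (d : ∀ q, I (p q) → OR 𝔛 h (W q)) (d' : ∀ q, I (p' q) → OR 𝔛 h (W q)),
      (∀ x : 𝔛.X 0, ∃ a, x ∈ U a) ∧ (∀ a, FPLocal.Gen C (s a)) ∧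
      (∀ q, ∑ i, d q i • rsF C (hp q) (s (p q) i) - ∑ i, d' q i • rsF C (hp' q) (s (p' q) i) = 0) ∧
      ∀ (N : FSch.ModF 𝔛 h) (t : ∀ a, I a → N.val.obj (op (U a))),
        (∀ q, ∑ i, d q i • rsF N (hp q) (t (p q) i) - ∑ i, d' q i • rsF N (hp' q) (t (p' q) i) = 0) →
        Compat s t := by
  classical
  obtain ⟨A, hA, U, gU, hcovU, hUaff⟩ := FPLocal.exists_finite_cover (U := (⊤ : (𝔛.X 0).Opens))
    (P := fun W _ => IsAffineOpen W) (isCompact_opens hL ⊤) fun x hx => by
      obtain ⟨W, hW, hxW, -⟩ := exists_affine_le (𝔛 := 𝔛) hx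
      exact ⟨W, homOfLE le_top, hxW, hW⟩
  choose I K hI hKf s c hs h0 hc' using fun a => hasRels_affine hL hC (hUaff a)
  letI : ∀ a, Fintype (I a) := hI
  have hov : ∀ a b, ∃ (β : Type u) (_ : Fintype β) (W : β → (𝔛.X 0).Opens) (g : ∀ e, W e ⟶ U a ⊓ U b),
      (∀ x ∈ U a ⊓ U b, ∃ e, x ∈ W e) ∧ ∀ e, IsAffineOpen (W e) := fun a b =>
    FPLocal.exists_finite_cover (P := fun W _ => IsAffineOpen W) (isCompact_opens hL _) fun x hx => by
      obtain ⟨W, hW, hxW, hWU⟩ := exists_affine_le (𝔛 := 𝔛) hx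
      exact ⟨W, homOfLE hWU, hxW, hW⟩
  choose β hβ Wc gW hcovW hWaff using hov
  letI : ∀ a b, Fintype (β a b) := hβ
  have hWa : ∀ a b e, Wc a b e ≤ U a := fun a b e => (leOfHom (gW a b e)).trans inf_le_left
  have hWb : ∀ a b e, Wc a b e ≤ U b := fun a b e => (leOfHom (gW a b e)).trans inf_le_right
  let uC : ∀ a b e, I a ⊕ I b → C.val.obj (op (Wc a b e)) := fun a b e =>
    Sum.elim (fun i => rsF C (hWa a b e) (s a i)) fun i => - rsF C (hWb a b e) (s b i)
  choose l cr hcr0 hcr using fun a b e => relComplete_coh hL hC (hWaff a b e) (uC a b e)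
  refine ⟨A, inferInstance, U, I, inferInstance, s,
    Σ a : A, Σ b : A, Σ e : β a b, ULift.{u} (Fin (l a b e)), inferInstance, fun q => q.1, fun q => q.2.1,
    fun q => Wc q.1 q.2.1 q.2.2.1, fun q => hWa _ _ _, fun q => hWb _ _ _,
    fun q i => cr q.1 q.2.1 q.2.2.1 q.2.2.2 (Sum.inl i), fun q i => cr q.1 q.2.1 q.2.2.1 q.2.2.2 (Sum.inr i),
    fun x => hcovU x trivial, hs, fun q => ?_, fun N t ht => ?_⟩
  · have e := hcr0 q.1 q.2.1 q.2.2.1 q.2.2.2
    rw [Fintype.sum_sum_type] at e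
    simp only [uC, Sum.elim_inl, Sum.elim_inr, smul_neg, Finset.sum_neg_distrib, ← sub_eq_add_neg] at e
    exact e
  · intro a b W ha hb d d' hdd'
    refine eq_of_near N fun x hx => ?_
    obtain ⟨e, hxe⟩ := hcovW a b x ⟨ha hx, hb hx⟩
    refine ⟨W ⊓ Wc a b e, inf_le_left, ⟨hx, hxe⟩, ?_⟩
    let d'' : I a ⊕ I b → OR 𝔛 h (W ⊓ Wc a b e) :=
      Sum.elim (fun i => rsO 𝔛 h inf_le_left (d i)) fun i => rsO 𝔛 h inf_le_left (d' i)
    have hzero := eq_zero_of_relComplete (N := N) inf_le_right (cr a b e) (uC a b e)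
      (Sum.elim (fun i => rsF N (hWa a b e) (t a i)) fun i => - rsF N (hWb a b e) (t b i)) (hcr a b e) (fun k => by
        rw [Fintype.sum_sum_type]
        simp only [Sum.elim_inl, Sum.elim_inr, smul_neg, Finset.sum_neg_distrib, ← sub_eq_add_neg]
        exact ht ⟨a, b, e, k⟩) d'' (by
        rw [Fintype.sum_sum_type]
        simp only [d'', uC, Sum.elim_inl, Sum.elim_inr, map_neg, rsF_rsF, smul_neg, Finset.sum_neg_distrib]
        rw [← sub_eq_add_neg, sub_eq_zero, ← rsF_comb C inf_le_left ha, ← rsF_comb C inf_le_left hb]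
        exact congrArg _ hdd')
    rw [Fintype.sum_sum_type] at hzero
    simp only [d'', Sum.elim_inl, Sum.elim_inr, map_neg, rsF_rsF, smul_neg, Finset.sum_neg_distrib] at hzero
    rw [← sub_eq_add_neg, sub_eq_zero] at hzero
    rw [rsF_comb N inf_le_left ha, rsF_comb N inf_le_left hb]
    exact hzero

include hc in
/-- A map from a coherent module to a filtered colimit factors through the system. -/
theorem exists_factor_colimit (hL : 𝔛.IsLocNoethFormal) [CompactSpace (𝔛.X 0)] {C : FSch.ModF 𝔛 h}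
    (hC : FSch.IsCohF 𝔛 h C) (σ : C ⟶ c.pt) : ∃ (j : J) (g : C ⟶ D.obj j), g ≫ c.ι.app j = σ := by
  classical
  obtain ⟨A, _, U, I, _, s, Q, _, p, p', W, hp, hp', d, d', hcov, hs, hrel, hcomp⟩ := exists_charts hL hC
  obtain ⟨j, hj⟩ := exists_rep_family hc hL (α := Σ a, I a) (fun x => U x.1)
    fun x => (σ.val.app (op (U x.1))).hom (s x.1 x.2)
  choose y hy using hj
  let r : ∀ q, (D.obj j).val.obj (op (W q)) := fun q =>
    ∑ i, d q i • rsF _ (hp q) (y ⟨p q, i⟩) - ∑ i, d' q i • rsF _ (hp' q) (y ⟨p' q, i⟩)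
  obtain ⟨k, f, hf⟩ := exists_push_zero_family hc W (fun q => isCompact_opens hL _) r fun q => by
    refine Eq.trans ?_ ((congrArg (σ.val.app (op (W q))).hom (hrel q)).trans (map_zero _))
    simp only [r, clSec, map_sub, map_sum]
    refine congr_arg₂ (· - ·) (Finset.sum_congr rfl fun i _ => ?_) (Finset.sum_congr rfl fun i _ => ?_)
    · rw [map_smul, map_smul, app_rsF σ, ← hy ⟨p q, i⟩]
      exact congrArg (d q i • ·) (app_rsF (c.ι.app j) (hp q) _)
    · rw [map_smul, map_smul, app_rsF σ, ← hy ⟨p' q, i⟩]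
      exact congrArg (d' q i • ·) (app_rsF (c.ι.app j) (hp' q) _)
  obtain ⟨g, hg⟩ := exists_hom_of_gens hcov hs (hcomp (D.obj k) (fun a i => pushSec f (y ⟨a, i⟩)) fun q => by
    refine Eq.trans ?_ (hf q)
    simp only [r, pushSec, map_sub, map_sum]
    refine congr_arg₂ (· - ·) (Finset.sum_congr rfl fun i _ => ?_) (Finset.sum_congr rfl fun i _ => ?_)
    · rw [map_smul]
      exact congrArg (d q i • ·) (app_rsF (D.map f) (hp q) _).symm
    · rw [map_smul]
      exact congrArg (d' q i • ·) (app_rsF (D.map f) (hp' q) _).symm)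
  refine ⟨k, g, hom_ext_of_gens hcov hs fun a i => ?_⟩
  exact (congrArg ((c.ι.app k).val.app (op (U a))).hom (hg a i)).trans ((clSec_push c f _).trans (hy ⟨a, i⟩))

include hc in
/-- A map from a coherent module that vanishes in the colimit vanishes in the system. -/
theorem exists_eq_zero_colimit (hL : 𝔛.IsLocNoethFormal) [CompactSpace (𝔛.X 0)] {C : FSch.ModF 𝔛 h}
    (hC : FSch.IsCohF 𝔛 h C) {j : J} (g : C ⟶ D.obj j) (hg : g ≫ c.ι.app j = 0) :
    ∃ (k : J) (f : j ⟶ k), g ≫ D.map f = 0 := by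
  obtain ⟨A, _, U, I, _, s, Q, _, p, p', W, hp, hp', d, d', hcov, hs, hrel, hcomp⟩ := exists_charts hL hC
  obtain ⟨k, f, hf⟩ := exists_push_zero_family hc (α := Σ a, I a) (fun x => U x.1) (fun x => isCompact_opens hL _)
    (fun x => (g.val.app (op (U x.1))).hom (s x.1 x.2)) fun x =>
      congrArg (fun φ : C ⟶ c.pt => (φ.val.app (op (U x.1))).hom (s x.1 x.2)) hg
  exact ⟨k, f, hom_ext_of_gens hcov hs fun a i => hf ⟨a, i⟩⟩

end Groth.Agent.FCompl
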