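import Groth.Agent.FComplLib.RelData

/-!
# Presentations from generators and their finite relations
-/

set_option linter.style.haveILetI false
set_option linter.unusedSectionVars false
set_option linter.unusedVariables false
set_option backward.isDefEq.respectTransparency false
set_option backward.isDefEq.respectTransparency.types false
set_option maxHeartbeats 1000000

universe u

open CategoryTheory Limits Opposite

noncomputable section

namespace Groth.Agent.FCompl

open Groth.Agent.FPLocal

variable {C : Type u} [SmallCategory C] {J : GrothendieckTopology C} {R : Sheaf J RingCat.{u}}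
  (M : SheafOfModules.{u} R) {V : C} {I : Type u} (t : I → M.val.obj (op V))

/-- Locally every section is a finite combination of `t`. -/
def GenFin : Prop :=
  ∀ ⦃W : C⦄ (g : W ⟶ V) (m : M.val.obj (op W)), Locally J W fun Z h =>
    ∃ (S : Finset I) (a : I → R.obj.obj (op Z)), ∑ i ∈ S, a i • mres M (h ≫ g).op (t i) = mres M h.op m

/-- Finite relations over `V`. -/
abbrev FinRel : Type u := {c : I →₀ R.obj.obj (op V) // (c.sum fun i a => a • t i) = 0}

/-- Locally the relations come from the finite relations over `V`. -/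
def RelFin : Prop :=
  ∀ ⦃W : C⦄ (g : W ⟶ V) (S : Finset I) (d : I → R.obj.obj (op W)), (∀ i ∉ S, d i = 0) →
    ∑ i ∈ S, d i • mres M g.op (t i) = 0 → Locally J W fun Z h =>
      ∃ (T : Finset (FinRel M t)) (e : FinRel M t → R.obj.obj (op Z)), ∀ i,
        ∑ c ∈ T, e c * (R.obj.map (h ≫ g).op).hom (c.1 i) = (R.obj.map h.op).hom (d i)

variable {M t}

lemma basisVal_freeHomMk' (i : I) {W : C} (g : W ⟶ V) :
    basisVal (freeHomMk M t) i (Over.mk g) = mres M g.op (t i) := by
  rw [← mres_basisVal (freeHomMk M t) i (Over.homMk g (Category.comp_id g) : Over.mk g ⟶ Over.mk (𝟙 V))]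
  exact congrArg (mres M g.op) (val₁_ιFree_freeHomMk (M := M) t i)

theorem GenFin.epi (hs : GenFin M t) : Epi (freeHomMk M t) := by
  refine epi_of_exists_preimage _ fun U m => ?_
  obtain ⟨S, hS, hS'⟩ := hs U.hom m
  refine ⟨(Sieve.overEquiv U).symm S,
    (J.mem_over_iff _).2 (by rw [OrderIso.apply_symm_apply]; exact hS), fun W g hg => ?_⟩
  obtain ⟨T, a, ha⟩ := hS' g.left (hg : S.arrows g.left)
  refine ⟨∑ i ∈ T, (show (R.over V).obj.obj (op W) from a i) • basisVal (𝟙 _) i W, Eq.trans ?_ ha⟩
  rw [map_sum]
  refine Finset.sum_congr rfl fun i _ => (map_smul _ _ _).trans (congrArg (a i • ·) ?_)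
  refine (app_basisVal_id _ i W).trans ?_
  show basisVal (freeHomMk M t) i (Over.mk W.hom) = _
  rw [basisVal_freeHomMk']
  exact congrArg (fun f : W.left ⟶ V => mres M f.op (t i)) (Over.w g).symm

/-- A finite relation as a morphism out of the structure sheaf. -/
def relHom (c : FinRel M t) : SheafOfModules.unit (R.over V) ⟶ SheafOfModules.free (R := R.over V) I :=
  ∑ i ∈ c.1.support, homMk (SheafOfModules.unit R) (c.1 i) ≫ SheafOfModules.ιFree i

lemma gval_relHom (c : FinRel M t) {W : C} (g : W ⟶ V) :
    gval (relHom c) (Over.mk g) = ∑ i ∈ c.1.support, (show (R.over V).obj.obj (op (Over.mk g)) from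
      (R.obj.map g.op).hom (c.1 i)) • basisVal (𝟙 (SheafOfModules.free (R := R.over V) I)) i (Over.mk g) := by
  rw [relHom, gval, app_sum_hom]
  refine Finset.sum_congr rfl fun i _ => ?_
  refine (app_eq_smul_gval (SheafOfModules.ιFree i) (Over.mk g) _).trans ?_
  rw [basisVal, Category.comp_id]
  refine congrArg (· • _) ?_
  exact (gval_endo _ g).trans
    (congrArg (R.obj.map g.op).hom (val₁_homMk (SheafOfModules.unit R) (c.1 i)))

lemma relHom_comp (c : FinRel M t) : relHom c ≫ freeHomMk M t = 0 := by
  refine val₁_injective M ?_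
  rw [relHom, Preadditive.sum_comp, val₁_sum]
  refine Eq.trans (Finset.sum_congr rfl fun i _ => ?_) (c.2.trans rfl)
  rw [Category.assoc, val₁_comp_endo, val₁_ιFree_freeHomMk]
  exact congrArg (· • t i) (val₁_homMk (SheafOfModules.unit R) (c.1 i))

variable (M t) in
/-- The relations as a morphism to the kernel. -/
def relFinLift : SheafOfModules.free (R := R.over V) (FinRel M t) ⟶ kernel (freeHomMk M t) :=
  freeDesc fun c => kernel.lift _ (relHom c) (relHom_comp c)

theorem RelFin.epi (hc : RelFin M t) : Epi (relFinLift M t) := by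
  classical
  refine epi_of_exists_preimage _ fun U z => ?_
  let π := freeHomMk M t
  let z' := ((kernel.ι π).val.app (op U)).hom z
  refine Locally.bind (P := fun W g => ∃ (S : Finset I) (a : I → (R.over V).obj.obj (op W)),
    ∑ i ∈ S, a i • basisVal (𝟙 (SheafOfModules.free (R := R.over V) I)) i W = mres _ g.op z')
    (locally_free_sum (R := R.over V) z') fun W g ⟨S, a, ha⟩ => ?_
  let d : I → R.obj.obj (op W.left) := fun i => if i ∈ S then a i else 0
  have hd : ∑ i ∈ S, d i • mres M W.hom.op (t i) = 0 := by
    have e := congrArg (π.val.app (op W)).hom ha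
    rw [map_sum, app_mres,
      show (π.val.app (op U)).hom z' = 0 from congrArg (fun f : kernel π ⟶ M.over V => (f.val.app (op U)).hom z)
        (kernel.condition π), map_zero] at e
    refine Eq.trans (Finset.sum_congr rfl fun i hi => ?_) e
    refine Eq.trans ?_ (map_smul _ _ _).symm
    show (if i ∈ S then a i else 0 : R.obj.obj (op W.left)) • _ = _
    rw [if_pos hi]
    refine congrArg (a i • ·) ?_
    exact (basisVal_freeHomMk' i W.hom).symm
  obtain ⟨T, hT, hT'⟩ := hc W.hom S d (fun i hi => if_neg hi) hd
  refine ⟨(Sieve.overEquiv W).symm T,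
    (J.mem_over_iff _).2 (by rw [OrderIso.apply_symm_apply]; exact hT), fun Z k hk => ?_⟩
  obtain ⟨T₁, e, he⟩ := hT' k.left (hk : T.arrows k.left)
  refine ⟨∑ c ∈ T₁, (show (R.over V).obj.obj (op Z) from e c) • basisVal (𝟙 _) c Z,
    app_injective_of_mono (kernel.ι π) Z ?_⟩
  have e1 : ∀ c, ((kernel.ι π).val.app (op Z)).hom (((relFinLift M t).val.app (op Z)).hom
      (basisVal (𝟙 _) c Z)) = gval (relHom c) (Over.mk Z.hom) := fun c => by
    show gval ((SheafOfModules.ιFree c ≫ 𝟙 _) ≫ relFinLift M t ≫ kernel.ι π) Z = _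
    rw [Category.comp_id, relFinLift, ιFree_freeDesc_assoc, kernel.lift_ι]
    rfl
  have e2 : ((kernel.ι π).val.app (op Z)).hom (mres (kernel π) (k ≫ g).op z) =
      mres (SheafOfModules.free (R := R.over V) I) k.op
        (∑ i ∈ S, a i • basisVal (𝟙 (SheafOfModules.free (R := R.over V) I)) i W) := by
    rw [ha, ← mres_comp]
    exact PresheafOfModules.naturality_apply (kernel.ι π).val (k ≫ g).op z
  rw [map_sum, map_sum, e2, map_sum]
  simp only [map_smul, e1]
  let b := fun i => basisVal (𝟙 (SheafOfModules.free (R := R.over V) I)) i Z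
  let U₁ := S ∪ T₁.biUnion fun c => c.1.support
  have e3 : ∀ c ∈ T₁, (show (R.over V).obj.obj (op Z) from e c) • gval (relHom c) (Over.mk Z.hom) =
      ∑ i ∈ U₁, (show (R.over V).obj.obj (op Z) from e c * (R.obj.map Z.hom.op).hom (c.1 i)) • b i := by
    intro c hc'
    refine (congrArg ((show (R.over V).obj.obj (op Z) from e c) • ·) (gval_relHom c Z.hom)).trans ?_
    rw [Finset.smul_sum]
    refine Eq.trans (Finset.sum_congr rfl fun i _ => (mul_smul _ _ _).symm)
      (Finset.sum_subset (fun i hi => Finset.mem_union_right _ (Finset.mem_biUnion.2 ⟨c, hc', hi⟩))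
        fun i _ hi => ?_)
    rw [show c.1 i = 0 from Finsupp.notMem_support_iff.1 hi, map_zero]
    exact (congrArg (fun x => x • b i) (mul_zero (e c))).trans (zero_smul _ _)
  refine (Finset.sum_congr rfl e3).trans ?_
  rw [Finset.sum_comm]
  let d' : I → (R.over V).obj.obj (op Z) := fun i => (R.obj.map k.left.op).hom (d i)
  have e4 : ∀ i, ∑ c ∈ T₁, (show (R.over V).obj.obj (op Z) from e c * (R.obj.map Z.hom.op).hom (c.1 i)) • b i =
      d' i • b i := fun i => by
    refine (Finset.sum_smul).symm.trans (congrArg (fun x : (R.over V).obj.obj (op Z) => x • b i) ?_)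
    exact (show ∑ c ∈ T₁, e c * (R.obj.map Z.hom.op).hom (c.1 i) = (R.obj.map k.left.op).hom (d i) from
      Eq.trans (Finset.sum_congr rfl fun c _ =>
        congrArg (fun f : Z.left ⟶ V => e c * (R.obj.map f.op).hom (c.1 i)) (Over.w k).symm) (he i))
  refine (Finset.sum_congr rfl fun i _ => e4 i).trans ?_
  refine (Finset.sum_subset (f := fun i => d' i • b i) (Finset.subset_union_left : S ⊆ U₁) fun i _ hi => ?_).symm.trans
    (Finset.sum_congr rfl fun i hi => ?_)
  · show ((R.obj.map k.left.op).hom (if i ∈ S then a i else 0) : R.obj.obj (op Z.left)) • b i = 0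
    rw [if_neg hi, map_zero]
    exact zero_smul _ _
  · show ((R.obj.map k.left.op).hom (if i ∈ S then a i else 0) : R.obj.obj (op Z.left)) • b i = _
    rw [if_pos hi]
    exact ((PresheafOfModules.map_smul (SheafOfModules.free (R := R.over V) I).val k.op (a i) _).trans
      (congrArg _ (mres_basisVal (𝟙 _) i k))).symm

/-- The generators as generating sections. -/
def genSectionsFin (hs : GenFin M t) : (M.over V).GeneratingSections where
  I := I
  s := SheafOfModules.freeHomEquiv _ (freeHomMk M t)
  epi := (Equiv.symm_apply_apply (SheafOfModules.freeHomEquiv _) (freeHomMk M t)).symm ▸ hs.epi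

theorem genSectionsFin_π (hs : GenFin M t) : (genSectionsFin hs).π = freeHomMk M t :=
  Equiv.symm_apply_apply _ _

/-- The relations as generating sections of the kernel. -/
def relSectionsFin (hc : RelFin M t) : (kernel (freeHomMk M t)).GeneratingSections where
  I := FinRel M t
  s := SheafOfModules.freeHomEquiv _ (relFinLift M t)
  epi := ((SheafOfModules.freeHomEquiv _).symm_apply_apply (relFinLift M t)).symm ▸ hc.epi

/-- A presentation from generators and their finite relations. -/
def presentationFin (hs : GenFin M t) (hc : RelFin M t) : (M.over V).Presentation where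
  generators := genSectionsFin hs
  relations := (relSectionsFin hc).ofEpi (kernelIsoOfEq (genSectionsFin_π hs).symm).hom

/-- Quasi-coherence from local generators with finite relations. -/
theorem isQuasicoherent_of_genFin (M : SheafOfModules.{u} R)
    (h : ∀ X : C, ∃ S ∈ J X, ∀ ⦃V : C⦄ (g : V ⟶ X), S.arrows g →
      ∃ (V' : C) (_ : V ⟶ V') (I : Type u) (t : I → M.val.obj (op V')), GenFin M t ∧ RelFin M t) :
    SheafOfModules.IsQuasicoherent.{u} M := by
  let D : SheafOfModules.QuasicoherentData.{u, u, u, u} M :=
    { I := {V : C // ∃ (I : Type u) (t : I → M.val.obj (op V)), GenFin M t ∧ RelFin M t}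
      X := fun v => v.1
      coversTop := fun X => by
        obtain ⟨S, hS, hS'⟩ := h X
        exact J.superset_covering (fun V g hg => by
          obtain ⟨V', f, hV'⟩ := hS' g hg
          exact (Sieve.mem_ofObjects_iff ..).mpr ⟨⟨V', hV'⟩, ⟨f⟩⟩) hS
      presentation := fun v => presentationFin v.2.choose_spec.choose_spec.1 v.2.choose_spec.choose_spec.2 }
  exact D.isQuasicoherent

end Groth.Agent.FCompl
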