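import Groth.Agent.FComplLib.QuasiCoh
import Groth.Agent.FComplLib.QCCriterion
import Mathlib.CategoryTheory.ObjectProperty.Ind

/-!
# Filtered colimits of coherent modules are quasi-coherent
-/

set_option autoImplicit false
set_option linter.style.haveILetI false
set_option linter.unusedVariables false
set_option backward.isDefEq.respectTransparency false
set_option backward.isDefEq.respectTransparency.types false
set_option maxHeartbeats 2000000
universe u

open CategoryTheory CategoryTheory.Limits AlgebraicGeometry TopologicalSpace Opposite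

noncomputable section

namespace Groth.Agent.FCompl

variable {𝔛 : FSch.Sys.{u}} {h : 𝔛.IsFormal} {𝔉 : FSch.ModF 𝔛 h} {U : (𝔛.X 0).Opens}

theorem hasRels_of_iso {𝔊 : FSch.ModF 𝔛 h} (e : 𝔉 ≅ 𝔊) (H : FPLocal.HasRels 𝔉 U) : FPLocal.HasRels 𝔊 U := by
  obtain ⟨I, K, hI, hK, s, c, hs, h0, hc⟩ := H
  have hinv : ∀ (W : (𝔛.X 0).Opens) (m : 𝔊.val.obj (op W)),
      (e.hom.val.app (op W)).hom ((e.inv.val.app (op W)).hom m) = m := fun W m =>
    congr($(e.inv_hom_id).val.app (op W) m)
  have hinv' : ∀ (W : (𝔛.X 0).Opens) (m : 𝔉.val.obj (op W)),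
      (e.inv.val.app (op W)).hom ((e.hom.val.app (op W)).hom m) = m := fun W m =>
    congr($(e.hom_inv_id).val.app (op W) m)
  refine ⟨I, K, hI, hK, fun i => (e.hom.val.app (op U)).hom (s i), c, fun W g m => ?_, fun k => ?_,
    fun W g d hd => ?_⟩
  · obtain ⟨S, hS, hS'⟩ := hs g ((e.inv.val.app (op W)).hom m)
    refine ⟨S, hS, fun Z l hl => ?_⟩
    obtain ⟨a, ha⟩ := hS' l hl
    refine ⟨a, ?_⟩
    have := congrArg (e.hom.val.app (op Z)).hom ha
    rw [map_sum, FPLocal.app_mres, hinv] at this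
    refine Eq.trans (Finset.sum_congr rfl fun i _ => ?_) this
    rw [map_smul, FPLocal.app_mres]
  · have := congrArg (e.hom.val.app (op U)).hom (h0 k)
    rw [map_sum, map_zero] at this
    exact Eq.trans (Finset.sum_congr rfl fun i _ => (map_smul _ _ _).symm) this
  · refine hc g d ?_
    have := congrArg (e.inv.val.app (op W)).hom hd
    rw [map_sum, map_zero] at this
    refine Eq.trans (Finset.sum_congr rfl fun i _ => ?_) this
    rw [map_smul, FPLocal.app_mres, hinv']

/-- Coherent modules have generators and relations on every affine open. -/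
theorem hasRels_affine (hL : 𝔛.IsLocNoethFormal) (h𝔉 : FSch.IsCohF 𝔛 h 𝔉) (hU : IsAffineOpen U) :
    FPLocal.HasRels 𝔉 U := by
  haveI := eps_isIso hL h𝔉
  exact hasRels_of_iso (asIso (eps 𝔉)).symm (hasRels_realMod (sysOf 𝔉) hL (sysOf_isCoh 𝔉 h𝔉) hU)

/-- Sections of a coherent module over an affine open are combinations of generators. -/
theorem exists_eq_sum_gen (hL : 𝔛.IsLocNoethFormal) (h𝔉 : FSch.IsCohF 𝔛 h 𝔉) (hU : IsAffineOpen U)
    {I : Type u} [Fintype I] (s : I → 𝔉.val.obj (op U)) (hs : FPLocal.Gen 𝔉 s) (m : 𝔉.val.obj (op U)) :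
    ∃ a : I → OR 𝔛 h U, ∑ i, a i • s i = m := by
  have hmem : ((eps 𝔉).val.app (op U)).hom m ∈
      Submodule.span (OR 𝔛 h U) (Set.range fun i => ((eps 𝔉).val.app (op U)).hom (s i)) :=
    (span_eps hL h𝔉 hU s hs).symm ▸ trivial
  obtain ⟨a, ha⟩ := (Submodule.mem_span_range_iff_exists_fun _).1 hmem
  refine ⟨a, (eps_app_bijective hL h𝔉 U).1 ?_⟩
  show ((eps 𝔉).val.app (op U)).hom _ = ((eps 𝔉).val.app (op U)).hom m
  rw [map_sum]
  exact Eq.trans (Finset.sum_congr rfl fun i _ => map_smul ((eps 𝔉).val.app (op U)).hom (a i) (s i)) ha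

/-- The data of a finite system of generators and relations. -/
def relDataOfRels {I K : Type u} [Fintype I] [Fintype K] (s : I → 𝔉.val.obj (op U))
    (c : K → I → (ModSite.ringSh (𝔛.Osh h)).obj.obj (op U)) (hs : FPLocal.Gen 𝔉 s)
    (h0 : ∀ k, ∑ i, c k i • s i = 0) (hc : FPLocal.RelComplete 𝔉 c s) : RelData 𝔉 U where
  I := I
  K := K
  t := s
  r := c
  gen W g m := by
    obtain ⟨S, hS, hS'⟩ := hs g m
    exact ⟨S, hS, fun Z l hl => ⟨Finset.univ, hS' l hl⟩⟩
  rel k := ⟨⊤, (Opens.grothendieckTopology _).top_mem U, fun Z l _ =>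
    ⟨Finset.univ, fun i hi => absurd (Finset.mem_univ i) hi, by
      have e := congrArg (FPLocal.mres 𝔉 l.op) (h0 k)
      rw [map_sum, map_zero] at e
      exact Eq.trans (Finset.sum_congr rfl fun i _ =>
        (PresheafOfModules.map_smul 𝔉.val l.op (c k i) (s i)).symm) e⟩⟩
  complete W g S d hd0 hd := by
    obtain ⟨T, hT, hT'⟩ := hc g d ((Finset.sum_subset (Finset.subset_univ S) fun i _ hi => by
      rw [hd0 i hi, zero_smul]).symm.trans hd)
    exact ⟨T, hT, fun Z l hl => ⟨Finset.univ, hT' l hl⟩⟩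

/-- Relations between finitely many sections of a coherent module over an affine open. -/
theorem relComplete_coh (hL : 𝔛.IsLocNoethFormal) (h𝔉 : FSch.IsCohF 𝔛 h 𝔉) (hU : IsAffineOpen U)
    {ι : Type u} [Fintype ι] (u : ι → 𝔉.val.obj (op U)) :
    ∃ (l : ℕ) (c : ULift.{u} (Fin l) → ι → OR 𝔛 h U),
      (∀ k, ∑ i, c k i • u i = 0) ∧ FPLocal.RelComplete 𝔉 c u := by
  obtain ⟨I, K, _, _, s, c, hs, h0, hc⟩ := hasRels_affine hL h𝔉 hU
  choose a ha using fun i => exists_eq_sum_gen hL h𝔉 hU s hs (u i)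
  refine relComplete_of_relData hL (relDataOfRels s c hs h0 hc) hU le_rfl u (Finset.univ : Finset I) a
    (fun i j hj => absurd (Finset.mem_univ (α := I) j) hj) fun i => ?_
  refine Eq.trans (Finset.sum_congr rfl fun j _ => congrArg (a i j • ·) ?_) (ha i)
  exact FPLocal.mres_id 𝔉 (s j)

section Colim

variable {K : Type u} [SmallCategory K] [IsFiltered K] {D : K ⥤ FSch.ModF 𝔛 h} {c : Cocone D}

/-- The generators of a colimit over an affine open. -/
def colimGen (U : (𝔛.X 0).Opens) (p : Σ i, (D.obj i).val.obj (op U)) : c.pt.val.obj (op U) :=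
  ((c.ι.app p.1).val.app (op U)).hom p.2

theorem genFin_colim (hL : 𝔛.IsLocNoethFormal) (hD : ∀ i, FSch.IsCohF 𝔛 h (D.obj i)) (hc : IsColimit c)
    (hU : IsAffineOpen U) : GenFin c.pt (colimGen (c := c) U) := by
  classical
  intro W g m
  refine FPLocal.Locally.bind (FPLocal.locally_exists_rep hc m) fun Z l ⟨i, y, hy⟩ => ?_
  obtain ⟨I, K', _, _, s, r, hs, -, -⟩ := hasRels_affine hL (hD i) hU
  obtain ⟨S, hS, hS'⟩ := hs (l ≫ g) y
  refine ⟨S, hS, fun Y q hq => ?_⟩
  obtain ⟨a, ha⟩ := hS' q hq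
  have e := congrArg ((c.ι.app i).val.app (op Y)).hom ha
  rw [map_sum, FPLocal.app_mres] at e
  have hy' : FPLocal.mres c.pt q.op (((c.ι.app i).val.app (op Z)).hom y) = FPLocal.mres c.pt (q ≫ l).op m :=
    (congrArg (FPLocal.mres c.pt q.op) hy).trans (FPLocal.mres_comp (M := c.pt) l.op q.op m).symm
  refine ⟨Finset.univ.image fun j : I => (⟨i, s j⟩ : Σ i, (D.obj i).val.obj (op U)),
    fun p => ∑ j ∈ Finset.univ.filter (fun j : I => (⟨i, s j⟩ : Σ i, (D.obj i).val.obj (op U)) = p), a j, ?_⟩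
  refine Eq.trans ?_ (e.trans hy')
  rw [← Finset.sum_fiberwise_of_maps_to (t := Finset.univ.image fun j : I => (⟨i, s j⟩ : Σ i, (D.obj i).val.obj (op U)))
    (fun j _ => Finset.mem_image_of_mem _ (Finset.mem_univ j))]
  refine Finset.sum_congr rfl fun p _ => ?_
  rw [Finset.sum_smul]
  refine Finset.sum_congr rfl fun j hj => ?_
  obtain rfl := (Finset.mem_filter.1 hj).2
  rw [map_smul, FPLocal.app_mres, Category.assoc]
  rfl

theorem relFin_colim (hL : 𝔛.IsLocNoethFormal) (hD : ∀ i, FSch.IsCohF 𝔛 h (D.obj i)) (hc : IsColimit c)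
    (hU : IsAffineOpen U) : RelFin c.pt (colimGen (c := c) U) := by
  classical
  intro W g S d hd0 hd
  obtain ⟨j, hj⟩ := IsFiltered.sup_objs_exists (S.image fun p : Σ i, (D.obj i).val.obj (op U) => p.1)
  let f : ↥S → Σ' (i : K), i ⟶ j := fun p =>
    ⟨p.1.1, (hj (Finset.mem_image_of_mem _ p.2)).some⟩
  let v : ↥S → (D.obj j).val.obj (op U) := fun p => ((D.map (f p).2).val.app (op U)).hom p.1.2
  have hv : ∀ p : ↥S, ((c.ι.app j).val.app (op U)).hom (v p) = colimGen (c := c) U p.1 := fun p =>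
    congr($(c.w (f p).2).val.app (op U) p.1.2)
  let y : (D.obj j).val.obj (op W) := ∑ p : ↥S, d p.1 • FPLocal.mres (D.obj j) g.op (v p)
  have hy : ((c.ι.app j).val.app (op W)).hom y = ((c.ι.app j).val.app (op W)).hom 0 := by
    rw [map_zero, map_sum]
    refine Eq.trans ?_ hd
    rw [← Finset.sum_coe_sort S]
    refine Finset.sum_congr rfl fun p _ => ?_
    rw [map_smul, FPLocal.app_mres, hv]
    rfl
  refine FPLocal.Locally.bind (FPLocal.locally_eq_of_app_eq hc y 0 hy) fun Z l ⟨k, q, q', hq⟩ => ?_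
  rw [map_zero, map_zero] at hq
  let u : ↥S → (D.obj k).val.obj (op U) := fun p => ((D.map q).val.app (op U)).hom (v p)
  obtain ⟨n, r, hr0, hrc⟩ := relComplete_coh hL (hD k) hU u
  let dZ : ↥S → (ModSite.ringSh (𝔛.Osh h)).obj.obj (op Z) := fun p =>
    ((ModSite.ringSh (𝔛.Osh h)).obj.map l.op).hom (d p.1)
  have hdZ : ∑ p, dZ p • FPLocal.mres (D.obj k) (l ≫ g).op (u p) = 0 := by
    refine Eq.trans ?_ hq
    rw [map_sum, map_sum]
    refine Finset.sum_congr rfl fun p _ => ?_
    refine Eq.trans ?_ (congrArg ((D.map q).val.app (op Z)).hom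
      (PresheafOfModules.map_smul (D.obj j).val l.op (d p.1) _)).symm
    refine Eq.trans ?_ (map_smul _ _ _).symm
    refine congrArg (dZ p • ·) ?_
    rw [op_comp, FPLocal.mres_comp]
    show FPLocal.mres (D.obj k) l.op (FPLocal.mres (D.obj k) g.op (((D.map q).val.app (op U)).hom (v p))) = _
    rw [← FPLocal.app_mres, ← FPLocal.app_mres]
    rfl
  obtain ⟨T, hT, hT'⟩ := hrc (l ≫ g) dZ hdZ
  have hcq : ∀ p : ↥S, ((c.ι.app k).val.app (op U)).hom (u p) = colimGen (c := c) U p.1 := fun p => by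
    refine Eq.trans ?_ (hv p)
    exact congr($(c.w q).val.app (op U) (v p))
  let rel : ULift.{u} (Fin n) → FinRel c.pt (colimGen (c := c) U) := fun m =>
    ⟨Finsupp.onFinset S (fun p => if hp : p ∈ S then r m ⟨p, hp⟩ else 0)
      (fun p hp => by by_contra h'; exact hp (dif_neg h')), by
      refine (Finsupp.sum_of_support_subset _ Finsupp.support_onFinset_subset _ (fun i _ => zero_smul ((ModSite.ringSh (𝔛.Osh h)).obj.obj (op U)) (colimGen (c := c) U i))).trans ?_
      rw [← Finset.sum_coe_sort S]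
      refine Eq.trans (Finset.sum_congr rfl fun p _ => ?_)
        (((map_sum ((c.ι.app k).val.app (op U)).hom (fun p : ↥S => r m p • u p) _).symm.trans
          (congrArg ((c.ι.app k).val.app (op U)).hom (hr0 m))).trans (map_zero _))
      refine (congrArg (· • _) (dif_pos p.2)).trans ?_
      exact (congrArg (r m p • ·) (hcq p).symm).trans (map_smul _ _ _).symm⟩
  refine ⟨T, hT, fun Y t ht => ?_⟩
  obtain ⟨e, he⟩ := hT' t ht
  refine ⟨Finset.univ.image rel, fun C => ∑ m ∈ Finset.univ.filter (fun m => rel m = C), e m, fun p => ?_⟩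
  have h1 : ∀ C : FinRel c.pt (colimGen (c := c) U),
      (∑ m ∈ Finset.univ.filter (fun m => rel m = C), e m) *
        ((ModSite.ringSh (𝔛.Osh h)).obj.map ((t ≫ l) ≫ g).op).hom (C.1 p) =
      ∑ m ∈ Finset.univ.filter (fun m => rel m = C), e m *
        ((ModSite.ringSh (𝔛.Osh h)).obj.map ((t ≫ l) ≫ g).op).hom ((rel m).1 p) := fun C => by
    rw [Finset.sum_mul]
    exact Finset.sum_congr rfl fun m hm => by rw [(Finset.mem_filter.1 hm).2]
  refine (Finset.sum_congr rfl fun C _ => h1 C).trans ?_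
  rw [Finset.sum_fiberwise_of_maps_to (fun m _ => Finset.mem_image_of_mem _ (Finset.mem_univ m))
    fun m => e m * ((ModSite.ringSh (𝔛.Osh h)).obj.map ((t ≫ l) ≫ g).op).hom ((rel m).1 p)]
  by_cases hp : p ∈ S
  · refine Eq.trans (Finset.sum_congr rfl fun m _ => ?_) ((he ⟨p, hp⟩).trans ?_)
    · refine congrArg (e m * ·) ?_
      rw [Category.assoc]
      exact congrArg _ (dif_pos hp)
    · exact (RingHom.congr_fun (congrArg RingCat.Hom.hom ((ModSite.ringSh (𝔛.Osh h)).obj.map_comp l.op t.op)) (d p)).symm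
  · rw [hd0 p hp, map_zero]
    refine Finset.sum_eq_zero fun m _ => ?_
    refine (congrArg (e m * ·) ((congrArg _ (dif_neg hp)).trans (map_zero _))).trans (mul_zero _)

/-- A filtered colimit of coherent modules is quasi-coherent. -/
theorem isQuasicoherent_colim (hL : 𝔛.IsLocNoethFormal) (hD : ∀ i, FSch.IsCohF 𝔛 h (D.obj i)) (hc : IsColimit c) :
    SheafOfModules.IsQuasicoherent.{u} c.pt :=
  isQuasicoherent_of_genFin c.pt fun W =>
    ⟨affSieve _ W, affSieve_mem _ W, fun Z g hg => by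
      obtain ⟨Z', hZ', hZZ', -⟩ := hg
      exact ⟨Z', homOfLE hZZ', _, _, genFin_colim hL hD hc hZ', relFin_colim hL hD hc hZ'⟩⟩

end Colim

end Groth.Agent.FCompl
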