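import Groth.Agent.FComplLib.Sheaf

/-!
# Ideals of definition and kernels of maps of free modules
-/

set_option autoImplicit false
set_option linter.style.haveILetI false
set_option backward.isDefEq.respectTransparency false
set_option backward.isDefEq.respectTransparency.types false
set_option maxHeartbeats 1000000
universe u

open CategoryTheory CategoryTheory.Limits AlgebraicGeometry TopologicalSpace Opposite

noncomputable section

namespace Groth.Agent.FCompl

variable {𝔛 : FSch.Sys.{u}} {h : 𝔛.IsFormal}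

/-- The kernel of `O ⟶ (u_n)_* u_n^* O` is of finite type. -/
theorem kernel_unit_finiteType (hL : 𝔛.IsLocNoethFormal) (n : ℕ) :
    SheafOfModules.IsFiniteType (R := ModSite.ringSh (𝔛.Osh h))
      (kernel ((FSch.levelMor 𝔛 h n).adj.unit.app (FSch.unitF 𝔛 h))) := by
  refine isFiniteType_of_affine _ fun U hU => ?_
  let f := FSch.levelMor 𝔛 h n
  let η := f.adj.unit.app (FSch.unitF 𝔛 h)
  let α : FSch.unitF 𝔛 h ⟶ f.push.obj (ModSite.unit (𝔛.X n).sheaf) :=
    SheafOfModules.unitToPushforwardObjUnit f.sharpR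
  let β := (f.adj.homEquiv _ _).symm α
  have hαβ : η ≫ f.push.map β = α := by
    rw [show η ≫ f.push.map β = f.adj.homEquiv _ _ β from (f.adj.homEquiv_unit _ _ _).symm]
    exact Equiv.apply_symm_apply _ _
  have hker : ∀ (Z : (𝔛.X 0).Opens) (x : OR 𝔛 h Z), (η.val.app (op Z)).hom x = 0 ↔ pr 𝔛 h Z n x = 0 := by
    intro Z x
    constructor
    · intro hx
      have e := congrArg (fun g : FSch.unitF 𝔛 h ⟶ f.push.obj (ModSite.unit (𝔛.X n).sheaf) =>
        (g.val.app (op Z)).hom x) hαβ
      refine e.symm.trans ?_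
      show ((f.push.map β).val.app (op Z)).hom ((η.val.app (op Z)).hom x) = 0
      rw [hx, map_zero]
    · intro hx
      refine (FPLocal.app_eq_smul_gval η Z x).trans ?_
      show pr 𝔛 h Z n x • (show ↥((f.pull.obj (FSch.unitF 𝔛 h)).val.obj (op (𝔛.lvU h n Z))) from
        FPLocal.gval η Z) = 0
      rw [hx]
      exact zero_smul _ _
  haveI := noetherian (h := h) hL hU
  obtain ⟨l, g, hg⟩ := Submodule.fg_iff_exists_fin_generating_family.1
    (IsNoetherian.noetherian (II 𝔛 h U ^ (n + 1)))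
  refine hasGen_kernel η (fun i : ULift.{u} (Fin l) => g i.down) (fun i => (hker U _).2 ?_) fun Z hZU hZ x hx => ?_
  · have : g i.down ∈ II 𝔛 h U ^ (n + 1) := hg ▸ Submodule.subset_span ⟨i.down, rfl⟩
    rwa [← ker_pr hL hU n, RingHom.mem_ker] at this
  · have h1 : (show OR 𝔛 h Z from x) ∈ II 𝔛 h Z ^ (n + 1) := by
      rw [← ker_pr hL hZ n, RingHom.mem_ker]; exact (hker Z x).1 hx
    rw [← II_map hL hU hZ hZU, ← Ideal.map_pow, ← hg, Ideal.map_span, ← Set.range_comp] at h1
    obtain ⟨c, hc⟩ := Ideal.mem_span_range_iff_exists_fun.1 h1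
    refine ⟨fun i => c i.down, Eq.trans ?_ hc⟩
    refine Fintype.sum_equiv Equiv.ulift _ _ fun i => ?_
    rfl

/-- Kernels of maps of finite free modules to the structure sheaf are of finite type. -/
theorem kernel_free_finiteType (hL : 𝔛.IsLocNoethFormal) {ι : Type u} [Fintype ι]
    (φ : SheafOfModules.free (R := ModSite.ringSh (𝔛.Osh h)) ι ⟶ FSch.unitF 𝔛 h) :
    SheafOfModules.IsFiniteType (R := ModSite.ringSh (𝔛.Osh h)) (kernel φ) := by
  refine isFiniteType_of_affine _ fun U hU => ?_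
  haveI := noetherian (h := h) hL hU
  let b : ∀ (Z : (𝔛.X 0).Opens) (i : ι), (SheafOfModules.free (R := ModSite.ringSh (𝔛.Osh h)) ι).val.obj (op Z) :=
    fun Z i => FPLocal.basisVal (𝟙 _) i Z
  let a : ι → OR 𝔛 h U := fun i => FPLocal.basisVal φ i U
  let K : Submodule (OR 𝔛 h U) (ι → OR 𝔛 h U) := LinearMap.ker (Fintype.linearCombination (OR 𝔛 h U) a)
  obtain ⟨l, c, hc⟩ := Submodule.fg_iff_exists_fin_generating_family.1 (IsNoetherian.noetherian K)
  refine hasGen_kernel φ (fun k : ULift.{u} (Fin l) => ∑ i, c k.down i • b U i) (fun k => ?_)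
    fun Z hZU hZ z hz => ?_
  · refine (FPLocal.app_sum_basis φ U _).trans ?_
    have : c k.down ∈ K := hc ▸ Submodule.subset_span ⟨k.down, rfl⟩
    rw [LinearMap.mem_ker, Fintype.linearCombination_apply] at this
    exact this
  · obtain ⟨d₀, rfl⟩ := FPLocal.exists_eq_sum_basis Z z
    let d : ι → OR 𝔛 h Z := d₀
    rw [FPLocal.app_sum_basis] at hz
    letI := (rsO 𝔛 h hZU).toAlgebra
    haveI : Module.Flat (OR 𝔛 h U) (OR 𝔛 h Z) := rsO_flat hL hU hZ hZU
    have hd : ∑ i, d i • Algebra.linearMap (OR 𝔛 h U) (OR 𝔛 h Z) (a i) = 0 := by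
      refine Eq.trans (Finset.sum_congr rfl fun i _ => congrArg (d i • ·) ?_) hz
      exact FPLocal.mres_basisVal φ i (homOfLE hZU)
    have h1 := mem_span_relations (IsBaseChange.linearMap (OR 𝔛 h U) (OR 𝔛 h Z)) a d hd
    have h2 : (d : ι → OR 𝔛 h Z) ∈ Submodule.span (OR 𝔛 h Z)
        (Set.range fun k : ULift.{u} (Fin l) => fun i => rsO 𝔛 h hZU (c k.down i)) := by
      refine Submodule.span_le.2 ?_ h1
      rintro _ ⟨c', hc', rfl⟩
      have hc'' : c' ∈ K := by
        rw [LinearMap.mem_ker, Fintype.linearCombination_apply]; exact hc'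
      rw [← hc] at hc''
      obtain ⟨e, rfl⟩ := (Submodule.mem_span_range_iff_exists_fun _).1 hc''
      refine (Submodule.mem_span_range_iff_exists_fun _).2 ⟨fun k => rsO 𝔛 h hZU (e k.down), funext fun i => ?_⟩
      simp only [Finset.sum_apply, Pi.smul_apply, smul_eq_mul, map_sum, map_mul, RingHom.algebraMap_toAlgebra]
      exact Fintype.sum_equiv Equiv.ulift _ _ fun k => rfl
    obtain ⟨e, he⟩ := (Submodule.mem_span_range_iff_exists_fun _).1 h2
    refine ⟨e, ?_⟩
    have hb : ∀ k : ULift.{u} (Fin l), FPLocal.mres _ (homOfLE hZU).op (∑ i, c k.down i • b U i) =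
        ∑ i, rsO 𝔛 h hZU (c k.down i) • b Z i := fun k => by
      rw [map_sum]
      refine Finset.sum_congr rfl fun i _ => ?_
      refine ((SheafOfModules.free (R := ModSite.ringSh (𝔛.Osh h)) ι).val.map_smul (homOfLE hZU).op _ _).trans ?_
      exact congrArg (rsO 𝔛 h hZU (c k.down i) • ·) (FPLocal.mres_basisVal _ i (homOfLE hZU))
    refine Eq.trans (Finset.sum_congr rfl fun k _ => congrArg (e k • ·) (hb k)) ?_
    simp only [Finset.smul_sum, smul_smul]
    rw [Finset.sum_comm]
    refine Finset.sum_congr rfl fun i _ => ?_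
    rw [← Finset.sum_smul]
    refine congrArg (· • b Z i) ?_
    have := congrFun he i
    rw [Finset.sum_apply] at this
    exact this

end Groth.Agent.FCompl
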