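import Groth.Agent.FComplLib.Descend
import Groth.Agent.CohBase.Standard

/-!
# Modules on a level attached to relations over an affine open, and their Čech complexes
-/

set_option autoImplicit false
set_option linter.style.haveILetI false
set_option linter.unusedVariables false
set_option backward.isDefEq.respectTransparency false
set_option backward.isDefEq.respectTransparency.types false
set_option maxHeartbeats 4000000
universe u

open CategoryTheory CategoryTheory.Limits AlgebraicGeometry TopologicalSpace Opposite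

noncomputable section

namespace Groth.Agent.FCompl

variable {𝔛 : FSch.Sys.{u}} {h : 𝔛.IsFormal} {U : (𝔛.X 0).Opens} {ι K : Type u} [Fintype ι]

/-- Restrictions of vectors on a level. -/
abbrev rsl (n : ℕ) {A B : (𝔛.X 0).Opens} (hBA : B ≤ A) (d : ι → LR 𝔛 h A n) : ι → LR 𝔛 h B n :=
  fun i => rsL 𝔛 h hBA n (d i)

/-- A quasi-coherent module on a level presented by given relations. -/
theorem exists_levelMod (hU : IsAffineOpen U) (hL : 𝔛.IsLocNoethFormal) (n : ℕ) (r : K → ι → OR 𝔛 h U) :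
    ∃ (G : (𝔛.X n).Modules) (_ : Coh.IsQCoh G)
      (φ : ∀ (W : (𝔛.X 0).Opens), W ≤ U → (ι → LR 𝔛 h W n) →+ Γ(G, 𝔛.lvU h n W)),
      (∀ (W : (𝔛.X 0).Opens) (hW : W ≤ U) (W' : (𝔛.X 0).Opens) (hW' : W' ≤ W) (d : ι → LR 𝔛 h W n),
        CohBase.rM G (lvU_mono 𝔛 h hW' n) (φ W hW d) = φ W' (hW'.trans hW) (rsl n hW' d)) ∧
      (∀ (W : (𝔛.X 0).Opens) (hW : W ≤ U) (d : ι → LR 𝔛 h W n), d ∈ spanL r n hW → φ W hW d = 0) ∧
      (∀ (W : (𝔛.X 0).Opens) (hW : W ≤ U), IsAffineOpen W →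
        Function.Surjective (φ W hW) ∧ ∀ d, φ W hW d = 0 → d ∈ spanL r n hW) := by
  classical
  haveI := hL.2.2 n
  let Un := 𝔛.lvU h n U
  have hUn : IsAffineOpen Un := affine_lvU (h := h) hU n
  let Q : Submodule (LR 𝔛 h U n) (ι → LR 𝔛 h U n) := Submodule.span _ (Set.range fun j => prv n U (r j))
  obtain ⟨G, e, hG⟩ := exists_test_qc hUn ((ι → LR 𝔛 h U n) ⧸ Q)
  haveI := hG
  let nv : ι → Γ(G, Un) := fun i => e (Submodule.Quotient.mk (Pi.single i 1))
  have hcomb : ∀ d : ι → LR 𝔛 h U n, ∑ i, d i • nv i = e (Submodule.Quotient.mk d) := fun d => by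
    conv_rhs => rw [← Finset.univ_sum_single d]
    rw [← Submodule.mkQ_apply Q, map_sum, map_sum]
    refine Finset.sum_congr rfl fun i _ => ?_
    rw [show Pi.single i (d i) = d i • (Pi.single i (1 : LR 𝔛 h U n) : ι → LR 𝔛 h U n) by
      rw [← Pi.single_smul, smul_eq_mul, mul_one], map_smul, map_smul]
    rfl
  let res : ∀ (W : (𝔛.X 0).Opens) (hW : W ≤ U), Γ(G, Un) → Γ(G, 𝔛.lvU h n W) := fun W hW m =>
    CohBase.rM G (lvU_mono 𝔛 h hW n) m
  let φ : ∀ (W : (𝔛.X 0).Opens), W ≤ U → (ι → LR 𝔛 h W n) →+ Γ(G, 𝔛.lvU h n W) := fun W hW =>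
    AddMonoidHom.mk' (fun d => ∑ i, d i • res W hW (nv i)) fun a b => by
      simp only [Pi.add_apply, add_smul, Finset.sum_add_distrib]
  have φ_eq : ∀ (W : (𝔛.X 0).Opens) (hW : W ≤ U) (d : ι → LR 𝔛 h W n), φ W hW d = ∑ i, d i • res W hW (nv i) :=
    fun W hW d => rfl
  refine ⟨G, hG, φ, fun W hW W' hW' d => ?_, fun W hW d hd => ?_, fun W hW hWa => ⟨?_, fun d hd => ?_⟩⟩
  · rw [φ_eq W hW d, φ_eq W' (hW'.trans hW) _, map_sum]
    refine Finset.sum_congr rfl fun i _ => ?_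
    refine (G.val.map_smul (homOfLE (lvU_mono 𝔛 h hW' n)).op (d i) _).trans ?_
    exact congrArg (rsL 𝔛 h hW' n (d i) • ·) (CohBase.restr_trans G (lvU_mono 𝔛 h hW n) (lvU_mono 𝔛 h hW' n) (nv i))
  · induction hd using Submodule.span_induction with
    | mem y hy =>
      obtain ⟨j, rfl⟩ := hy
      show φ W hW (prv n W (rsv hW (r j))) = 0
      rw [prv_rsv, φ_eq W hW _]
      refine Eq.trans ?_ ((congrArg (res W hW) ((hcomb _).trans ((congrArg e ((Submodule.Quotient.mk_eq_zero Q).2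
        (Submodule.subset_span ⟨j, rfl⟩))).trans (map_zero e)))).trans (map_zero _))
      show ∑ i, _ = CohBase.rM G _ (∑ i, pr 𝔛 h U n (r j i) • nv i)
      rw [map_sum]
      exact Finset.sum_congr rfl fun i _ =>
        (G.val.map_smul (homOfLE (lvU_mono 𝔛 h hW n)).op (pr 𝔛 h U n (r j i)) (nv i)).symm
    | zero => exact map_zero _
    | add p q _ _ hp hq => rw [map_add, hp, hq, add_zero]
    | smul c p _ hp =>
      rw [φ_eq W hW _] at hp ⊢
      simp only [Pi.smul_apply, smul_eq_mul, mul_smul, ← Finset.smul_sum]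
      rw [hp, smul_zero]
  · intro x
    letI : Algebra (LR 𝔛 h U n) (LR 𝔛 h W n) := (rsL 𝔛 h hW n).toAlgebra
    letI : Module (LR 𝔛 h U n) Γ(G, 𝔛.lvU h n W) := Module.compHom _ (rsL 𝔛 h hW n)
    haveI : IsScalarTower (LR 𝔛 h U n) (LR 𝔛 h W n) Γ(G, 𝔛.lvU h n W) := .of_algebraMap_smul fun _ _ => rfl
    have hbc := isBaseChange_res G hUn (affine_lvU (h := h) hWa n) (lvU_mono 𝔛 h hW n)
    have hT : Submodule.span (LR 𝔛 h U n) (Set.range nv) = ⊤ := top_le_iff.1 fun m _ => by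
      obtain ⟨q, rfl⟩ := e.surjective m
      obtain ⟨d, rfl⟩ := Submodule.Quotient.mk_surjective Q q
      rw [← hcomb]
      exact sum_mem fun i _ => Submodule.smul_mem _ _ (Submodule.subset_span ⟨i, rfl⟩)
    have hx : x ∈ Submodule.span (LR 𝔛 h W n) (res W hW '' Set.range nv) :=
      (span_baseChange hbc _ hT).symm ▸ trivial
    rw [← Set.range_comp] at hx
    obtain ⟨d, rfl⟩ := (Submodule.mem_span_range_iff_exists_fun _).1 hx
    exact ⟨d, rfl⟩
  · letI : Algebra (LR 𝔛 h U n) (LR 𝔛 h W n) := (rsL 𝔛 h hW n).toAlgebra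
    haveI : Module.Flat (LR 𝔛 h U n) (LR 𝔛 h W n) := rsL_flat (h := h) hU hWa hW n
    letI : Module (LR 𝔛 h U n) Γ(G, 𝔛.lvU h n W) := Module.compHom _ (rsL 𝔛 h hW n)
    haveI : IsScalarTower (LR 𝔛 h U n) (LR 𝔛 h W n) Γ(G, 𝔛.lvU h n W) := .of_algebraMap_smul fun _ _ => rfl
    have hbc := isBaseChange_res G hUn (affine_lvU (h := h) hWa n) (lvU_mono 𝔛 h hW n)
    refine Submodule.span_le.2 ?_ (mem_span_relations hbc nv d hd)
    rintro _ ⟨c, hc, rfl⟩
    have hcQ : c ∈ Q := by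
      rw [← Submodule.Quotient.mk_eq_zero]
      exact e.injective ((hcomb c).symm.trans ((hc : ∑ i, c i • nv i = 0).trans (map_zero e).symm))
    have hmap : ∀ c ∈ Q, (fun i => rsL 𝔛 h hW n (c i)) ∈ spanL r n hW := by
      intro c hcQ
      induction hcQ using Submodule.span_induction with
      | mem y hy =>
        obtain ⟨j, rfl⟩ := hy
        exact Submodule.subset_span ⟨j, (prv_rsv hW n (r j))⟩
      | zero => simp only [Pi.zero_apply, map_zero]; exact zero_mem _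
      | add p q _ _ hp hq => simp only [Pi.add_apply, map_add]; exact add_mem hp hq
      | smul s p _ hp =>
        simp only [Pi.smul_apply, smul_eq_mul, map_mul]; exact Submodule.smul_mem _ (rsL 𝔛 h hW n s) hp
    exact hmap c hcQ

variable {α : Type u} {D : α → (𝔛.X 0).Opens} (hDU : ∀ p, D p ≤ U)

include hDU in
/-- Compatible families of vectors on a level glue. -/
theorem level_glue (hU : IsAffineOpen U) (hL : 𝔛.IsLocNoethFormal) (hD : ∀ p, IsAffineOpen (D p))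
    (hcov : U ≤ iSup D) (n : ℕ) (r : K → ι → OR 𝔛 h U) (b : ∀ p, ι → LR 𝔛 h (D p) n)
    (hb : ∀ p q, rsl n inf_le_right (b q) - rsl n inf_le_left (b p) ∈
      spanL r n (inf_le_left.trans (hDU p) : D p ⊓ D q ≤ U)) :
    ∃ w : ι → LR 𝔛 h U n, ∀ p, b p - rsl n (hDU p) w ∈ spanL r n (hDU p) := by
  obtain ⟨G, hG, φ, φres, φspan, φaff⟩ := exists_levelMod (h := h) hU hL n r
  let GS : TopCat.Sheaf AddCommGrpCat.{u} (𝔛.X n).carrier := ⟨_, G.isSheaf⟩
  have hc : TopCat.Presheaf.IsCompatible GS.1 (fun p => 𝔛.lvU h n (D p)) (fun p => φ (D p) (hDU p) (b p)) := by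
    intro p q
    have e := φspan _ _ _ (hb p q)
    rw [map_sub, sub_eq_zero] at e
    exact ((φres (D p) (hDU p) (D p ⊓ D q) inf_le_left (b p)).trans e.symm).trans
      (φres (D q) (hDU q) (D p ⊓ D q) inf_le_right (b q)).symm
  obtain ⟨x, hx, -⟩ := TopCat.Sheaf.existsUnique_gluing' GS _ (𝔛.lvU h n U)
    (fun p => homOfLE (lvU_mono 𝔛 h (hDU p) n))
    (fun y hy => by
      obtain ⟨p, hp⟩ := Opens.mem_iSup.1 (hcov hy)
      exact Opens.mem_iSup.2 ⟨p, hp⟩) _ hc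
  obtain ⟨w, rfl⟩ := (φaff U le_rfl hU).1 x
  refine ⟨w, fun p => (φaff (D p) (hDU p) (hD p)).2 _ ?_⟩
  rw [map_sub, sub_eq_zero]
  exact (hx p).symm.trans (φres U le_rfl (D p) (hDU p) w)

open CohBase in
include hDU in
/-- Cocycles of vectors on a level are coboundaries modulo the relations. -/
theorem level_coboundary [Finite α] (hU : IsAffineOpen U) (hL : 𝔛.IsLocNoethFormal) (hD : ∀ p, IsAffineOpen (D p))
    (hD2 : ∀ p q, IsAffineOpen (D p ⊓ D q)) (n : ℕ) (r : K → ι → OR 𝔛 h U) (gn : α → LR 𝔛 h U n)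
    (hspan : Ideal.span (Set.range gn) = ⊤) (hgn : ∀ p, 𝔛.lvU h n (D p) = (𝔛.X n).basicOpen (gn p))
    (a : ∀ p q, ι → LR 𝔛 h (D p ⊓ D q) n)
    (ha : ∀ p q s, rsl n (le_inf (inf_le_left.trans inf_le_right) inf_le_right) (a q s) -
        rsl n (le_inf (inf_le_left.trans inf_le_left) inf_le_right) (a p s) + rsl n inf_le_left (a p q) ∈
      spanL r n ((inf_le_left.trans inf_le_left).trans (hDU p) : D p ⊓ D q ⊓ D s ≤ U)) :
    ∃ b : ∀ p, ι → LR 𝔛 h (D p) n, ∀ p q,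
      a p q - (rsl n inf_le_right (b q) - rsl n inf_le_left (b p)) ∈
        spanL r n (inf_le_left.trans (hDU p) : D p ⊓ D q ≤ U) := by
  obtain ⟨G, hG, φ, φres, φspan, φaff⟩ := exists_levelMod (h := h) hU hL n r
  haveI := hG
  have le2 : ∀ i : Fin 2 → α, inter (stdU gn) i ≤ 𝔛.lvU h n (D (i 0) ⊓ D (i 1)) := fun i x hx =>
    ⟨(hgn (i 0)).ge (inter_le (stdU gn) i 0 hx), (hgn (i 1)).ge (inter_le (stdU gn) i 1 hx)⟩
  let c : CC (stdU gn) (Coh.toAb G).obj 1 := fun i =>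
    rM G (le2 i) (φ _ (inf_le_left.trans (hDU _)) (a (i 0) (i 1)))
  have hc : cdiff (stdU gn) (Coh.toAb G).obj 1 c = 0 := funext fun i => by
    have le3 : inter (stdU gn) i ≤ 𝔛.lvU h n (D (i 0) ⊓ D (i 1) ⊓ D (i 2)) := fun x hx =>
      ⟨⟨(hgn (i 0)).ge (inter_le (stdU gn) i 0 hx), (hgn (i 1)).ge (inter_le (stdU gn) i 1 hx)⟩,
        (hgn (i 2)).ge (inter_le (stdU gn) i 2 hx)⟩
    have hU3 : D (i 0) ⊓ D (i 1) ⊓ D (i 2) ≤ U := (inf_le_left.trans inf_le_left).trans (hDU _)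
    have e := congrArg (rM G le3) (φspan _ hU3 _ (ha (i 0) (i 1) (i 2)))
    rw [map_add, map_sub, map_add, map_sub, map_zero,
      ← φres (D (i 1) ⊓ D (i 2)) (inf_le_left.trans (hDU _)) _ _ (a (i 1) (i 2)),
      ← φres (D (i 0) ⊓ D (i 2)) (inf_le_left.trans (hDU _)) _ _ (a (i 0) (i 2)),
      ← φres (D (i 0) ⊓ D (i 1)) (inf_le_left.trans (hDU _)) _ _ (a (i 0) (i 1)), rM_rM, rM_rM, rM_rM] at e
    rw [cdiffM_apply, Fin.sum_univ_three]
    refine Eq.trans ?_ e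
    show (-1 : ℤ) ^ (0 : ℕ) • rM G _ (rM G _ (φ _ _ (a (i 1) (i 2)))) +
      (-1 : ℤ) ^ (1 : ℕ) • rM G _ (rM G _ (φ _ _ (a (i 0) (i 2)))) +
      (-1 : ℤ) ^ (2 : ℕ) • rM G _ (rM G _ (φ _ _ (a (i 0) (i 1)))) = _
    rw [rM_rM, rM_rM, rM_rM]
    simp [sub_eq_add_neg]
  obtain ⟨e, he⟩ := cexact_stdU gn G (affine_lvU (h := h) hU n) hspan 0 c hc
  have le1 : ∀ p, 𝔛.lvU h n (D p) ≤ inter (stdU gn) (fun _ : Fin 1 => p) := fun p =>
    (hgn p).le.trans (inter_const (U := stdU gn) p).le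
  choose b hb using fun p => (φaff (D p) (hDU p) (hD p)).1 (rM G (le1 p) (e fun _ => p))
  refine ⟨b, fun p q => (φaff _ _ (hD2 p q)).2 _ ?_⟩
  have hle : 𝔛.lvU h n (D p ⊓ D q) ≤ inter (stdU gn) ![p, q] := le_iInf fun t => by
    fin_cases t
    · exact (lvU_mono 𝔛 h inf_le_left n).trans (hgn p).le
    · exact (lvU_mono 𝔛 h inf_le_right n).trans (hgn q).le
  have key := congrArg (rM G hle) (congrFun he ![p, q])
  rw [cdiffM_apply, Fin.sum_univ_two, map_add, map_zsmul, map_zsmul, rM_rM, rM_rM] at key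
  have e1 : rM G (lvU_mono 𝔛 h (inf_le_right : D p ⊓ D q ≤ D q) n) (rM G (le1 q) (e fun _ => q)) =
      φ (D p ⊓ D q) (inf_le_left.trans (hDU p)) (rsl n inf_le_right (b q)) := by
    rw [← hb]; exact φres _ _ _ _ _
  have e2 : rM G (lvU_mono 𝔛 h (inf_le_left : D p ⊓ D q ≤ D p) n) (rM G (le1 p) (e fun _ => p)) =
      φ (D p ⊓ D q) (inf_le_left.trans (hDU p)) (rsl n inf_le_left (b p)) := by
    rw [← hb]; exact φres _ _ _ _ _
  rw [rM_rM] at e1 e2
  rw [map_sub, map_sub, sub_eq_zero, ← e1, ← e2]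
  refine Eq.trans ?_ (Eq.trans key.symm ?_)
  · show φ _ _ (a p q) = rM G _ (rM G _ (φ _ _ (a p q)))
    rw [rM_rM]
    exact (congr($(G.presheaf.map_id _) _)).symm
  · rw [rM_congr G e (show (![p, q] : Fin 2 → α) ∘ (0 : Fin 2).succAbove = fun _ => q from
        funext fun t => by fin_cases t; rfl) _ ((lvU_mono 𝔛 h inf_le_right n).trans (le1 q)),
      rM_congr G e (show (![p, q] : Fin 2 → α) ∘ (1 : Fin 2).succAbove = fun _ => p from
        funext fun t => by fin_cases t; rfl) _ ((lvU_mono 𝔛 h inf_le_left n).trans (le1 p))]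
    simp [sub_eq_add_neg]

end Groth.Agent.FCompl
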