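import Groth.Agent.FSchLevLib.Basic
import Groth.Agent.S1304
import Groth.Agent.S2306
import Groth.Prelude.Def_FSch4

/-!
# The levels of a morphism with proper smallest level are proper
-/

set_option autoImplicit false
set_option linter.style.haveILetI false
universe u

open CategoryTheory CategoryTheory.Limits AlgebraicGeometry TopologicalSpace Opposite

noncomputable section

namespace Groth.Agent.FCompl

/-- Finite type lifts along a quotient by a finitely generated nilpotent ideal. -/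
theorem finiteType_of_quot {A B C : Type u} [CommRing A] [CommRing B] [CommRing C] (φ : A →+* B) (π : B →+* C)
    (hπ : Function.Surjective π) (hfg : (RingHom.ker π).FG) (hnil : IsNilpotent (RingHom.ker π))
    (h : (π.comp φ).FiniteType) : φ.FiniteType := by
  classical
  algebraize [φ, π.comp φ]
  obtain ⟨s, hs⟩ := Algebra.FiniteType.out (R := A) (A := C)
  obtain ⟨t, ht⟩ := hfg
  choose c hc using hπ
  let S := Algebra.adjoin A (((s.image c ∪ t : Finset B)) : Set B)
  let πa : B →ₐ[A] C := { π with commutes' := fun a => rfl }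
  have hmod : ∀ x : B, ∃ a ∈ S, x - a ∈ RingHom.ker π := fun x => by
    have hx : πa x ∈ (Algebra.adjoin A ((s.image c : Finset B) : Set B)).map πa := by
      rw [AlgHom.map_adjoin, Finset.coe_image, ← Set.image_comp,
        show ⇑πa ∘ c = id from funext hc, Set.image_id, hs]
      trivial
    obtain ⟨a, ha, hax⟩ := hx
    exact ⟨a, Algebra.adjoin_mono (fun z hz => Finset.mem_union_left _ hz) ha,
      (RingHom.sub_mem_ker_iff (f := π)).2 hax.symm⟩
  obtain ⟨N, hN⟩ := hnil
  let J := RingHom.ker π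
  have h1 : ∀ y ∈ J, ∃ a ∈ S, a ∈ J ∧ y - a ∈ J ^ 2 := by
    intro y hy
    change y ∈ RingHom.ker π at hy
    rw [← ht] at hy
    induction hy using Submodule.span_induction with
    | mem z hz =>
      exact ⟨z, Algebra.subset_adjoin (Finset.mem_union_right _ hz), (show z ∈ RingHom.ker π from ht ▸ Ideal.subset_span hz),
        by rw [sub_self]; exact zero_mem _⟩
    | zero => exact ⟨0, zero_mem _, zero_mem _, by rw [sub_self]; exact zero_mem _⟩
    | add z w _ _ hz hw =>
      obtain ⟨a, ha, ha', ha''⟩ := hz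
      obtain ⟨b, hb, hb', hb''⟩ := hw
      exact ⟨a + b, add_mem ha hb, add_mem ha' hb', by
        rw [show z + w - (a + b) = z - a + (w - b) by ring]; exact add_mem ha'' hb''⟩
    | smul q z hzm hz =>
      obtain ⟨a, ha, ha', ha''⟩ := hz
      obtain ⟨r, hr, hr'⟩ := hmod q
      refine ⟨r * a, mul_mem hr ha, J.mul_mem_left r ha', ?_⟩
      rw [smul_eq_mul, show q * z - r * a = q * (z - a) + (q - r) * a by ring, pow_two]
      exact add_mem (Ideal.mul_mem_left _ q (pow_two J ▸ ha'')) (Ideal.mul_mem_mul hr' ha')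
  have h2 : ∀ (m : ℕ) (y : B), y ∈ J ^ m → ∃ a ∈ S, a ∈ J ^ m ∧ y - a ∈ J ^ (m + 1) := by
    intro m
    induction m with
    | zero =>
      intro y _
      obtain ⟨a, ha, ha'⟩ := hmod y
      exact ⟨a, ha, by simp, (pow_one J).symm ▸ (show y - a ∈ J from ha')⟩
    | succ m ih =>
      intro y hy
      rw [pow_succ'] at hy
      refine Submodule.mul_induction_on hy (fun j hj z hz => ?_) fun z w hz hw => ?_
      · obtain ⟨a, ha, ha', ha''⟩ := h1 j hj
        obtain ⟨b, hb, hb', hb''⟩ := ih z hz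
        refine ⟨a * b, mul_mem ha hb, by rw [pow_succ']; exact Ideal.mul_mem_mul ha' hb', ?_⟩
        rw [show j * z - a * b = j * (z - b) + (j - a) * b by ring]
        refine add_mem (pow_succ' J (m + 1) ▸ Ideal.mul_mem_mul hj hb'') ?_
        rw [show m + 1 + 1 = 2 + m by omega, pow_add]
        exact Ideal.mul_mem_mul ha'' hb'
      · obtain ⟨a, ha, ha', ha''⟩ := hz
        obtain ⟨b, hb, hb', hb''⟩ := hw
        exact ⟨a + b, add_mem ha hb, add_mem ha' hb', by
          rw [show z + w - (a + b) = z - a + (w - b) by ring]; exact add_mem ha'' hb''⟩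
  refine ⟨⟨s.image c ∪ t, eq_top_iff.2 fun x _ => ?_⟩⟩
  suffices H : ∀ k, k ≤ N → ∀ y ∈ J ^ (N - k), y ∈ S from by
    refine H N le_rfl x ?_
    rw [Nat.sub_self, pow_zero, Ideal.one_eq_top]
    trivial
  intro k
  induction k with
  | zero =>
    intro _ y hy
    rw [Nat.sub_zero, hN] at hy
    rw [(Submodule.mem_bot B).1 hy]
    exact zero_mem _
  | succ k ih =>
    intro hk y hy
    obtain ⟨a, ha, -, ha''⟩ := h2 _ y hy
    rw [show N - (k + 1) + 1 = N - k by omega] at ha''
    rw [← add_sub_cancel a y]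
    exact add_mem ha (ih (by omega) _ ha'')

/-- Local finite type lifts along a nilpotent closed immersion into a locally Noetherian scheme. -/
theorem locallyOfFiniteType_of_thick {X X' S' : Scheme.{u}} (i : X ⟶ X') [IsClosedImmersion i] (f' : X' ⟶ S')
    [IsLocallyNoetherian X'] (n : ℕ) (hn : ∀ V : X'.affineOpens, RingHom.ker (i.app V.1).hom ^ (n + 1) = ⊥)
    [LocallyOfFiniteType (i ≫ f')] : LocallyOfFiniteType f' := by
  refine ⟨fun {U} hU {V} hV e => ?_⟩
  haveI : IsNoetherianRing Γ(X', V) := IsLocallyNoetherian.component_noetherian ⟨V, hV⟩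
  refine finiteType_of_quot _ (i.app V).hom (i.app_surjective V hV) (IsNoetherian.noetherian _)
    ⟨n + 1, hn ⟨V, hV⟩⟩ ?_
  have h1 := (i ≫ f').finiteType_appLE hU (hV.preimage i) (V := i ⁻¹ᵁ V) (Scheme.Hom.preimage_mono i e)
  rwa [← Scheme.Hom.appLE_comp_appLE i f' U V (i ⁻¹ᵁ V) e le_rfl, ← Scheme.Hom.app_eq_appLE, CommRingCat.hom_comp] at h1

/-- The levels of a morphism with proper smallest level are proper. -/
theorem isProper_level {𝔛 𝔜 : FSch.Sys.{u}} (f : 𝔛 ⟶ 𝔜) (h𝔛 : 𝔛.IsLocNoethFormal) (h𝔜 : 𝔜.IsLocNoethFormal)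
    [IsProper ((f : FSch.Hom 𝔛 𝔜).app 0)] (n : ℕ) : IsProper ((f : FSch.Hom 𝔛 𝔜).app n) := by
  let g := fun m => (f : FSch.Hom 𝔛 𝔜).app m
  have w : ∀ m, 𝔛.toX m ≫ g m = g 0 ≫ 𝔜.toX m := by
    intro m
    induction m with
    | zero => exact (Category.id_comp _).trans (Category.comp_id _).symm
    | succ m ih =>
      show (𝔛.toX m ≫ 𝔛.ι m) ≫ g (m + 1) = g 0 ≫ 𝔜.toX m ≫ 𝔜.ι m
      rw [Category.assoc, ← ((f : FSch.Hom 𝔛 𝔜).comm m), ← Category.assoc, ih, Category.assoc]
  haveI hX := FSch.Sys.toX_isClosedImmersion 𝔛 h𝔛.1 n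
  haveI hY := FSch.Sys.toX_isClosedImmersion 𝔜 h𝔜.1 n
  haveI : Surjective (𝔛.toX n) := ⟨FSch.Sys.toX_surjective 𝔛 h𝔛.1 n⟩
  haveI : Surjective (𝔜.toX n) := ⟨FSch.Sys.toX_surjective 𝔜 h𝔜.1 n⟩
  haveI : IsLocallyNoetherian (𝔛.X n) := h𝔛.2.2 n
  haveI : UniversallyClosed (g n) :=
    (S1304.result (𝔛.toX n) (𝔜.toX n) (g 0) (g n) ⟨hX, inferInstance⟩ ⟨hY, inferInstance⟩ (w n)).1 inferInstance
  haveI : IsSeparated (g n) := (S2306.result (g n) (g 0) (𝔛.toX n) (𝔜.toX n) (w n).symm).2 inferInstance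
  haveI : LocallyOfFiniteType (𝔛.toX n ≫ g n) := by rw [w n]; infer_instance
  haveI : LocallyOfFiniteType (g n) := locallyOfFiniteType_of_thick (𝔛.toX n) (g n) n
    fun V => FSchLevLib.pow_ker_app 𝔛 h𝔛.1 h𝔛.2.1 n V
  exact {}

end Groth.Agent.FCompl
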