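import Groth.Agent.FComplLib.TorsLevel
import Groth.Agent.FComplLib.QCColimit

/-!
# Direct images from the levels
-/

set_option autoImplicit false
set_option linter.style.haveILetI false
set_option linter.unusedVariables false
set_option backward.isDefEq.respectTransparency false
set_option backward.isDefEq.respectTransparency.types false
set_option maxHeartbeats 4000000
universe u

open CategoryTheory CategoryTheory.Limits AlgebraicGeometry TopologicalSpace Opposite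

noncomputable section

namespace Groth.Agent.FCompl

variable {𝔛 : FSch.Sys.{u}} {h : 𝔛.IsFormal} (hL : 𝔛.IsLocNoethFormal) (n : ℕ)

/-- Direct image from a level preserves epimorphisms. -/
theorem preservesEpi_levelPush : (FSch.levelMor 𝔛 h n).push.PreservesEpimorphisms :=
  ⟨fun {F G} φ hφ => by
    refine FPLocal.epi_of_exists_preimage _ fun V m => ?_
    obtain ⟨S, hS, hS'⟩ := FPLocal.exists_sieve_preimage φ (show Γ(G, 𝔛.lvU h n V) from m)
    refine FPLocal.locally_of_near (fun Z Y l q hq => ?_) fun x hx => ?_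
    · obtain ⟨y, hy⟩ := hq
      refine ⟨FPLocal.mres _ l.op y, ?_⟩
      rw [FPLocal.app_mres, hy, ← FPLocal.mres_comp']
    have hx' : (𝔛.toX n).base x ∈ 𝔛.lvU h n V := by
      show x ∈ 𝔛.toX n ⁻¹ᵁ 𝔛.lvU h n V
      rw [toX_lvU]
      exact hx
    obtain ⟨Z, q, hq, hxZ⟩ := hS _ hx'
    let Z0 := 𝔛.toX n ⁻¹ᵁ Z ⊓ V
    have hZ0 : 𝔛.lvU h n Z0 ≤ Z := lvU_le_of_le n inf_le_left
    obtain ⟨t, ht⟩ := hS' _ (S.downward_closed hq (homOfLE hZ0))
    exact ⟨Z0, homOfLE inf_le_right, ⟨hxZ, hx⟩, t, ht⟩⟩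

/-- Direct image from a level is exact. -/
theorem preservesFiniteColimits_levelPush : PreservesFiniteColimits (FSch.levelMor 𝔛 h n).push := by
  haveI := preservesEpi_levelPush (𝔛 := 𝔛) (h := h) n
  haveI : (FSch.levelMor 𝔛 h n).push.IsRightAdjoint := (FSch.levelMor 𝔛 h n).adj.isRightAdjoint
  haveI : (FSch.levelMor 𝔛 h n).push.Additive := inferInstance
  haveI : (FSch.levelMor 𝔛 h n).push.PreservesHomology :=
    Functor.preservesHomology_of_preservesEpis_and_kernels _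
  exact Functor.preservesFiniteColimits_of_preservesHomology _

variable (G : (𝔛.X n).Modules)

/-- Scalars act on a level through the projection. -/
lemma levelPush_smul {V : (𝔛.X 0).Opens} (a : OR 𝔛 h V) (m : ((FSch.levelMor 𝔛 h n).push.obj G).val.obj (op V)) :
    (show Γ(G, 𝔛.lvU h n V) from a • m) = pr 𝔛 h V n a • (show Γ(G, 𝔛.lvU h n V) from m) := rfl

theorem kb_levelPush {V : (𝔛.X 0).Opens} (m : ((FSch.levelMor 𝔛 h n).push.obj G).val.obj (op V)) :
    KB ((FSch.levelMor 𝔛 h n).push.obj G) n m := fun W g a₀ ha => by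
  let a : OR 𝔛 h W := a₀
  have ha' : pr 𝔛 h W n a = 0 := ha
  let z : Γ(G, 𝔛.lvU h n W) := FTors.res ((FSch.levelMor 𝔛 h n).push.obj G) g m
  show (show Γ(G, 𝔛.lvU h n W) from pr 𝔛 h W n a • z) = (0 : Γ(G, 𝔛.lvU h n W))
  rw [ha', zero_smul]

theorem isT_levelPush : IsT ((FSch.levelMor 𝔛 h n).push.obj G) := fun V s =>
  (isTorsSect_iff s).2 ⟨⊤, GrothendieckTopology.top_mem _ _, fun Z l _ => ⟨n, (kb_levelPush n G s).res l⟩⟩

variable [Coh.IsQCoh G]

include hL in
theorem exists_combo_levelPush {U Z : (𝔛.X 0).Opens} (hU : IsAffineOpen U) (hZa : IsAffineOpen Z) (hZ : Z ≤ U)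
    {T : Set Γ(G, 𝔛.lvU h n U)} (hT : Submodule.span (LR 𝔛 h U n) T = ⊤) (x : Γ(G, 𝔛.lvU h n Z)) :
    ∃ (Q : Type u) (_ : Fintype Q) (q : Q → T) (a : Q → OR 𝔛 h Z), ∑ k, a k •
      FPLocal.mres ((FSch.levelMor 𝔛 h n).push.obj G) (homOfLE hZ).op
        (show ((FSch.levelMor 𝔛 h n).push.obj G).val.obj (op U) from (q k).1) =
      (show ((FSch.levelMor 𝔛 h n).push.obj G).val.obj (op Z) from x) := by
  classical
  letI : Algebra (LR 𝔛 h U n) (LR 𝔛 h Z n) := (rsL 𝔛 h hZ n).toAlgebra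
  letI : Module (LR 𝔛 h U n) Γ(G, 𝔛.lvU h n Z) := Module.compHom _ (rsL 𝔛 h hZ n)
  haveI : IsScalarTower (LR 𝔛 h U n) (LR 𝔛 h Z n) Γ(G, 𝔛.lvU h n Z) := .of_algebraMap_smul fun _ _ => rfl
  have hbc := isBaseChange_res G (affine_lvU (h := h) hU n) (affine_lvU (h := h) hZa n) (lvU_mono 𝔛 h hZ n)
  have hx : x ∈ (⊤ : Submodule (LR 𝔛 h Z n) Γ(G, 𝔛.lvU h n Z)) := trivial
  rw [← span_baseChange hbc T hT, Submodule.mem_span_image_iff_exists_fun] at hx
  obtain ⟨s, hs, a, ha⟩ := hx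
  choose a' ha' using fun k => pr_surjective (h := h) hL hZa n (a k)
  refine ⟨↥s, inferInstance, fun k => ⟨k.1, hs k.2⟩, a', ?_⟩
  refine Eq.trans (Finset.sum_congr rfl fun k _ => ?_) ha
  exact (levelPush_smul n G (a' k) _).trans (congrArg₂ (· • ·) (ha' k) rfl)

include hL in
/-- Direct image from a level of a quasi-coherent module has generators and relations on affine opens. -/
theorem affQC_levelPush : AffQC ((FSch.levelMor 𝔛 h n).push.obj G) := by
  classical
  intro U hU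
  let M := (FSch.levelMor 𝔛 h n).push.obj G
  let t : M.val.obj (op U) → M.val.obj (op U) := id
  refine ⟨M.val.obj (op U), t, genFin_of_family fun W g m => ?_, relFin_of_family fun W g S d hd0 hd => ?_⟩
  · refine ⟨affSieve _ W, affSieve_mem _ W, fun Z l hl => ?_⟩
    obtain ⟨Z', hZ', hZZ', hZ'W⟩ := hl
    obtain ⟨Q, _, q, a, ha⟩ := exists_combo_levelPush hL n G hU hZ' (hZ'W.trans (leOfHom g))
      (T := Set.univ) Submodule.span_univ (show Γ(G, 𝔛.lvU h n Z') from FPLocal.mres M (homOfLE hZ'W).op m)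
    refine ⟨Q, inferInstance, fun k => (q k).1, fun k => rsO 𝔛 h hZZ' (a k), ?_⟩
    have e := congrArg (FPLocal.mres M (homOfLE hZZ').op) ha
    rw [map_sum] at e
    refine Eq.trans (Finset.sum_congr rfl fun k _ => ?_) (e.trans ?_)
    · rw [mres_smul', ← FPLocal.mres_comp]
      rfl
    · show FPLocal.mres M (homOfLE hZZ').op (FPLocal.mres M (homOfLE hZ'W).op m) = _
      rw [← FPLocal.mres_comp]
      rfl
  obtain ⟨γs, hγ⟩ : (II 𝔛 h U ^ (n + 1)).FG := haveI := noetherian (h := h) hL hU; IsNoetherian.noetherian _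
  refine ⟨affSieve _ W, affSieve_mem _ W, fun Z l hl => ?_⟩
  obtain ⟨Z', hZ', hZZ', hZ'W⟩ := hl
  have hZU : Z' ≤ U := hZ'W.trans (leOfHom g)
  let dd : M.val.obj (op U) → OR 𝔛 h Z' := fun i => rsO 𝔛 h hZ'W (show OR 𝔛 h W from d i)
  letI : Algebra (LR 𝔛 h U n) (LR 𝔛 h Z' n) := (rsL 𝔛 h hZU n).toAlgebra
  letI : Module (LR 𝔛 h U n) Γ(G, 𝔛.lvU h n Z') := Module.compHom _ (rsL 𝔛 h hZU n)
  haveI : IsScalarTower (LR 𝔛 h U n) (LR 𝔛 h Z' n) Γ(G, 𝔛.lvU h n Z') := .of_algebraMap_smul fun _ _ => rfl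
  haveI : Module.Flat (LR 𝔛 h U n) (LR 𝔛 h Z' n) := rsL_flat (h := h) hU hZ' hZU n
  have hbc := isBaseChange_res G (affine_lvU (h := h) hU n) (affine_lvU (h := h) hZ' n) (lvU_mono 𝔛 h hZU n)
  have hx := mem_span_relations hbc (fun i : ↥S => (show Γ(G, 𝔛.lvU h n U) from i.1)) (fun i => pr 𝔛 h Z' n (dd i.1)) (by
    have e := congrArg (FPLocal.mres M (homOfLE hZ'W).op) hd
    rw [map_sum, map_zero, ← Finset.sum_coe_sort] at e
    refine Eq.trans (Finset.sum_congr rfl fun i _ => ?_) e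
    rw [show FPLocal.mres M (homOfLE hZ'W).op (d i.1 • FPLocal.mres M g.op (t i.1)) =
      dd i.1 • FPLocal.mres M (homOfLE hZ'W).op (FPLocal.mres M g.op (t i.1)) from mres_smul' hZ'W _ _, ← FPLocal.mres_comp]
    rfl)
  rw [Submodule.mem_span_image_iff_exists_fun] at hx
  obtain ⟨s, hs, a, ha⟩ := hx
  choose a' ha' using fun k => pr_surjective (h := h) hL hZ' n (a k)
  choose c' hc' using fun (k : ↥s) (i : ↥S) => pr_surjective (h := h) hL hU n (k.1 i)
  let cc : ↥s → M.val.obj (op U) → OR 𝔛 h U := fun k i => if hi : i ∈ S then c' k ⟨i, hi⟩ else 0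
  have hcc : ∀ k, ∑ i ∈ S, cc k i • t i = 0 := fun k => by
    rw [← Finset.sum_coe_sort S]
    refine Eq.trans (Finset.sum_congr rfl fun i _ => ?_) (hs k.2 : ∑ i, k.1 i • (show Γ(G, 𝔛.lvU h n U) from i.1) = 0)
    show (show Γ(G, 𝔛.lvU h n U) from cc k i.1 • t i.1) = _
    rw [levelPush_smul, show cc k i.1 = c' k i from dif_pos i.2, hc']
    rfl
  let δ : M.val.obj (op U) → OR 𝔛 h Z' := fun i => dd i - ∑ k, a' k * rsO 𝔛 h hZU (cc k i)
  have hδ : ∀ i ∈ S, pr 𝔛 h Z' n (δ i) = 0 := fun i hi => by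
    have e := congrFun ha ⟨i, hi⟩
    simp only [Finset.sum_apply, Pi.smul_apply, smul_eq_mul] at e
    rw [map_sub, map_sum, sub_eq_zero]
    refine e.symm.trans (Finset.sum_congr rfl fun k _ => ?_)
    rw [map_mul, ha', pr_rsO, show cc k i = c' k ⟨i, hi⟩ from dif_pos hi, hc']
    rfl
  have hγZ : ∀ i : ↥S, ∃ β : ↥γs → OR 𝔛 h Z', ∑ y, β y * rsO 𝔛 h hZU y.1 = δ i.1 := fun i => by
    have h1 : δ i.1 ∈ Ideal.span (rsO 𝔛 h hZU '' (γs : Set (OR 𝔛 h U))) := by
      rw [← Ideal.map_span]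
      rw [show Ideal.span (γs : Set (OR 𝔛 h U)) = II 𝔛 h U ^ (n + 1) from hγ, Ideal.map_pow, II_map hL hU hZ' hZU, ← ker_pr hL hZ' n, RingHom.mem_ker]
      exact hδ i.1 i.2
    rw [show (rsO 𝔛 h hZU '' (γs : Set (OR 𝔛 h U))) = Set.range fun y : ↥γs => rsO 𝔛 h hZU y.1 by
      ext z; simp [Set.mem_image]] at h1
    obtain ⟨β, hβ⟩ := (Submodule.mem_span_range_iff_exists_fun _).1 h1
    exact ⟨β, hβ⟩
  choose β hβ using hγZ
  have hkill : ∀ (i : ↥S) (y : ↥γs), ∑ j ∈ ({i.1} : Finset _), (if j = i.1 then y.1 else 0) • t j = 0 := fun i y => by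
    rw [Finset.sum_singleton, if_pos rfl]
    show (show Γ(G, 𝔛.lvU h n U) from y.1 • t i.1) = 0
    rw [levelPush_smul, show pr 𝔛 h U n y.1 = 0 by
      rw [← RingHom.mem_ker, ker_pr hL hU n, ← hγ]; exact Submodule.subset_span y.2, zero_smul]
  refine ⟨↥s ⊕ (↥S × ↥γs), inferInstance,
    Sum.elim (fun k => rsO 𝔛 h hZZ' (a' k)) (fun p => rsO 𝔛 h hZZ' (β p.1 p.2)),
    Sum.elim (fun k => mkFinRel t S (cc k) (fun i hi => dif_neg hi) (hcc k))
      (fun p => mkFinRel t {p.1.1} (fun j => if j = p.1.1 then p.2.1 else 0)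
        (fun j hj => if_neg fun h' => hj (Finset.mem_singleton.2 h')) (hkill p.1 p.2)), fun i => ?_⟩
  rw [Fintype.sum_sum_type]
  show ∑ k, rsO 𝔛 h hZZ' (a' k) * rsO 𝔛 h (leOfHom (l ≫ g)) (cc k i) +
      ∑ p : ↥S × ↥γs, rsO 𝔛 h hZZ' (β p.1 p.2) * rsO 𝔛 h (leOfHom (l ≫ g)) (if i = p.1.1 then p.2.1 else 0) =
      rsO 𝔛 h (leOfHom l) (show OR 𝔛 h W from d i)
  have key : ∑ k, a' k * rsO 𝔛 h hZU (cc k i) +
      ∑ p : ↥S × ↥γs, β p.1 p.2 * rsO 𝔛 h hZU (if i = p.1.1 then p.2.1 else 0) = dd i := by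
    by_cases hi : i ∈ S
    · rw [Fintype.sum_prod_type, Finset.sum_eq_single (⟨i, hi⟩ : ↥S) (fun j _ hj => Finset.sum_eq_zero fun y _ => by
          rw [if_neg fun h' => hj (Subtype.ext h'.symm), map_zero, mul_zero]) (fun h' => absurd (Finset.mem_univ _) h')]
      simp only [if_true]
      rw [hβ ⟨i, hi⟩]
      exact add_sub_cancel _ _
    · rw [show dd i = 0 by show rsO 𝔛 h hZ'W (d i) = 0; rw [hd0 i hi]; exact map_zero _,
        Finset.sum_eq_zero (fun k _ => by rw [show cc k i = 0 from dif_neg hi, map_zero, mul_zero]), zero_add]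
      exact Finset.sum_eq_zero fun p _ => by rw [if_neg fun h' : i = p.1.1 => hi (h' ▸ p.1.2), map_zero, mul_zero]
  have e := congrArg (rsO 𝔛 h hZZ') key
  simp only [map_add, map_sum, map_mul, dd, rsO_rsO] at e
  exact e

include hL in
theorem isQCT_levelPush : FTors.IsQCT 𝔛 h ((FSch.levelMor 𝔛 h n).push.obj G) :=
  ⟨isT_levelPush n G, (affQC_levelPush hL n G).isQuasicoherent⟩

include hL in
/-- Direct image from a level of a coherent module is coherent. -/
theorem isCohF_levelPush [SheafOfModules.IsFiniteType.{u} (R := (𝔛.X n).ringCatSheaf) G] : FSch.IsCohF 𝔛 h ((FSch.levelMor 𝔛 h n).push.obj G) := by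
  classical
  haveI := hL.2.2 n
  haveI := (affQC_levelPush (h := h) hL n G).isQuasicoherent
  haveI : SheafOfModules.IsFiniteType.{u} ((FSch.levelMor 𝔛 h n).push.obj G) := by
    refine FPLocal.isFiniteType_of_hasGen _ fun W => ⟨{ arrows := fun Z _ => FPLocal.HasGen _ Z
                                                        downward_closed := fun {Y Z} _ ⟨I, hI, s, hs⟩ k =>
                                                          ⟨I, hI, _, hs.restrict k⟩ },
      fun x hx => ?_, fun Z _ hZ => hZ⟩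
    obtain ⟨U, hU, hxU, hUW⟩ := exists_affine_le (𝔛 := 𝔛) hx
    refine ⟨U, homOfLE hUW, ?_, hxU⟩
    haveI := QCohLib.finite_sections_of_isCoh (X := 𝔛.X n) (M := G) ⟨inferInstance, inferInstance⟩ (affine_lvU (h := h) hU n)
    obtain ⟨T, hT⟩ := Module.Finite.fg_top (R := LR 𝔛 h U n) (M := Γ(G, 𝔛.lvU h n U))
    refine ⟨↥T, inferInstance, fun y => (show ((FSch.levelMor 𝔛 h n).push.obj G).val.obj (op U) from y.1),
      fun A k m => ⟨affSieve _ A, affSieve_mem _ A, fun Z q hq => ?_⟩⟩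
    obtain ⟨Z', hZ', hZZ', hZ'A⟩ := hq
    obtain ⟨Q, _, p, a, ha⟩ := exists_combo_levelPush hL n G hU hZ' (hZ'A.trans (leOfHom k)) hT
      (show Γ(G, 𝔛.lvU h n Z') from FPLocal.mres _ (homOfLE hZ'A).op m)
    refine ⟨fun y => ∑ x ∈ Finset.univ.filter (fun x => (p x).1 = y.1), rsO 𝔛 h hZZ' (a x), ?_⟩
    have e := congrArg (FPLocal.mres ((FSch.levelMor 𝔛 h n).push.obj G) (homOfLE hZZ').op) ha
    rw [map_sum] at e
    refine Eq.trans ?_ (e.trans (by rw [← FPLocal.mres_comp]; rfl))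
    rw [← Finset.sum_fiberwise_of_maps_to (t := (Finset.univ : Finset ↥T)) (g := fun x => (⟨(p x).1, (p x).2⟩ : ↥T))
      (fun x _ => Finset.mem_univ _)]
    refine Finset.sum_congr rfl fun y _ => ?_
    rw [Finset.sum_smul]
    refine Finset.sum_congr (Finset.filter_congr fun x _ => ⟨fun e => Subtype.ext e, fun e => congrArg Subtype.val e⟩) fun x hx => ?_
    rw [mres_smul', ← FPLocal.mres_comp, show (p x).1 = y.1 from congrArg Subtype.val (Finset.mem_filter.1 hx).2]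
    rfl
  exact isCohF_of_qc_ft hL _

variable {M : FSch.ModF 𝔛 h}

/-- The map from a level of the module of killed sections. -/
def killedToMod : (FSch.levelMor 𝔛 h n).push.obj (killedMod hL M n) ⟶ M :=
  let ev : ∀ V : (𝔛.X 0).Opens, Γ(killedMod hL M n, 𝔛.lvU h n V) →+ M.val.obj (op V) := fun V => AddMonoidHom.mk'
    (fun m => FPLocal.mres M (homOfLE (toX_lvU (h := h) n V).ge).op (uv hL M n m)) fun a b =>
      map_add (FPLocal.mres M (homOfLE (toX_lvU (h := h) n V).ge).op) _ _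
  ⟨PresheafOfModules.homMk
    { app := fun V => AddCommGrpCat.ofHom (ev V.unop)
      naturality := fun V V' j => by
        ext m
        show FPLocal.mres M _ (uv hL M n (FPLocal.mres (killedMod hL M n)
          (homOfLE (lvU_mono 𝔛 h (leOfHom j.unop) n)).op m)) = FPLocal.mres M j (FPLocal.mres M _ (uv hL M n m))
        rw [uv_map, ← FPLocal.mres_comp, ← FPLocal.mres_comp]
        rfl }
    (fun V r m => by
      show FPLocal.mres M _ (uv hL M n (pr 𝔛 h V.unop n r • (show Γ(killedMod hL M n, 𝔛.lvU h n V.unop) from m))) =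
        r • FPLocal.mres M _ (uv hL M n m)
      refine uv_smul hL M n _ _ (toX_lvU (h := h) n V.unop).ge r ?_
      exact (congr($((𝔛.X n).presheaf.map_id _) (pr 𝔛 h V.unop n r))).symm)⟩

theorem isIso_killedToMod (hk : ∀ (V : (𝔛.X 0).Opens) (s : M.val.obj (op V)), KB M n s) :
    IsIso (killedToMod hL n (M := M)) := by
  haveI : Mono (killedToMod hL n (M := M)) := FPLocal.mono_of_locally_zero _ fun V m hm =>
    ⟨⊤, GrothendieckTopology.top_mem _ _, fun Z q _ => by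
      have hm' : FPLocal.mres M (homOfLE (toX_lvU (h := h) n V).ge).op (uv hL M n m) = 0 := hm
      have e := congrArg (FPLocal.mres M (homOfLE (toX_lvU (h := h) n V).le).op) hm'
      rw [map_zero, ← FPLocal.mres_comp] at e
      have h0 : uv hL M n m = 0 := (congr($(M.val.presheaf.map_id _) _)).symm.trans e
      exact (congrArg (FPLocal.mres _ q.op) (uv_injective hL M n (h0 : uv hL M n m = uv hL M n 0))).trans (map_zero _)⟩
  haveI : Epi (killedToMod hL n (M := M)) := FPLocal.epi_of_exists_preimage _ fun V m => by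
    refine ⟨⊤, GrothendieckTopology.top_mem _ _, fun Z q _ => ?_⟩
    refine ⟨(⟨FPLocal.mres M (homOfLE (toX_lvU (h := h) n Z).le).op (FPLocal.mres M q.op m),
      FTors.KilledBy.res _ (hk Z (FPLocal.mres M q.op m))⟩ : killed M n (𝔛.lvU h n Z)), ?_⟩
    show FPLocal.mres M _ (FPLocal.mres M _ (FPLocal.mres M q.op m)) = _
    rw [← FPLocal.mres_comp (M := M) (homOfLE (toX_lvU (h := h) n Z).le).op]
    exact congr($(M.val.presheaf.map_id (op Z)) _)
  exact isIso_of_mono_of_epi _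

include hL in
/-- A coherent torsion module comes from a coherent module on one level. -/
theorem exists_level_of_coh [CompactSpace (𝔛.X 0)] {C : FSch.ModF 𝔛 h} (hC : FSch.IsCohF 𝔛 h C) (hT : IsT C) :
    ∃ (m : ℕ) (F : (𝔛.X m).Modules), Coh.IsCoh F ∧ Nonempty ((FSch.levelMor 𝔛 h m).push.obj F ≅ C) := by
  classical
  obtain ⟨A, _, U, gU, hcov, hP⟩ := FPLocal.exists_finite_cover (U := (⊤ : (𝔛.X 0).Opens))
    (P := fun W _ => IsAffineOpen W) (by simpa using isCompact_univ) fun x hx => by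
      obtain ⟨W, hW, hxW, -⟩ := exists_affine_le (𝔛 := 𝔛) hx
      exact ⟨W, homOfLE le_top, hxW, hW⟩
  choose I K hI hKf s c hs h0 hc using fun a => hasRels_affine hL hC (hP a)
  letI : ∀ a, Fintype (I a) := hI
  have hb : ∀ (a : A) (i : I a), ∃ m, KB C m (s a i) := fun a i => by
    obtain ⟨β, _, W, g, hcv, hW⟩ := FPLocal.exists_finite_cover (hP a).isCompact fun x hx =>
      ((isTorsSect_iff (s a i)).1 (hT _ (s a i))).near hx
    choose m hm using hW
    refine ⟨Finset.univ.sup m, kb_local (FPLocal.locally_of_near (fun Z Y l q hq => ?_) fun x hx => ?_)⟩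
    · rw [FPLocal.mres_comp']
      exact hq.res l
    · obtain ⟨e, he⟩ := hcv x hx
      exact ⟨W e, g e, he, (hm e).mono (Finset.le_sup (Finset.mem_univ e))⟩
  choose m hm using hb
  let M0 := Finset.univ.sup fun p : Σ a, I a => m p.1 p.2
  have hk : ∀ (V : (𝔛.X 0).Opens) (z : C.val.obj (op V)), KB C M0 z := fun V z => by
    refine kb_local (FPLocal.locally_of_near (fun Z Y l q hq => ?_) fun x hx => ?_)
    · rw [FPLocal.mres_comp']
      exact hq.res l
    obtain ⟨a, hxa⟩ := hcov x trivial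
    obtain ⟨S, hS, hS'⟩ := hs a (homOfLE (inf_le_right : V ⊓ U a ≤ U a)) (FPLocal.mres C (homOfLE inf_le_left).op z)
    obtain ⟨Z, g, hg, hxZ⟩ := hS x ⟨hx, hxa⟩
    obtain ⟨e, he⟩ := hS' g hg
    refine ⟨Z, homOfLE ((leOfHom g).trans inf_le_left), hxZ, ?_⟩
    show KB C M0 (FPLocal.mres C _ z)
    have he' : FPLocal.mres C (homOfLE ((leOfHom g).trans inf_le_left)).op z =
        ∑ i, e i • FPLocal.mres C (g ≫ homOfLE (inf_le_right : V ⊓ U a ≤ U a)).op (s a i) := by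
      rw [he, ← FPLocal.mres_comp]
      rfl
    rw [he']
    refine Finset.sum_induction _ (fun w => KB C M0 w) (fun x y hx hy => hx.add hy) (FTors.KilledBy.zero _ _ _ _) fun i _ => ?_
    exact (((hm a i).mono (Finset.le_sup (f := fun p : Σ a, I a => m p.1 p.2) (Finset.mem_univ ⟨a, i⟩))).res _).smul _
  haveI := isIso_killedToMod hL M0 hk
  haveI : SheafOfModules.IsFinitePresentation (R := ModSite.ringSh (𝔛.Osh h)) C := hC
  haveI : SheafOfModules.IsQuasicoherent.{u} C := (affQC_of_coh hL hC).isQuasicoherent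
  haveI hq := isQCoh_killedMod hL C M0
  refine ⟨M0, killedMod hL C M0, ⟨hq, ?_⟩, ⟨asIso (killedToMod hL M0)⟩⟩
  haveI : SheafOfModules.IsFinitePresentation (R := ModSite.ringSh (𝔛.Osh h))
      ((FSch.levelMor 𝔛 h M0).push.obj (killedMod hL C M0)) :=
    (SheafOfModules.isFinitePresentation (ModSite.ringSh (𝔛.Osh h))).prop_of_iso
      (asIso (killedToMod hL M0 (M := C))).symm hC
  refine FPLocal.isFiniteType_of_hasGen (killedMod hL C M0) fun B => ?_
  let P := (FSch.levelMor 𝔛 h M0).push.obj (killedMod hL C M0)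
  obtain ⟨S, hS, hS'⟩ := FPLocal.exists_sieve_hasGen P (𝔛.toX M0 ⁻¹ᵁ B)
  refine ⟨{ arrows := fun Z _ => FPLocal.HasGen (killedMod hL C M0) Z
            downward_closed := fun {Y Z} _ ⟨I, hI, s, hs⟩ k => ⟨I, hI, _, hs.restrict k⟩ }, fun y hy => ?_,
    fun Z _ hZ => hZ⟩
  obtain ⟨x, rfl⟩ := FSch.Sys.toX_surjective 𝔛 h M0 y
  obtain ⟨Z, q, hq', hxZ⟩ := hS x hy
  obtain ⟨I', hI', w, hw⟩ := hS' q hq'
  refine ⟨𝔛.lvU h M0 Z, homOfLE (lvU_le_of_le M0 (leOfHom q)), ⟨I', hI', fun i => w i, fun Y g z => ?_⟩, ?_⟩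
  · have hY : 𝔛.lvU h M0 (𝔛.toX M0 ⁻¹ᵁ Y) = Y := lvU_toX Y
    have hYZ : 𝔛.toX M0 ⁻¹ᵁ Y ≤ Z := (toX_mono (leOfHom g)).trans (toX_lvU (h := h) M0 Z).le
    obtain ⟨T, hT, hT'⟩ := hw (homOfLE hYZ)
      (show P.val.obj (op (𝔛.toX M0 ⁻¹ᵁ Y)) from FPLocal.mres (killedMod hL C M0) (homOfLE hY.le).op z)
    refine ⟨{ arrows := fun A l => T.arrows (homOfLE (toX_mono (leOfHom l)))
              downward_closed := fun {A B} l hl k => T.downward_closed hl (homOfLE (toX_mono (leOfHom k))) },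
      fun y hy => ?_, fun A l hl => ?_⟩
    · obtain ⟨x', rfl⟩ := FSch.Sys.toX_surjective 𝔛 h M0 y
      obtain ⟨A', r, hr, hxA'⟩ := hT x' hy
      refine ⟨𝔛.lvU h M0 A', homOfLE (lvU_le_of_le M0 (leOfHom r)),
        T.downward_closed hr (homOfLE (toX_lvU (h := h) M0 A').le), ?_⟩
      show x' ∈ 𝔛.toX M0 ⁻¹ᵁ 𝔛.lvU h M0 A'
      rw [toX_lvU]
      exact hxA'
    obtain ⟨b, hb⟩ := hT' _ hl
    refine ⟨fun i => tw M0 A (pr 𝔛 h _ M0 (b i)), ?_⟩
    have e := congrArg (FPLocal.mres (killedMod hL C M0) (homOfLE (lvU_toX (h := h) A).ge).op) hb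
    rw [map_sum] at e
    refine Eq.trans (Finset.sum_congr rfl fun i _ => ?_) (e.trans ?_)
    · refine Eq.trans ?_ ((killedMod hL C M0).val.map_smul (homOfLE (lvU_toX (h := h) A).ge).op
        (pr 𝔛 h _ M0 (b i)) _).symm
      refine congrArg (tw M0 A (pr 𝔛 h _ M0 (b i)) • ·) ?_
      exact (FPLocal.mres_comp (M := killedMod hL C M0) (homOfLE (lvU_mono 𝔛 h ((toX_mono (leOfHom l)).trans hYZ) M0)).op
        (homOfLE (lvU_toX (h := h) A).ge).op (w i))
    · show FPLocal.mres (killedMod hL C M0) (homOfLE (lvU_toX (h := h) A).ge).op (FPLocal.mres (killedMod hL C M0)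
        (homOfLE (lvU_mono 𝔛 h (toX_mono (leOfHom l)) M0)).op
          (FPLocal.mres (killedMod hL C M0) (homOfLE hY.le).op z)) = _
      rw [← FPLocal.mres_comp, ← FPLocal.mres_comp]
      rfl
  · show x ∈ 𝔛.toX M0 ⁻¹ᵁ 𝔛.lvU h M0 Z
    rw [toX_lvU]
    exact hxZ

end Groth.Agent.FCompl
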