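import Groth.Agent.FComplLib.Rings
import Groth.Agent.PullbackMod.Props

/-!
# Sections of the module attached to a coherent system on affine opens
-/

set_option autoImplicit false
set_option linter.style.haveILetI false
set_option backward.isDefEq.respectTransparency false
universe u

open CategoryTheory CategoryTheory.Limits AlgebraicGeometry TopologicalSpace Opposite

noncomputable section

namespace Groth.Agent.FCompl

section Scheme

variable {X : Scheme.{u}} (M : X.Modules) {W W' : X.Opens}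

/-- On a quasi-coherent module restriction between affine opens is a base change. -/
theorem isBaseChange_res [Coh.IsQCoh M] (hW : IsAffineOpen W) (hW' : IsAffineOpen W') (e : W' ≤ W) :
    letI : Algebra Γ(X, W) Γ(X, W') := (X.presheaf.map (homOfLE e).op).hom.toAlgebra
    letI : Module Γ(X, W) Γ(M, W') := Module.compHom _ (X.presheaf.map (homOfLE e).op).hom
    haveI : IsScalarTower Γ(X, W) Γ(X, W') Γ(M, W') := .of_algebraMap_smul fun _ _ => rfl
    IsBaseChange Γ(X, W')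
      ({ (M.presheaf.map (homOfLE e).op).hom with map_smul' := fun a m => M.val.map_smul (homOfLE e).op a m } :
        Γ(M, W) →ₗ[Γ(X, W)] Γ(M, W')) := by
  let P := (Scheme.Modules.pullback (𝟙 X)).obj M
  haveI : (Scheme.Modules.pushforward (𝟙 X)).IsEquivalence :=
    Functor.isEquivalence_of_iso (Scheme.Modules.pushforwardId X).symm
  haveI : (Scheme.Modules.pullback (𝟙 X)).IsEquivalence :=
    (Scheme.Modules.pullbackPushforwardAdjunction (𝟙 X)).isEquivalence_left_of_isEquivalence_right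
  let η : M ≅ (Scheme.Modules.pushforward (𝟙 X)).obj P :=
    asIso ((Scheme.Modules.pullbackPushforwardAdjunction (𝟙 X)).unit.app M)
  let ρ : Γ(X, W) →+* Γ(X, W') := (X.presheaf.map (homOfLE e).op).hom
  have hρ : ((𝟙 X : X ⟶ X).appLE W W' e).hom = ρ := by simp [Scheme.Hom.appLE, ρ]
  letI : Algebra Γ(X, W) Γ(X, W') := ρ.toAlgebra
  letI : Module Γ(X, W) Γ(M, W') := Module.compHom _ ρ
  haveI : IsScalarTower Γ(X, W) Γ(X, W') Γ(M, W') := .of_algebraMap_smul fun _ _ => rfl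
  letI : Module Γ(X, W) Γ(P, W') := Module.compHom _ ρ
  haveI : IsScalarTower Γ(X, W) Γ(X, W') Γ(P, W') := .of_algebraMap_smul fun _ _ => rfl
  let l' : Γ(M, W) →ₗ[Γ(X, W)] Γ(P, W') :=
    { PullbackMod.pullMap (𝟙 X) M e with
      map_smul' := fun a m => by
        refine (PullbackMod.pullMap_smul (𝟙 X) M e a m).trans ?_
        rw [show ((𝟙 X : X ⟶ X).appLE W W' e) a = ρ a from congr($hρ a)]
        rfl }
  have hl' : IsBaseChange Γ(X, W') l' := by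
    have h1 := PullbackMod.isBaseChange_pullMapL (𝟙 X) M hW hW' e
    convert h1 using 1
    · exact Algebra.algebra_ext _ _ fun a => congr($hρ.symm a)
    · exact LinearMap.ext fun m => rfl
  let θ : Γ(P, W') ≃ₗ[Γ(X, W')] Γ(M, W') :=
    LinearEquiv.ofLinearMap
      { toFun := η.inv.app W', map_add' := map_add _, map_smul' := fun a m => η.inv.app_smul a m }
      { toFun := η.hom.app W', map_add' := map_add _, map_smul' := fun a m => η.hom.app_smul a m }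
      (LinearMap.ext fun x => congr($(η.hom_inv_id).app W' x))
      (LinearMap.ext fun x => congr($(η.inv_hom_id).app W' x))
  show IsBaseChange Γ(X, W') _
  refine IsBaseChange.of_equiv (hl'.equiv ≪≫ₗ θ) fun m => ?_
  show θ (hl'.equiv (1 ⊗ₜ m)) = _
  rw [IsBaseChange.equiv_tmul, one_smul]
  show η.inv.app W' (P.presheaf.map (homOfLE e).op (η.hom.app W m)) = M.presheaf.map (homOfLE e).op m
  have hn := congr($(η.hom.mapPresheaf.naturality (homOfLE e).op) m)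
  refine (congrArg (η.inv.app W') (Eq.trans ?_ hn.symm)).trans
    (congr($(η.hom_inv_id).app W' (M.presheaf.map (homOfLE e).op m)))
  rfl

end Scheme

variable {𝔛 : FSch.Sys.{u}} {h : 𝔛.IsFormal} (𝔐 : FSch.ModSys 𝔛) {U V : (𝔛.X 0).Opens}

variable (h U) in
/-- Sections of the `n`-th level module over `U`. -/
abbrev LM (n : ℕ) : Type u := Γ(𝔐.F n, 𝔛.lvU h n U)

variable (h U) in
/-- Sections of the attached module over `U`. -/
abbrev OM : Type u := (𝔐.realMod h).val.obj (op U)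

variable (h U) in
/-- The projection to the `n`-th level. -/
def pm (n : ℕ) : OM h 𝔐 U →+ LM h 𝔐 U n :=
  ((FSch.realProj 𝔛 h 𝔐.F 𝔐.toPush n).val.app (op U)).hom.toAddMonoidHom

variable (h U) in
/-- The transition. -/
def tm (n : ℕ) : LM h 𝔐 U (n + 1) →+ LM h 𝔐 U n :=
  ((𝔐.F n).presheaf.map (homOfLE (𝔛.lvU_le h n U)).op).hom.comp
    ((𝔐.toPush n).app (𝔛.lvU h (n + 1) U)).hom

variable (h) in
/-- Restriction on the `n`-th level. -/
def rsM (hVU : V ≤ U) (n : ℕ) : LM h 𝔐 U n →+ LM h 𝔐 V n :=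
  ((𝔐.F n).presheaf.map (homOfLE (lvU_mono 𝔛 h hVU n)).op).hom

variable (h) in
/-- Restriction. -/
def rsOM (hVU : V ≤ U) : OM h 𝔐 U →+ OM h 𝔐 V :=
  ((𝔐.realMod h).val.presheaf.map (homOfLE hVU).op).hom

lemma pm_smul (n : ℕ) (a : OR 𝔛 h U) (m : OM h 𝔐 U) :
    pm h 𝔐 U n (a • m) = pr 𝔛 h U n a • pm h 𝔐 U n m :=
  map_smul ((FSch.realProj 𝔛 h 𝔐.F 𝔐.toPush n).val.app (op U)).hom a m

lemma rsOM_smul (hVU : V ≤ U) (a : OR 𝔛 h U) (m : OM h 𝔐 U) :
    rsOM h 𝔐 hVU (a • m) = rsO 𝔛 h hVU a • rsOM h 𝔐 hVU m :=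
  (𝔐.realMod h).val.map_smul (homOfLE hVU).op a m

lemma rsM_smul (hVU : V ≤ U) (n : ℕ) (a : LR 𝔛 h U n) (m : LM h 𝔐 U n) :
    rsM h 𝔐 hVU n (a • m) = rsL 𝔛 h hVU n a • rsM h 𝔐 hVU n m :=
  (𝔐.F n).val.map_smul (homOfLE (lvU_mono 𝔛 h hVU n)).op a m

lemma pm_rsOM (hVU : V ≤ U) (n : ℕ) (m : OM h 𝔐 U) :
    pm h 𝔐 V n (rsOM h 𝔐 hVU m) = rsM h 𝔐 hVU n (pm h 𝔐 U n m) :=
  PresheafOfModules.naturality_apply (FSch.realProj 𝔛 h 𝔐.F 𝔐.toPush n).val (homOfLE hVU).op m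

lemma tm_pm (n : ℕ) (m : OM h 𝔐 U) : tm h 𝔐 U n (pm h 𝔐 U (n + 1) m) = pm h 𝔐 U n m :=
  congr($(FSch.realProj_map 𝔛 h 𝔐.F 𝔐.toPush n).val.app (op U) m)

lemma tm_smul (n : ℕ) (a : LR 𝔛 h U (n + 1)) (m : LM h 𝔐 U (n + 1)) :
    tm h 𝔐 U n (a • m) = tr 𝔛 h U n a • tm h 𝔐 U n m := by
  refine (congrArg _ (Scheme.Modules.Hom.app_smul (𝔐.toPush n) a m)).trans ?_
  exact (𝔐.F n).val.map_smul (homOfLE (𝔛.lvU_le h n U)).op ((𝔛.ι n).app _ a) _

/-- Sections of the attached module are compatible families. -/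
theorem om_existsUnique (b : ∀ n, LM h 𝔐 U n) (hb : ∀ n, tm h 𝔐 U n (b (n + 1)) = b n) :
    ∃! x, ∀ n, pm h 𝔐 U n x = b n := by
  let L := FSch.levelSysOf 𝔛 h 𝔐.F 𝔐.toPush
  let E : FSch.ModF 𝔛 h ⥤ Type u :=
    SheafOfModules.evaluation (ModSite.ringSh (𝔛.Osh h)) (op U) ⋙ CategoryTheory.forget _
  let F : ℕᵒᵖ ⥤ Type u := L ⋙ E
  have hlim : IsLimit (E.mapCone (limit.cone L)) := isLimitOfPreserves _ (limit.isLimit _)
  have hsec : (fun j : ℕᵒᵖ => b j.unop) ∈ F.sections := by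
    rintro ⟨k⟩ ⟨j⟩ g
    have hjk : j ≤ k := leOfHom g.unop
    obtain rfl : g = (homOfLE hjk).op := Subsingleton.elim _ _
    induction k, hjk using Nat.le_induction with
    | base =>
      rw [show (homOfLE (le_refl j)).op = 𝟙 (op j) from rfl, F.map_id]; rfl
    | succ k hk ih =>
      rw [show (homOfLE (hk.trans (Nat.le_succ k))).op =
        (homOfLE (Nat.le_add_right k 1)).op ≫ (homOfLE hk).op from rfl, F.map_comp]
      refine Eq.trans (congrArg (F.map (homOfLE hk).op) ?_) ih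
      show (L.map (homOfLE (Nat.le_add_right k 1)).op).val.app (op U) (b (k + 1)) = b k
      rw [FSch.levelSysOf_map_succ]
      exact hb k
  obtain ⟨z, hz, huniq⟩ := (Types.isLimit_iff _).1 ⟨hlim⟩ _ hsec
  exact ⟨z, fun n => hz (op n), fun y hy => huniq y fun j => hy j.unop⟩

lemma om_ext {x y : OM h 𝔐 U} (hxy : ∀ n, pm h 𝔐 U n x = pm h 𝔐 U n y) : x = y :=
  (om_existsUnique 𝔐 (fun n => pm h 𝔐 U n y) fun n => tm_pm 𝔐 n y).unique hxy fun _ => rfl

/-- The transition is a base change. -/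
theorem isBaseChange_tm (h𝔐 : 𝔐.IsCoh) (hU : IsAffineOpen U) (n : ℕ) :
    letI : Algebra (LR 𝔛 h U (n + 1)) (LR 𝔛 h U n) := (tr 𝔛 h U n).toAlgebra
    letI : Module (LR 𝔛 h U (n + 1)) (LM h 𝔐 U n) := Module.compHom _ (tr 𝔛 h U n)
    haveI : IsScalarTower (LR 𝔛 h U (n + 1)) (LR 𝔛 h U n) (LM h 𝔐 U n) :=
      .of_algebraMap_smul fun _ _ => rfl
    IsBaseChange (LR 𝔛 h U n)
      ({ tm h 𝔐 U n with map_smul' := tm_smul 𝔐 n } : LM h 𝔐 U (n + 1) →ₗ[LR 𝔛 h U (n + 1)] LM h 𝔐 U n) := by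
  haveI : Coh.IsQCoh (𝔐.F (n + 1)) := (h𝔐 (n + 1)).1
  let W := 𝔛.lvU h (n + 1) U
  let W' := 𝔛.lvU h n U
  let P := (Scheme.Modules.pullback (𝔛.ι n)).obj (𝔐.F (n + 1))
  letI : Algebra (LR 𝔛 h U (n + 1)) (LR 𝔛 h U n) := (tr 𝔛 h U n).toAlgebra
  letI : Module (LR 𝔛 h U (n + 1)) (LM h 𝔐 U n) := Module.compHom _ (tr 𝔛 h U n)
  haveI : IsScalarTower (LR 𝔛 h U (n + 1)) (LR 𝔛 h U n) (LM h 𝔐 U n) := .of_algebraMap_smul fun _ _ => rfl
  letI : Module (LR 𝔛 h U (n + 1)) Γ(P, W') := Module.compHom _ (tr 𝔛 h U n)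
  haveI : IsScalarTower (LR 𝔛 h U (n + 1)) (LR 𝔛 h U n) Γ(P, W') := .of_algebraMap_smul fun _ _ => rfl
  have hl := PullbackMod.isBaseChange_pullMapL (𝔛.ι n) (𝔐.F (n + 1)) (affine_lvU (h := h) hU (n + 1))
    (affine_lvU hU n) (𝔛.lvU_le h n U)
  let θ : Γ(P, W') ≃ₗ[LR 𝔛 h U n] LM h 𝔐 U n :=
    LinearEquiv.ofLinearMap
      { toFun := (𝔐.e n).hom.app W', map_add' := map_add _, map_smul' := fun a m => (𝔐.e n).hom.app_smul a m }
      { toFun := (𝔐.e n).inv.app W', map_add' := map_add _, map_smul' := fun a m => (𝔐.e n).inv.app_smul a m }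
      (LinearMap.ext fun x => congr($((𝔐.e n).inv_hom_id).app W' x))
      (LinearMap.ext fun x => congr($((𝔐.e n).hom_inv_id).app W' x))
  refine IsBaseChange.of_equiv (hl.equiv ≪≫ₗ θ) fun m => ?_
  show θ (hl.equiv (1 ⊗ₜ m)) = tm h 𝔐 U n m
  rw [IsBaseChange.equiv_tmul, one_smul]
  show (𝔐.e n).hom.app W' (PullbackMod.pullMap (𝔛.ι n) (𝔐.F (n + 1)) (𝔛.lvU_le h n U) m) = _
  show _ = (𝔐.F n).presheaf.map (homOfLE (𝔛.lvU_le h n U)).op
    (((Scheme.Modules.pullbackPushforwardAdjunction (𝔛.ι n)).homEquiv _ _ (𝔐.e n).hom).app W m)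
  rw [Adjunction.homEquiv_unit]
  exact congr($((𝔐.e n).hom.mapPresheaf.naturality (homOfLE (𝔛.lvU_le h n U)).op)
    (((Scheme.Modules.pullbackPushforwardAdjunction (𝔛.ι n)).unit.app (𝔐.F (n + 1))).app W m))

lemma tm_surjective (h𝔐 : 𝔐.IsCoh) (hU : IsAffineOpen U) (n : ℕ) : Function.Surjective (tm h 𝔐 U n) := by
  intro z
  letI : Algebra (LR 𝔛 h U (n + 1)) (LR 𝔛 h U n) := (tr 𝔛 h U n).toAlgebra
  letI : Module (LR 𝔛 h U (n + 1)) (LM h 𝔐 U n) := Module.compHom _ (tr 𝔛 h U n)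
  haveI : IsScalarTower (LR 𝔛 h U (n + 1)) (LR 𝔛 h U n) (LM h 𝔐 U n) := .of_algebraMap_smul fun _ _ => rfl
  have hb := isBaseChange_tm 𝔐 h𝔐 hU n (h := h)
  obtain ⟨y, rfl⟩ := hb.equiv.surjective z
  induction y using TensorProduct.induction_on with
  | zero => exact ⟨0, by simp⟩
  | add a b ha hb' =>
    obtain ⟨a', ha'⟩ := ha
    obtain ⟨b', hb''⟩ := hb'
    exact ⟨a' + b', by rw [map_add, map_add, ha', hb'']⟩
  | tmul b m =>
    obtain ⟨a, rfl⟩ := tr_surjective hU n b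
    exact ⟨a • m, by rw [tm_smul, IsBaseChange.equiv_tmul]; rfl⟩

lemma ker_tm (h𝔐 : 𝔐.IsCoh) (hU : IsAffineOpen U) (n : ℕ) (m : LM h 𝔐 U (n + 1)) :
    tm h 𝔐 U n m = 0 ↔ m ∈ RingHom.ker (tr 𝔛 h U n) • (⊤ : Submodule (LR 𝔛 h U (n + 1)) (LM h 𝔐 U (n + 1))) := by
  letI : Algebra (LR 𝔛 h U (n + 1)) (LR 𝔛 h U n) := (tr 𝔛 h U n).toAlgebra
  letI : Module (LR 𝔛 h U (n + 1)) (LM h 𝔐 U n) := Module.compHom _ (tr 𝔛 h U n)
  haveI : IsScalarTower (LR 𝔛 h U (n + 1)) (LR 𝔛 h U n) (LM h 𝔐 U n) := .of_algebraMap_smul fun _ _ => rfl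
  have hb := isBaseChange_tm 𝔐 h𝔐 hU n (h := h)
  let K := RingHom.ker (tr 𝔛 h U n)
  let eA : (LR 𝔛 h U (n + 1) ⧸ K) ≃ₐ[LR 𝔛 h U (n + 1)] LR 𝔛 h U n :=
    AlgEquiv.ofRingEquiv (f := RingHom.quotientKerEquivOfSurjective (tr_surjective hU n)) fun x => rfl
  constructor
  · intro hm
    have h1 : (1 : LR 𝔛 h U n) ⊗ₜ[LR 𝔛 h U (n + 1)] m = 0 :=
      hb.equiv.injective (by rw [IsBaseChange.equiv_tmul, one_smul, map_zero]; exact hm)
    have h2 := congrArg (TensorProduct.map eA.symm.toLinearMap LinearMap.id) h1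
    rw [TensorProduct.map_tmul, map_zero] at h2
    have h3 := congrArg (TensorProduct.quotTensorEquivQuotSMul (LM h 𝔐 U (n + 1)) K) h2
    rw [map_zero, show eA.symm.toLinearMap 1 = (1 : LR 𝔛 h U (n + 1) ⧸ K) from map_one eA.symm] at h3
    exact (Submodule.Quotient.mk_eq_zero _).1 (((TensorProduct.quotTensorEquivQuotSMul_mk_tmul _ 1 m).trans
      (congrArg Submodule.Quotient.mk (one_smul _ m))).symm.trans h3)
  · intro hm
    refine Submodule.smul_induction_on hm (fun a ha x _ => ?_) fun x y hx hy => by rw [map_add, hx, hy, add_zero]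
    rw [tm_smul, show tr 𝔛 h U n a = 0 from ha, zero_smul]

section Main

variable (hL : 𝔛.IsLocNoethFormal) (h𝔐 : 𝔐.IsCoh) (hU : IsAffineOpen U)

include h𝔐 hU in
lemma lm_finite (n : ℕ) : Module.Finite (LR 𝔛 h U n) (LM h 𝔐 U n) :=
  haveI := (h𝔐 n).1
  QCohLib.finite_sections _ (h𝔐 n).2 (affine_lvU hU n)

include hL h𝔐 hU in
/-- The sections of the attached module on an affine open form the limit of an adic tower. -/
theorem mod_main : Module.Finite (OR 𝔛 h U) (OM h 𝔐 U) ∧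
    ∀ n, Function.Surjective (pm h 𝔐 U n) ∧
      ∀ m, pm h 𝔐 U n m = 0 ↔ m ∈ II 𝔛 h U ^ (n + 1) • (⊤ : Submodule (OR 𝔛 h U) (OM h 𝔐 U)) := by
  let M : ℕ → Type u := LM h 𝔐 U
  letI : ∀ n, Module (OR 𝔛 h U) (M n) := fun n => Module.compHom _ (pr 𝔛 h U n)
  letI : ∀ n, Algebra (OR 𝔛 h U) (LR 𝔛 h U n) := fun n => (pr 𝔛 h U n).toAlgebra
  haveI : ∀ n, IsScalarTower (OR 𝔛 h U) (LR 𝔛 h U n) (M n) := fun n => .of_algebraMap_smul fun _ _ => rfl
  let f : ∀ n, M (n + 1) →ₗ[OR 𝔛 h U] M n := fun n =>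
    { tm h 𝔐 U n with
      map_smul' := fun a m => by
        refine (tm_smul 𝔐 n (pr 𝔛 h U (n + 1) a) m).trans ?_
        rw [tr_pr]; rfl }
  let π : ∀ n, OM h 𝔐 U →ₗ[OR 𝔛 h U] M n := fun n => { pm h 𝔐 U n with map_smul' := pm_smul 𝔐 n }
  haveI := complete (h := h) hL hU
  haveI := lm_finite 𝔐 h𝔐 hU (h := h)
  have h0 : Module.Finite (OR 𝔛 h U) (M 0) := by
    haveI : Module.Finite (OR 𝔛 h U) (LR 𝔛 h U 0) :=
      Module.Finite.of_surjective (Algebra.linearMap _ _) (pr_surjective hL hU 0)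
    exact Module.Finite.trans (LR 𝔛 h U 0) _
  obtain ⟨h1, -, h3⟩ := InvSys.main (I := II 𝔛 h U) (f := f) (π := π) (fun n => tm_surjective 𝔐 h𝔐 hU n)
    (fun n => eq_bot_iff.2 (Submodule.smul_le.2 fun a ha x _ => by
      rw [← ker_pr hL hU n, RingHom.mem_ker] at ha
      show pr 𝔛 h U n a • x = 0
      rw [ha, zero_smul]))
    (fun n => by
      ext m
      refine (LinearMap.mem_ker).trans ((ker_tm 𝔐 h𝔐 hU n m).trans ?_)
      have hmap : RingHom.ker (tr 𝔛 h U n) = (II 𝔛 h U ^ (n + 1)).map (pr 𝔛 h U (n + 1)) := by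
        rw [← ker_pr hL hU n, show RingHom.ker (pr 𝔛 h U n) =
          (RingHom.ker (tr 𝔛 h U n)).comap (pr 𝔛 h U (n + 1)) from Ideal.ext fun z => by
            simp only [Ideal.mem_comap, RingHom.mem_ker, tr_pr],
          Ideal.map_comap_of_surjective _ (pr_surjective hL hU (n + 1))]
      have hr := Submodule.ext_iff.1 (Ideal.smul_restrictScalars (S := LR 𝔛 h U (n + 1)) (II 𝔛 h U ^ (n + 1))
        (⊤ : Submodule (LR 𝔛 h U (n + 1)) (M (n + 1)))) m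
      simp only [Submodule.restrictScalars_mem, Submodule.restrictScalars_top] at hr
      rw [hmap]
      exact hr)
    (fun n => LinearMap.ext (tm_pm 𝔐 n)) (fun x hx => om_ext 𝔐 fun n => (hx n).trans (map_zero _).symm)
    (fun y hy => (om_existsUnique 𝔐 y hy).exists) h0
  exact ⟨h1, fun n => ⟨(h3 n).1, fun m => Submodule.ext_iff.1 (h3 n).2 m⟩⟩

end Main

end Groth.Agent.FCompl
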