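import Groth.Agent.FComplLib.Realize
import Groth.Agent.FormalSysLib.Sections

/-!
# Morphisms of coherent modules on a locally Noetherian formal scheme
-/

set_option autoImplicit false
set_option linter.style.haveILetI false
set_option linter.unusedVariables false
set_option backward.isDefEq.respectTransparency false
set_option backward.isDefEq.respectTransparency.types false
set_option maxHeartbeats 1000000
universe u

open CategoryTheory CategoryTheory.Limits AlgebraicGeometry TopologicalSpace Opposite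
open scoped TensorProduct

noncomputable section

namespace Groth.Agent.FCompl

variable {𝔛 : FSch.Sys.{u}} {h : 𝔛.IsFormal}

/-- A map of modules on sections. -/
def appL {M N : FSch.ModF 𝔛 h} (θ : M ⟶ N) (U : (𝔛.X 0).Opens) :
    M.val.obj (op U) →ₗ[OR 𝔛 h U] N.val.obj (op U) :=
  (θ.val.app (op U)).hom

lemma appL_res {M N : FSch.ModF 𝔛 h} (θ : M ⟶ N) {U V : (𝔛.X 0).Opens} (hVU : V ≤ U) (x : M.val.obj (op U)) :
    appL θ V (FPLocal.mres M (homOfLE hVU).op x) = FPLocal.mres N (homOfLE hVU).op (appL θ U x) :=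
  PresheafOfModules.naturality_apply θ.val (homOfLE hVU).op x

variable (𝔐 : FSch.ModSys 𝔛)

/-- Sections of the attached module base change along restrictions of affine opens. -/
theorem rsOM_bijective_tensor (hL : 𝔛.IsLocNoethFormal) (h𝔐 : 𝔐.IsCoh) {U V : (𝔛.X 0).Opens}
    (hU : IsAffineOpen U) (hV : IsAffineOpen V) (hVU : V ≤ U) :
    letI := (rsO 𝔛 h hVU).toAlgebra
    letI : Module (OR 𝔛 h U) (OM h 𝔐 V) := Module.compHom _ (rsO 𝔛 h hVU)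
    haveI : IsScalarTower (OR 𝔛 h U) (OR 𝔛 h V) (OM h 𝔐 V) := .of_algebraMap_smul fun _ _ => rfl
    IsBaseChange (OR 𝔛 h V)
      ({ rsOM h 𝔐 hVU with map_smul' := rsOM_smul 𝔐 hVU } : OM h 𝔐 U →ₗ[OR 𝔛 h U] OM h 𝔐 V) := by
  classical
  letI := (rsO 𝔛 h hVU).toAlgebra
  letI : Module (OR 𝔛 h U) (OM h 𝔐 V) := Module.compHom _ (rsO 𝔛 h hVU)
  haveI : IsScalarTower (OR 𝔛 h U) (OR 𝔛 h V) (OM h 𝔐 V) := .of_algebraMap_smul fun _ _ => rfl
  let l : OM h 𝔐 U →ₗ[OR 𝔛 h U] OM h 𝔐 V := { rsOM h 𝔐 hVU with map_smul' := rsOM_smul 𝔐 hVU }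
  show IsBaseChange (OR 𝔛 h V) l
  haveI := noetherian (h := h) hL hV
  obtain ⟨hfU, hU'⟩ := mod_main (h := h) 𝔐 hL h𝔐 hU
  haveI := hfU
  obtain ⟨m, s, hs⟩ := Submodule.fg_iff_exists_fin_generating_family.1 (Module.Finite.fg_top (R := OR 𝔛 h U) (M := OM h 𝔐 U))
  let s' : ULift.{u} (Fin m) → OM h 𝔐 U := fun i => s i.down
  have hs' : Submodule.span (OR 𝔛 h U) (Set.range s') = ⊤ := by
    rw [← hs]; congr 1; ext z
    exact ⟨fun ⟨i, hi⟩ => ⟨i.down, hi⟩, fun ⟨i, hi⟩ => ⟨⟨i⟩, hi⟩⟩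
  let F : OR 𝔛 h V ⊗[OR 𝔛 h U] OM h 𝔐 U →ₗ[OR 𝔛 h V] OM h 𝔐 V := l.liftBaseChange _
  have hF : ∀ b z, F (b ⊗ₜ z) = b • rsOM h 𝔐 hVU z := fun b z => LinearMap.liftBaseChange_tmul _ _ b z
  have hgen : ∀ z : OR 𝔛 h V ⊗[OR 𝔛 h U] OM h 𝔐 U, ∃ x : ULift.{u} (Fin m) → OR 𝔛 h V,
      z = ∑ i, x i ⊗ₜ s' i := by
    intro z
    induction z using TensorProduct.induction_on with
    | zero => exact ⟨0, by simp⟩
    | tmul b y =>
      have hy : y ∈ Submodule.span (OR 𝔛 h U) (Set.range s') := by rw [hs']; trivial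
      obtain ⟨c, rfl⟩ := (Submodule.mem_span_range_iff_exists_fun _).1 hy
      refine ⟨fun i => rsO 𝔛 h hVU (c i) * b, ?_⟩
      rw [TensorProduct.tmul_sum]
      refine Finset.sum_congr rfl fun i _ => ?_
      rw [← TensorProduct.smul_tmul, Algebra.smul_def]
      rfl
    | add a b ha hb =>
      obtain ⟨x, rfl⟩ := ha
      obtain ⟨y, rfl⟩ := hb
      exact ⟨x + y, by simp [TensorProduct.add_tmul, Finset.sum_add_distrib]⟩
  refine IsBaseChange.of_equiv (LinearEquiv.ofBijective F ⟨?_, ?_⟩) fun z => ?_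
  · rw [injective_iff_map_eq_zero]
    intro z hz
    obtain ⟨x, rfl⟩ := hgen z
    have hx : ∑ i, x i • rsOM h 𝔐 hVU (s' i) = 0 := by
      rw [← hz, map_sum]
      exact Finset.sum_congr rfl fun i _ => (hF _ _).symm
    have key := mem_span_relations_of_levels (rsO 𝔛 h hVU) (rsOM h 𝔐 hVU) (pr 𝔛 h U) (pr 𝔛 h V)
      (rsL 𝔛 h hVU) (pm h 𝔐 U) (pm h 𝔐 V) (rsM h 𝔐 hVU) (II_le_jacobson hL hV) (pr_surjective hL hU)
      (pr_surjective hL hV) (fun n => (ker_pr hL hV n).le.trans (Ideal.pow_le_pow_right (Nat.le_succ n)))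
      (pr_rsO 𝔛 h hVU) (pm_smul 𝔐) (pm_smul 𝔐) (rsM_smul 𝔐 hVU) (pm_rsOM 𝔐 hVU) (rsL_flat hU hV hVU)
      (fun n => haveI := (h𝔐 n).1; isBaseChange_res (𝔐.F n) (affine_lvU hU n) (affine_lvU hV n)
        (lvU_mono 𝔛 h hVU n)) s'
      (fun n z hz => by
        have hz' := ((hU' n).2 z).1 hz
        rw [← hs', Submodule.mem_ideal_smul_span_iff_exists_sum] at hz'
        obtain ⟨b, hb, hbz⟩ := hz'
        refine ⟨fun i => b i, fun i => ?_, ?_⟩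
        · have := hb i
          rwa [← ker_pr hL hU n, RingHom.mem_ker] at this
        · rw [← hbz, Finsupp.sum_fintype]
          exact fun i => zero_smul _ _)
      x hx
    let Φ := Fintype.linearCombination (OR 𝔛 h V) fun i => (1 : OR 𝔛 h V) ⊗ₜ[OR 𝔛 h U] s' i
    have hΦ : ∀ y : ULift.{u} (Fin m) → OR 𝔛 h V, Φ y = ∑ i, y i ⊗ₜ s' i := fun y => by
      rw [Fintype.linearCombination_apply]
      exact Finset.sum_congr rfl fun i _ => by rw [TensorProduct.smul_tmul', smul_eq_mul, mul_one]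
    rw [← hΦ]
    refine (Submodule.span_le (p := LinearMap.ker Φ)).2 ?_ key
    rintro _ ⟨c, hc, rfl⟩
    show Φ _ = 0
    rw [hΦ]
    refine Eq.trans ?_ ((congrArg (fun w => (1 : OR 𝔛 h V) ⊗ₜ[OR 𝔛 h U] w) hc).trans (TensorProduct.tmul_zero _ _))
    rw [TensorProduct.tmul_sum]
    refine Finset.sum_congr rfl fun i _ => ?_
    rw [← TensorProduct.smul_tmul, Algebra.smul_def, mul_one]
    rfl
  · intro z
    have hz : z ∈ Submodule.span (OR 𝔛 h V) (rsOM h 𝔐 hVU '' Set.range s') :=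
      (span_rsOM 𝔐 hL h𝔐 hU hV hVU _ hs').symm ▸ trivial
    rw [← Set.range_comp] at hz
    obtain ⟨c, rfl⟩ := (Submodule.mem_span_range_iff_exists_fun _).1 hz
    exact ⟨∑ i, c i ⊗ₜ s' i, by rw [map_sum]; exact Finset.sum_congr rfl fun i _ => hF _ _⟩
  · show F (1 ⊗ₜ z) = _
    rw [hF, one_smul]
    rfl

section Coh

variable {𝔐} {𝔉 𝔊 : FSch.ModF 𝔛 h}

theorem eps_app_bijective (hL : 𝔛.IsLocNoethFormal) (h𝔉 : FSch.IsCohF 𝔛 h 𝔉) (U : (𝔛.X 0).Opens) :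
    Function.Bijective (appL (eps 𝔉) U) := by
  haveI := eps_isIso hL h𝔉
  exact Function.bijective_iff_has_inverse.mpr ⟨appL (inv (eps 𝔉)) U,
    fun x => congr($(IsIso.hom_inv_id (eps 𝔉)).val.app (op U) x),
    fun x => congr($(IsIso.inv_hom_id (eps 𝔉)).val.app (op U) x)⟩

lemma pm_eps_map (θ : 𝔉 ⟶ 𝔊) (k : ℕ) (U : (𝔛.X 0).Opens) (t : 𝔉.val.obj (op U)) :
    pm h (sysOf 𝔊) U k (appL (eps 𝔊) U (appL θ U t)) =
      (((FSch.levelMor 𝔛 h k).pull.map θ).val.app (op (𝔛.lvU h k U))).hom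
        (pm h (sysOf 𝔉) U k (appL (eps 𝔉) U t)) := by
  show pm h (sysOf 𝔊) U k (((eps 𝔊).val.app (op U)).hom (appL θ U t)) =
    (((FSch.levelMor 𝔛 h k).pull.map θ).val.app (op (𝔛.lvU h k U))).hom
      (pm h (sysOf 𝔉) U k (((eps 𝔉).val.app (op U)).hom t))
  rw [pm_eps, pm_eps]
  exact congr(($((FSch.levelMor 𝔛 h k).adj.unit.naturality θ)).val.app (op U) t)

/-- Surjectivity can be checked on the smallest level. -/
theorem epi_of_surjective_mod (hL : 𝔛.IsLocNoethFormal) (h𝔊 : FSch.IsCohF 𝔛 h 𝔊) (θ : 𝔉 ⟶ 𝔊)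
    (H : ∀ (U : (𝔛.X 0).Opens), IsAffineOpen U → ∀ y, ∃ t : 𝔉.val.obj (op U),
      pm h (sysOf 𝔊) U 0 (appL (eps 𝔊) U (appL θ U t)) = pm h (sysOf 𝔊) U 0 y) : Epi θ := by
  refine FPLocal.epi_of_exists_preimage θ fun W m => ⟨affSieve _ W, affSieve_mem _ W, fun Z g hg => ?_⟩
  obtain ⟨U, hU, hZU, hUW⟩ := hg
  have hsur : ∀ y : OM h (sysOf 𝔊) U, y ∈ LinearMap.range ((appL (eps 𝔊) U).comp (appL θ U)) := by
    haveI := noetherian (h := h) hL hU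
    obtain ⟨hfin, hU'⟩ := mod_main (h := h) (sysOf 𝔊) hL (sysOf_isCoh 𝔊 h𝔊) hU
    haveI := hfin
    intro y
    refine (Submodule.le_of_le_smul_of_le_jacobson_bot Module.Finite.fg_top (II_le_jacobson hL hU)
      fun z _ => ?_) (Submodule.mem_top (x := y))
    obtain ⟨t, ht⟩ := H U hU z
    refine Submodule.mem_sup.2 ⟨_, ⟨t, rfl⟩, z - appL (eps 𝔊) U (appL θ U t), ?_, by
      show appL (eps 𝔊) U (appL θ U t) + _ = z; abel⟩
    have h4 := ((hU' 0).2 _).1 (show pm h (sysOf 𝔊) U 0 (z - appL (eps 𝔊) U (appL θ U t)) = 0 by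
      rw [map_sub, ht, sub_self])
    rwa [zero_add, pow_one] at h4
  obtain ⟨t, ht⟩ := hsur (appL (eps 𝔊) U (FPLocal.mres 𝔊 (homOfLE hUW).op m))
  have ht' : appL θ U t = FPLocal.mres 𝔊 (homOfLE hUW).op m := (eps_app_bijective hL h𝔊 U).1 ht
  refine ⟨FPLocal.mres 𝔉 (homOfLE hZU).op t, ?_⟩
  refine (appL_res θ hZU t).trans ?_
  rw [ht', show g.op = (homOfLE hUW).op ≫ (homOfLE hZU).op from Subsingleton.elim _ _, FPLocal.mres_comp]

/-- A morphism of coherent modules surjective on the smallest level is surjective. -/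
theorem epi_iff_epi_pull (hL : 𝔛.IsLocNoethFormal) (h𝔉 : FSch.IsCohF 𝔛 h 𝔉) (h𝔊 : FSch.IsCohF 𝔛 h 𝔊)
    (θ : 𝔉 ⟶ 𝔊) : Epi θ ↔ Epi ((FSch.levelMor 𝔛 h 0).pull.map θ) := by
  constructor
  · intro hθ
    haveI : (FSch.levelMor 𝔛 h 0).pull.IsLeftAdjoint := (FSch.levelMor 𝔛 h 0).adj.isLeftAdjoint
    exact inferInstance
  · intro hθ
    refine epi_of_surjective_mod hL h𝔊 θ fun U hU y => ?_
    let p : (sysOf 𝔉).F 0 ⟶ (sysOf 𝔊).F 0 := (FSch.levelMor 𝔛 h 0).pull.map θ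
    haveI : Epi p := hθ
    obtain ⟨z, hz⟩ := FormalSys.app_surjective_of_epi p (sysOf_isCoh 𝔉 h𝔉 0).1 (sysOf_isCoh 𝔊 h𝔊 0).1
      (affine_lvU (h := h) hU 0) (pm h (sysOf 𝔊) U 0 y)
    obtain ⟨t₁, rfl⟩ := ((mod_main (h := h) (sysOf 𝔉) hL (sysOf_isCoh 𝔉 h𝔉) hU).2 0).1 z
    obtain ⟨t, rfl⟩ := (eps_app_bijective hL h𝔉 U).2 t₁
    exact ⟨t, (pm_eps_map θ 0 U t).trans hz⟩

lemma pm_eq_zero_of_le {U : (𝔛.X 0).Opens} (k : ℕ) (x : OM h (sysOf 𝔊) U)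
    (hx : pm h (sysOf 𝔊) U k x = 0) : pm h (sysOf 𝔊) U 0 x = 0 := by
  induction k with
  | zero => exact hx
  | succ k ih => exact ih (by rw [← tm_pm, hx, map_zero])

/-- Small perturbations of surjections are surjections. -/
theorem epi_add (hL : 𝔛.IsLocNoethFormal) (h𝔉 : FSch.IsCohF 𝔛 h 𝔉) (h𝔊 : FSch.IsCohF 𝔛 h 𝔊) (θ ψ : 𝔉 ⟶ 𝔊)
    (hθ : Epi θ) (n : ℕ) (hψ : ψ ≫ (FSch.levelMor 𝔛 h n).adj.unit.app 𝔊 = 0) : Epi (θ + ψ) := by
  refine epi_of_surjective_mod hL h𝔊 _ fun U hU y => ?_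
  have hp := (epi_iff_epi_pull hL h𝔉 h𝔊 θ).1 hθ
  let p : (sysOf 𝔉).F 0 ⟶ (sysOf 𝔊).F 0 := (FSch.levelMor 𝔛 h 0).pull.map θ
  haveI : Epi p := hp
  obtain ⟨z, hz⟩ := FormalSys.app_surjective_of_epi p (sysOf_isCoh 𝔉 h𝔉 0).1 (sysOf_isCoh 𝔊 h𝔊 0).1
    (affine_lvU (h := h) hU 0) (pm h (sysOf 𝔊) U 0 y)
  obtain ⟨t₁, rfl⟩ := ((mod_main (h := h) (sysOf 𝔉) hL (sysOf_isCoh 𝔉 h𝔉) hU).2 0).1 z
  obtain ⟨t, rfl⟩ := (eps_app_bijective hL h𝔉 U).2 t₁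
  refine ⟨t, ?_⟩
  rw [show appL (θ + ψ) U t = appL θ U t + appL ψ U t from rfl, map_add, map_add,
    pm_eq_zero_of_le n (appL (eps 𝔊) U (appL ψ U t)) ((pm_eps 𝔊 n U _).trans congr($(hψ).val.app (op U) t)),
    add_zero]
  exact (pm_eps_map θ 0 U t).trans hz

/-- On an affine open small perturbations of injections are injections. -/
theorem exists_injective_add (hL : 𝔛.IsLocNoethFormal) (h𝔉 : FSch.IsCohF 𝔛 h 𝔉) (h𝔊 : FSch.IsCohF 𝔛 h 𝔊)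
    (θ : 𝔉 ⟶ 𝔊) [Mono θ] {U : (𝔛.X 0).Opens} (hU : IsAffineOpen U) :
    ∃ c : ℕ, ∀ n, c ≤ n → ∀ ψ : 𝔉 ⟶ 𝔊, ψ ≫ (FSch.levelMor 𝔛 h n).adj.unit.app 𝔊 = 0 →
      Function.Injective (appL (θ + ψ) U) := by
  haveI := noetherian (h := h) hL hU
  obtain ⟨hfF, -⟩ := mod_main (h := h) (sysOf 𝔉) hL (sysOf_isCoh 𝔉 h𝔉) hU
  obtain ⟨hfG, hG'⟩ := mod_main (h := h) (sysOf 𝔊) hL (sysOf_isCoh 𝔊 h𝔊) hU
  haveI := hfF
  haveI := hfG
  let eF : 𝔉.val.obj (op U) ≃ₗ[OR 𝔛 h U] OM h (sysOf 𝔉) U :=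
    LinearEquiv.ofBijective (appL (eps 𝔉) U) (eps_app_bijective hL h𝔉 U)
  let T := ((appL (eps 𝔊) U).comp (appL θ U)).comp eF.symm.toLinearMap
  have hT : Function.Injective T :=
    (eps_app_bijective hL h𝔊 U).1.comp ((FPLocal.app_injective_of_mono θ U).comp eF.symm.injective)
  obtain ⟨c, hc⟩ := Ideal.exists_pow_inf_eq_pow_smul (II 𝔛 h U) (LinearMap.range T)
  refine ⟨c, fun n hn ψ hψ => ?_⟩
  let P := ((appL (eps 𝔊) U).comp (appL ψ U)).comp eF.symm.toLinearMap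
  have hP : ∀ x, P x ∈ II 𝔛 h U ^ (n + 1) • (⊤ : Submodule (OR 𝔛 h U) (OM h (sysOf 𝔊) U)) := fun x =>
    ((hG' n).2 _).1 ((pm_eps 𝔊 n U _).trans congr($(hψ).val.app (op U) (eF.symm x)))
  rw [injective_iff_map_eq_zero]
  intro t ht
  apply eF.injective
  rw [map_zero, ← Submodule.mem_bot (OR 𝔛 h U),
    ← Ideal.iInf_pow_smul_eq_bot_of_le_jacobson (M := OM h (sysOf 𝔉) U) _ (II_le_jacobson hL hU), Submodule.mem_iInf]
  intro j
  induction j with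
  | zero => simp
  | succ j ih =>
    have h1 : P (eF t) ∈ II 𝔛 h U ^ (j + (n + 1)) • (⊤ : Submodule (OR 𝔛 h U) (OM h (sysOf 𝔊) U)) := by
      have h2 : P (eF t) ∈ (II 𝔛 h U ^ j • (⊤ : Submodule (OR 𝔛 h U) (OM h (sysOf 𝔉) U))).map P :=
        Submodule.mem_map_of_mem ih
      rw [Submodule.map_smul''] at h2
      rw [pow_add, Submodule.mul_smul]
      refine Submodule.smul_mono le_rfl ?_ h2
      rintro _ ⟨x, -, rfl⟩
      exact hP x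
    have h3 : T (eF t) + P (eF t) = 0 := by
      show appL (eps 𝔊) U (appL θ U (eF.symm (eF t))) + appL (eps 𝔊) U (appL ψ U (eF.symm (eF t))) = 0
      rw [LinearEquiv.symm_apply_apply, ← map_add,
        show appL θ U t + appL ψ U t = appL (θ + ψ) U t from rfl, ht, map_zero]
    have h4 : T (eF t) ∈ II 𝔛 h U ^ (j + (n + 1)) • (⊤ : Submodule (OR 𝔛 h U) (OM h (sysOf 𝔊) U)) ⊓
        LinearMap.range T := by
      refine ⟨?_, LinearMap.mem_range_self T _⟩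
      rw [eq_neg_of_add_eq_zero_left h3]
      exact neg_mem h1
    rw [hc (j + (n + 1)) (by omega)] at h4
    have h5 : T (eF t) ∈ (II 𝔛 h U ^ (j + (n + 1) - c) • (⊤ : Submodule (OR 𝔛 h U) (OM h (sysOf 𝔉) U))).map T := by
      rw [Submodule.map_smul'', Submodule.map_top]
      exact Submodule.smul_mono le_rfl inf_le_right h4
    obtain ⟨x, hx, hxe⟩ := h5
    rw [← hT hxe]
    exact Submodule.smul_mono_left (Ideal.pow_le_pow_right (by omega)) hx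

/-- Injectivity passes to smaller affine opens. -/
theorem injective_of_injective (hL : 𝔛.IsLocNoethFormal) (h𝔉 : FSch.IsCohF 𝔛 h 𝔉) (h𝔊 : FSch.IsCohF 𝔛 h 𝔊)
    (φ : 𝔉 ⟶ 𝔊) {U V : (𝔛.X 0).Opens} (hU : IsAffineOpen U) (hV : IsAffineOpen V) (hVU : V ≤ U)
    (hi : Function.Injective (appL φ U)) : Function.Injective (appL φ V) := by
  haveI := eps_isIso hL h𝔉
  let ρ : (sysOf 𝔉).realMod h ⟶ (sysOf 𝔊).realMod h := inv (eps 𝔉) ≫ φ ≫ eps 𝔊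
  have hρ : ∀ (Z : (𝔛.X 0).Opens) (t : 𝔉.val.obj (op Z)),
      appL ρ Z (appL (eps 𝔉) Z t) = appL (eps 𝔊) Z (appL φ Z t) := fun Z t => by
    show appL (eps 𝔊) Z (appL φ Z (appL (inv (eps 𝔉)) Z (appL (eps 𝔉) Z t))) = _
    rw [show appL (inv (eps 𝔉)) Z (appL (eps 𝔉) Z t) = t from congr($(IsIso.hom_inv_id (eps 𝔉)).val.app (op Z) t)]
  have hρU : Function.Injective (appL ρ U) := by
    intro a b hab
    obtain ⟨a, rfl⟩ := (eps_app_bijective hL h𝔉 U).2 a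
    obtain ⟨b, rfl⟩ := (eps_app_bijective hL h𝔉 U).2 b
    rw [hρ, hρ] at hab
    rw [hi ((eps_app_bijective hL h𝔊 U).1 hab)]
  letI := (rsO 𝔛 h hVU).toAlgebra
  haveI : Module.Flat (OR 𝔛 h U) (OR 𝔛 h V) := rsO_flat hL hU hV hVU
  letI : Module (OR 𝔛 h U) (OM h (sysOf 𝔉) V) := Module.compHom _ (rsO 𝔛 h hVU)
  haveI : IsScalarTower (OR 𝔛 h U) (OR 𝔛 h V) (OM h (sysOf 𝔉) V) := .of_algebraMap_smul fun _ _ => rfl
  letI : Module (OR 𝔛 h U) (OM h (sysOf 𝔊) V) := Module.compHom _ (rsO 𝔛 h hVU)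
  haveI : IsScalarTower (OR 𝔛 h U) (OR 𝔛 h V) (OM h (sysOf 𝔊) V) := .of_algebraMap_smul fun _ _ => rfl
  have bF := rsOM_bijective_tensor (h := h) (sysOf 𝔉) hL (sysOf_isCoh 𝔉 h𝔉) hU hV hVU
  have bG := rsOM_bijective_tensor (h := h) (sysOf 𝔊) hL (sysOf_isCoh 𝔊 h𝔊) hU hV hVU
  have key : ∀ z, appL ρ V (bF.equiv z) = bG.equiv ((appL ρ U).lTensor (OR 𝔛 h V) z) := fun z => by
    induction z using TensorProduct.induction_on with
    | zero => simp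
    | add a b ha hb => simp only [map_add, ha, hb]
    | tmul b m =>
      rw [LinearMap.lTensor_tmul, IsBaseChange.equiv_tmul, IsBaseChange.equiv_tmul, map_smul]
      exact congrArg (b • ·) (appL_res ρ hVU m)
  intro a b hab
  apply (eps_app_bijective hL h𝔉 V).1
  have e : appL ρ V (appL (eps 𝔉) V a) = appL ρ V (appL (eps 𝔉) V b) := by rw [hρ, hρ, hab]
  obtain ⟨a', ha'⟩ := bF.equiv.surjective (appL (eps 𝔉) V a)
  obtain ⟨b', hb'⟩ := bF.equiv.surjective (appL (eps 𝔉) V b)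
  rw [← ha', ← hb', key, key] at e
  rw [← ha', ← hb', (Module.Flat.lTensor_preserves_injective_linearMap (appL ρ U) hρU) (bG.equiv.injective e)]

/-- Small perturbations of injections or surjections keep the property. -/
theorem exists_bound_add (hL : 𝔛.IsLocNoethFormal) [CompactSpace (𝔛.X 0)] (h𝔉 : FSch.IsCohF 𝔛 h 𝔉)
    (h𝔊 : FSch.IsCohF 𝔛 h 𝔊) (θ : 𝔉 ⟶ 𝔊) :
    ∃ n : ℕ, ∀ ψ : 𝔉 ⟶ 𝔊, ψ ≫ (FSch.levelMor 𝔛 h n).adj.unit.app 𝔊 = 0 →
      (Mono θ → Mono (θ + ψ)) ∧ (Epi θ → Epi (θ + ψ)) := by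
  classical
  by_cases hθ : Mono θ
  · obtain ⟨S, hS⟩ := (isCompact_univ (X := 𝔛.X 0)).elim_finite_subcover
      (fun U : (𝔛.X 0).affineOpens => (U.1 : Set (𝔛.X 0))) (fun U => U.1.2) (fun y _ => by
        obtain ⟨U, hU, hyU, -⟩ := exists_affine_le (𝔛 := 𝔛) (U := ⊤) (x := y) trivial
        exact Set.mem_iUnion.2 ⟨⟨U, hU⟩, hyU⟩)
    haveI := hθ
    choose c hc using fun U : S => exists_injective_add hL h𝔉 h𝔊 θ U.1.2
    refine ⟨Finset.univ.sup c, fun ψ hψ => ⟨fun _ => ?_, fun he => epi_add hL h𝔉 h𝔊 θ ψ he _ hψ⟩⟩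
    refine Preadditive.mono_of_kernel_zero ?_
    ext W z
    let m : 𝔉.val.obj (op W.unop) := ((kernel.ι (θ + ψ)).val.app W).hom z
    have hm : appL (θ + ψ) W.unop m = 0 :=
      congrArg (fun f : kernel (θ + ψ) ⟶ 𝔊 => (f.val.app W).hom z) (kernel.condition (θ + ψ))
    show m = 0
    have hsh : TopCat.Presheaf.IsSheaf (C := AddCommGrpCat.{u}) (X := (𝔛.X 0).carrier) 𝔉.val.presheaf := 𝔉.isSheaf
    refine TopCat.Sheaf.eq_of_locally_eq' (⟨_, hsh⟩ : TopCat.Sheaf AddCommGrpCat.{u} (𝔛.X 0).carrier)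
      (fun U : S => W.unop ⊓ U.1.1) W.unop (fun U => homOfLE inf_le_left) (fun y hy => ?_) m 0 fun U => ?_
    · obtain ⟨V, hV, hyV⟩ := Set.mem_iUnion₂.1 (hS (Set.mem_univ y))
      exact Opens.mem_iSup.2 ⟨⟨V, hV⟩, hy, hyV⟩
    · rw [map_zero]
      refine eq_zero_of_affine 𝔉 _ fun Z hZ hZa => ?_
      apply injective_of_injective hL h𝔉 h𝔊 (θ + ψ) U.1.2 hZa (hZ.trans inf_le_right)
        (hc U _ (Finset.le_sup (Finset.mem_univ U)) ψ hψ)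
      rw [map_zero]
      refine (appL_res (θ + ψ) hZ _).trans ?_
      refine (congrArg (FPLocal.mres 𝔊 _) ((appL_res (θ + ψ) inf_le_left m).trans
        ((congrArg (FPLocal.mres 𝔊 _) hm).trans (map_zero _)))).trans (map_zero _)
  · exact ⟨0, fun ψ hψ => ⟨fun h' => absurd h' hθ, fun he => epi_add hL h𝔉 h𝔊 θ ψ he 0 hψ⟩⟩

end Coh

end Groth.Agent.FCompl
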