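import Groth.Agent.FComplLib.Descend
import Groth.Agent.FComplLib.IndQC

/-!
# Sections of quasi-coherent modules over affine opens
-/

set_option autoImplicit false
set_option linter.style.haveILetI false
set_option linter.unusedVariables false
set_option backward.isDefEq.respectTransparency false
set_option backward.isDefEq.respectTransparency.types false
set_option maxHeartbeats 4000000
universe u

open CategoryTheory CategoryTheory.Limits AlgebraicGeometry TopologicalSpace Opposite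

noncomputable section

namespace Groth.Agent.FCompl

variable {𝔛 : FSch.Sys.{u}} {h : 𝔛.IsFormal} {𝔉 : FSch.ModF 𝔛 h} {U V : (𝔛.X 0).Opens}

lemma rsO_rsO {A B C : (𝔛.X 0).Opens} (hBA : B ≤ A) (hCB : C ≤ B) (x : OR 𝔛 h A) :
    rsO 𝔛 h hCB (rsO 𝔛 h hBA x) = rsO 𝔛 h (hCB.trans hBA) x :=
  (FPLocal.mres_comp (M := FSch.unitF 𝔛 h) (homOfLE hBA).op (homOfLE hCB).op x).symm

lemma mres_smul' {A B : (𝔛.X 0).Opens} (hBA : B ≤ A) (x : OR 𝔛 h A) (m : 𝔉.val.obj (op A)) :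
    FPLocal.mres 𝔉 (homOfLE hBA).op (x • m) = rsO 𝔛 h hBA x • FPLocal.mres 𝔉 (homOfLE hBA).op m :=
  PresheafOfModules.map_smul 𝔉.val (homOfLE hBA).op x m

/-- Sections over an affine open are finite combinations of the generators. -/
theorem exists_eq_sum (hL : 𝔛.IsLocNoethFormal) (D : RelData 𝔉 V) (hU : IsAffineOpen U) (hUV : U ≤ V)
    (m : 𝔉.val.obj (op U)) : ∃ (S : Finset D.I) (a : D.I → OR 𝔛 h U), (∀ j ∉ S, a j = 0) ∧
      ∑ j ∈ S, a j • FPLocal.mres 𝔉 (homOfLE hUV).op (D.t j) = m := by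
  classical
  haveI := hL.2.2 0
  have key : ∀ y : U, ∃ (Z : (𝔛.X 0).Opens) (hZ : Z ≤ U), IsAffineOpen Z ∧ y.1 ∈ Z ∧
      ∃ (S : Finset D.I) (a : D.I → OR 𝔛 h Z), (∀ j ∉ S, a j = 0) ∧
        ∑ j ∈ S, a j • FPLocal.mres 𝔉 (homOfLE (hZ.trans hUV)).op (D.t j) = FPLocal.mres 𝔉 (homOfLE hZ).op m := by
    rintro ⟨y, hy⟩
    obtain ⟨Z', g, hyZ', S, a₀, ha⟩ := FPLocal.Locally.near (D.gen (homOfLE hUV) m) hy
    let a : D.I → OR 𝔛 h Z' := a₀
    obtain ⟨Z, hZa, hyZ, hZZ'⟩ := exists_affine_le (𝔛 := 𝔛) hyZ'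
    refine ⟨Z, hZZ'.trans (leOfHom g), hZa, hyZ, S, fun j => if j ∈ S then rsO 𝔛 h hZZ' (a j) else 0,
      fun j hj => if_neg hj, ?_⟩
    have e := congrArg (FPLocal.mres 𝔉 (homOfLE hZZ').op) ha
    rw [map_sum, ← FPLocal.mres_comp] at e
    refine Eq.trans (Finset.sum_congr rfl fun j hj => ?_) e
    refine (congrArg (· • _) (if_pos hj)).trans ?_
    refine Eq.trans ?_ (mres_smul' hZZ' (a j) _).symm
    exact congrArg (rsO 𝔛 h hZZ' (a j) • ·) (FPLocal.mres_comp (M := 𝔉) _ (homOfLE hZZ').op (D.t j))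
  choose Z hZU hZa hyZ S a ha0 ha using key
  obtain ⟨ys, hys⟩ := hU.isCompact.elim_finite_subcover (fun y : U => (Z y : Set (𝔛.X 0)))
    (fun y => (Z y).2) fun y hy => Set.mem_iUnion.2 ⟨⟨y, hy⟩, hyZ _⟩
  let J0 : Finset D.I := ys.biUnion S
  have key2 : ∀ y y' : U, ∀ x ∈ Z y ⊓ Z y', y ∈ ys → y' ∈ ys → ∃ (A : (𝔛.X 0).Opens) (h₁ : A ≤ Z y) (h₂ : A ≤ Z y'),
      x ∈ A ∧ ∃ (T : Finset D.K) (e : D.K → OR 𝔛 h A), ∀ j,
        ∑ k ∈ T, e k * rsO 𝔛 h ((h₁.trans (hZU y)).trans hUV) (D.r k j) =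
          rsO 𝔛 h h₁ (a y j) - rsO 𝔛 h h₂ (a y' j) := by
    intro y y' x hx hy hy'
    let W := Z y ⊓ Z y'
    have hW₁ : W ≤ Z y := inf_le_left
    have hW₂ : W ≤ Z y' := inf_le_right
    let d : D.I → OR 𝔛 h W := fun j => rsO 𝔛 h hW₁ (a y j) - rsO 𝔛 h hW₂ (a y' j)
    have hd0 : ∀ j ∉ J0, d j = 0 := fun j hj => by
      show rsO 𝔛 h hW₁ (a y j) - rsO 𝔛 h hW₂ (a y' j) = 0
      rw [ha0 y j fun hc => hj (Finset.mem_biUnion.2 ⟨y, hy, hc⟩),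
        ha0 y' j fun hc => hj (Finset.mem_biUnion.2 ⟨y', hy', hc⟩), map_zero, map_zero, sub_zero]
    have hWV : W ≤ V := (hW₁.trans (hZU y)).trans hUV
    have hsum : ∀ (z : U) (hz : W ≤ Z z), z ∈ ys →
        ∑ j ∈ J0, rsO 𝔛 h hz (a z j) • FPLocal.mres 𝔉 (homOfLE hWV).op (D.t j) =
          FPLocal.mres 𝔉 (homOfLE (hz.trans (hZU z))).op m := fun z hz hzy => by
      rw [← Finset.sum_subset (fun j hj => Finset.mem_biUnion.2 ⟨z, hzy, hj⟩) fun j _ hj => by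
        rw [ha0 z j hj, map_zero, zero_smul]]
      have e := congrArg (FPLocal.mres 𝔉 (homOfLE hz).op) (ha z)
      rw [map_sum, ← FPLocal.mres_comp] at e
      refine Eq.trans (Finset.sum_congr rfl fun j _ => ?_) e
      rw [mres_smul', ← FPLocal.mres_comp]
      rfl
    have hd : ∑ j ∈ J0, d j • FPLocal.mres 𝔉 (homOfLE hWV).op (D.t j) = 0 := by
      simp only [d, sub_smul, Finset.sum_sub_distrib]
      rw [hsum y hW₁ hy, hsum y' hW₂ hy']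
      exact sub_self _
    obtain ⟨A, g, hxA, T, e, he⟩ := FPLocal.Locally.near (D.complete (homOfLE hWV) J0 d hd0 hd) hx
    refine ⟨A, (leOfHom g).trans hW₁, (leOfHom g).trans hW₂, hxA, T, e, fun j => ?_⟩
    refine (he j).trans ?_
    show rsO 𝔛 h (leOfHom g) (d j) = _
    rw [map_sub, rsO_rsO, rsO_rsO]
  choose A hA₁ hA₂ hxA T e he using key2
  let P : Type u := {p : U × U // p.1 ∈ ys ∧ p.2 ∈ ys}
  haveI : Finite P := Finite.of_injective (fun p : P => ((⟨p.1.1, p.2.1⟩ : {y // y ∈ ys}), (⟨p.1.2, p.2.2⟩ : {y // y ∈ ys})))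
    fun p q hpq => Subtype.ext (Prod.ext (congrArg (fun v => v.1.1) hpq) (congrArg (fun v => v.2.1) hpq))
  haveI := Fintype.ofFinite P
  have hcpt : ∀ p : P, IsCompact ((Z p.1.1 ⊓ Z p.1.2 : (𝔛.X 0).Opens) : Set (𝔛.X 0)) := fun p =>
    QuasiSeparatedSpace.inter_isCompact _ _ (Z p.1.1).2 (hZa _).isCompact (Z p.1.2).2 (hZa _).isCompact
  choose xs hxs using fun p : P => (hcpt p).elim_finite_subcover
    (fun x : (Z p.1.1 ⊓ Z p.1.2 : (𝔛.X 0).Opens) => (A p.1.1 p.1.2 x.1 x.2 p.2.1 p.2.2 : Set (𝔛.X 0)))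
    (fun x => (A p.1.1 p.1.2 x.1 x.2 p.2.1 p.2.2).2) fun x hx => Set.mem_iUnion.2 ⟨⟨x, hx⟩, hxA _ _ _ _ _ _⟩
  let T1 : Finset D.K := Finset.univ.biUnion fun p : P => (xs p).biUnion fun x => T p.1.1 p.1.2 x.1 x.2 p.2.1 p.2.2
  choose Sk hSk0 hSk using fun k : D.K => exists_support D hU hUV k
  let J1 : Finset D.I := J0 ∪ T1.biUnion Sk
  let r : ↥T1 → ↥J1 → OR 𝔛 h U := fun k j => rsO 𝔛 h hUV (D.r k.1 j.1)
  obtain ⟨v, hv⟩ := exists_glue (Z := fun y : {y // y ∈ ys} => Z y.1) (r := r)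
    (a := fun y (j : ↥J1) => a y.1 j.1) (fun y => hZU y.1) (fun y => hZa y.1)
    (fun x hx => by
      obtain ⟨y, hy, hxy⟩ : ∃ y ∈ ys, x ∈ Z y := by simpa using hys hx
      exact Opens.mem_iSup.2 ⟨⟨y, hy⟩, hxy⟩) hL hU (fun y y' x hx => by
      let p : P := ⟨(y.1, y'.1), y.2, y'.2⟩
      obtain ⟨x₀, hx₀, hxA'⟩ : ∃ x₀ ∈ xs p, x ∈ A y.1 y'.1 x₀.1 x₀.2 y.2 y'.2 := by
        have := hxs p hx
        simp only [Set.mem_iUnion] at this
        obtain ⟨x₀, h1, h2⟩ := this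
        exact ⟨x₀, h1, h2⟩
      refine ⟨_, hA₁ _ _ x₀.1 x₀.2 y.2 y'.2, hA₂ _ _ x₀.1 x₀.2 y.2 y'.2, hxA', ?_⟩
      let e' := e y.1 y'.1 x₀.1 x₀.2 y.2 y'.2
      have hTsub : T y.1 y'.1 x₀.1 x₀.2 y.2 y'.2 ⊆ T1 := fun k hk =>
        Finset.mem_biUnion.2 ⟨p, Finset.mem_univ p, Finset.mem_biUnion.2 ⟨x₀, hx₀, hk⟩⟩
      rw [show (fun j : ↥J1 => rsO 𝔛 h (hA₁ _ _ x₀.1 x₀.2 y.2 y'.2) (a y.1 j.1) -
          rsO 𝔛 h (hA₂ _ _ x₀.1 x₀.2 y.2 y'.2) (a y'.1 j.1)) =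
          ∑ k : {k // k ∈ T y.1 y'.1 x₀.1 x₀.2 y.2 y'.2}, e' k.1 •
            rsv ((hA₁ _ _ x₀.1 x₀.2 y.2 y'.2).trans (hZU y.1)) (r ⟨k.1, hTsub k.2⟩) from funext fun j => by
        rw [Finset.sum_apply, ← he y.1 y'.1 x₀.1 x₀.2 y.2 y'.2 j.1, ← Finset.sum_coe_sort]
        refine Finset.sum_congr rfl fun k _ => ?_
        exact congrArg (e' k.1 * ·) (rsO_rsO _ _ _).symm]
      exact Submodule.sum_mem _ fun k _ => Submodule.smul_mem _ _ (Submodule.subset_span ⟨_, rfl⟩))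
  let a' : D.I → OR 𝔛 h U := fun j => if hj : j ∈ J1 then v ⟨j, hj⟩ else 0
  refine ⟨J1, a', fun j hj => dif_neg hj, ?_⟩
  rw [← Finset.sum_coe_sort J1]
  have hsh : TopCat.Presheaf.IsSheaf (C := AddCommGrpCat.{u}) (X := (𝔛.X 0).carrier) 𝔉.val.presheaf := 𝔉.isSheaf
  refine TopCat.Sheaf.eq_of_locally_eq' (⟨_, hsh⟩ : TopCat.Sheaf AddCommGrpCat.{u} (𝔛.X 0).carrier)
    (fun y : {y : U // y ∈ ys} => Z y.1) U (fun y => homOfLE (hZU y.1)) (fun x hx => ?_) _ m fun y => ?_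
  · obtain ⟨y, hy, hxy⟩ : ∃ y ∈ ys, x ∈ Z y := by simpa using hys hx
    exact Opens.mem_iSup.2 ⟨⟨y, hy⟩, hxy⟩
  show FPLocal.mres 𝔉 (homOfLE (hZU y.1)).op _ = FPLocal.mres 𝔉 (homOfLE (hZU y.1)).op m
  let W := Z y.1
  have hWV : W ≤ V := (hZU y.1).trans hUV
  let t' : ↥J1 → 𝔉.val.obj (op W) := fun j => FPLocal.mres 𝔉 (homOfLE hWV).op (D.t j.1)
  have hzero : ∀ d ∈ Submodule.span (OR 𝔛 h W) (Set.range fun k => rsv (hZU y.1) (r k)),
      ∑ j, (d j : OR 𝔛 h W) • t' j = 0 := by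
    intro d hd
    induction hd using Submodule.span_induction with
    | mem z hz =>
      obtain ⟨k, rfl⟩ := hz
      have e2 := congrArg (FPLocal.mres 𝔉 (homOfLE (hZU y.1)).op) (hSk k.1)
      rw [map_sum, map_zero] at e2
      rw [Finset.sum_coe_sort J1 fun j => rsO 𝔛 h (hZU y.1) (rsO 𝔛 h hUV (D.r k.1 j)) •
        FPLocal.mres 𝔉 (homOfLE hWV).op (D.t j),
        ← Finset.sum_subset (fun j hj => Finset.mem_union_right _ (Finset.mem_biUnion.2 ⟨k.1, k.2, hj⟩) :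
          Sk k.1 ⊆ J1) fun j _ hj => by rw [hSk0 k.1 j hj, map_zero, zero_smul]]
      refine Eq.trans (Finset.sum_congr rfl fun j _ => ?_) e2
      rw [mres_smul', ← FPLocal.mres_comp]
      rfl
    | zero => exact Finset.sum_eq_zero fun j _ => zero_smul _ _
    | add p q _ _ hp hq =>
      simp only [Pi.add_apply, add_smul, Finset.sum_add_distrib, hp, hq, add_zero]
    | smul c p _ hp =>
      simp only [Pi.smul_apply, smul_eq_mul, mul_smul, ← Finset.smul_sum, hp, smul_zero]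
  have h1 := hzero _ (hv y)
  simp only [Pi.sub_apply, sub_smul, Finset.sum_sub_distrib, sub_eq_zero] at h1
  refine Eq.trans ?_ (h1.trans ?_)
  · rw [map_sum]
    refine Finset.sum_congr rfl fun j _ => ?_
    rw [mres_smul', ← FPLocal.mres_comp]
    show rsO 𝔛 h (hZU y.1) (a' j.1) • _ = rsO 𝔛 h (hZU y.1) (v j) • _
    rw [show a' j.1 = v j from dif_pos j.2]
    rfl
  · refine Eq.trans ?_ (ha y.1)
    rw [Finset.sum_coe_sort J1 fun j => a y.1 j • FPLocal.mres 𝔉 (homOfLE hWV).op (D.t j)]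
    exact (Finset.sum_subset (fun j hj => Finset.mem_union_left _ (Finset.mem_biUnion.2 ⟨y.1, y.2, hj⟩))
      fun j _ hj => by rw [ha0 y.1 j hj, zero_smul]).symm

end Groth.Agent.FCompl
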