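import Groth.Agent.FComplLib.RelData
import Groth.Agent.FComplLib.Ker
import Groth.Agent.FComplLib.Morph

/-!
# Quasi-coherent modules of finite type on locally Noetherian formal schemes
-/

set_option autoImplicit false
set_option linter.style.haveILetI false
set_option linter.unusedVariables false
set_option backward.isDefEq.respectTransparency false
set_option backward.isDefEq.respectTransparency.types false
set_option maxHeartbeats 2000000
universe u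

open CategoryTheory CategoryTheory.Limits AlgebraicGeometry TopologicalSpace Opposite

noncomputable section

namespace Groth.Agent.FCompl

variable {𝔛 : FSch.Sys.{u}} {h : 𝔛.IsFormal} {𝔉 : FSch.ModF 𝔛 h} {U V : (𝔛.X 0).Opens}

/-- A relation has finitely many terms over an affine open. -/
theorem exists_support (D : RelData 𝔉 V) (hU : IsAffineOpen U) (hUV : U ≤ V) (k : D.K) :
    ∃ T : Finset D.I, (∀ i ∉ T, rsO 𝔛 h hUV (D.r k i) = 0) ∧
      ∑ i ∈ T, rsO 𝔛 h hUV (D.r k i) • FPLocal.mres 𝔉 (homOfLE hUV).op (D.t i) = 0 := by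
  classical
  have key : ∀ y : U, ∃ (Z : (𝔛.X 0).Opens) (hZ : Z ≤ V), y.1 ∈ Z ∧ ∃ S : Finset D.I,
      (∀ i ∉ S, rsO 𝔛 h hZ (D.r k i) = 0) ∧
        ∑ i ∈ S, rsO 𝔛 h hZ (D.r k i) • FPLocal.mres 𝔉 (homOfLE hZ).op (D.t i) = 0 := by
    rintro ⟨y, hy⟩
    obtain ⟨Z, g, hyZ, S, h1, h2⟩ := FPLocal.Locally.near (D.rel k) (hUV hy)
    exact ⟨Z, leOfHom g, hyZ, S, h1, h2⟩
  choose Z hZ hyZ S h1 h2 using key
  obtain ⟨ys, hys⟩ := hU.isCompact.elim_finite_subcover (fun y : U => (Z y : Set (𝔛.X 0)))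
    (fun y => (Z y).2) fun y hy => Set.mem_iUnion.2 ⟨⟨y, hy⟩, hyZ _⟩
  let T := ys.biUnion S
  have hcov : ∀ W : (𝔛.X 0).Opens, W ≤ U → ∀ x ∈ W, ∃ y ∈ ys, x ∈ Z y := fun W hW x hx => by
    simpa using hys (hW hx)
  refine ⟨T, fun i hi => ?_, ?_⟩
  · have hsh : TopCat.Presheaf.IsSheaf (C := AddCommGrpCat.{u}) (X := (𝔛.X 0).carrier)
        (FSch.unitF 𝔛 h).val.presheaf := (FSch.unitF 𝔛 h).isSheaf
    refine TopCat.Sheaf.eq_of_locally_eq' (⟨_, hsh⟩ : TopCat.Sheaf AddCommGrpCat.{u} (𝔛.X 0).carrier)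
      (fun y : {y : U // y ∈ ys} => U ⊓ Z y.1) U (fun y => homOfLE inf_le_left) (fun x hx => ?_) _ 0 fun y => ?_
    · obtain ⟨y, hy, hxy⟩ := hcov U le_rfl x hx
      exact Opens.mem_iSup.2 ⟨⟨y, hy⟩, hx, hxy⟩
    · rw [map_zero]
      have e := congrArg (rsO 𝔛 h (inf_le_right : U ⊓ Z y.1 ≤ Z y.1))
        (h1 y.1 i fun hc => hi (Finset.mem_biUnion.2 ⟨y.1, y.2, hc⟩))
      rw [map_zero] at e
      refine Eq.trans ?_ e
      show FPLocal.mres (FSch.unitF 𝔛 h) (homOfLE inf_le_left).op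
        (FPLocal.mres (FSch.unitF 𝔛 h) (homOfLE hUV).op (D.r k i)) =
        FPLocal.mres (FSch.unitF 𝔛 h) (homOfLE inf_le_right).op
          (FPLocal.mres (FSch.unitF 𝔛 h) (homOfLE (hZ y.1)).op (D.r k i))
      rw [← FPLocal.mres_comp, ← FPLocal.mres_comp]
      rfl
  · have hsh : TopCat.Presheaf.IsSheaf (C := AddCommGrpCat.{u}) (X := (𝔛.X 0).carrier) 𝔉.val.presheaf := 𝔉.isSheaf
    refine TopCat.Sheaf.eq_of_locally_eq' (⟨_, hsh⟩ : TopCat.Sheaf AddCommGrpCat.{u} (𝔛.X 0).carrier)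
      (fun y : {y : U // y ∈ ys} => U ⊓ Z y.1) U (fun y => homOfLE inf_le_left) (fun x hx => ?_) _ 0 fun y => ?_
    · obtain ⟨y, hy, hxy⟩ := hcov U le_rfl x hx
      exact Opens.mem_iSup.2 ⟨⟨y, hy⟩, hx, hxy⟩
    · rw [map_zero]
      let W := U ⊓ Z y.1
      show FPLocal.mres 𝔉 (homOfLE (inf_le_left : W ≤ U)).op _ = 0
      have hWV : W ≤ V := inf_le_left.trans hUV
      have e := congrArg (FPLocal.mres 𝔉 (homOfLE (inf_le_right : W ≤ Z y.1)).op) (h2 y.1)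
      rw [map_sum, map_zero] at e
      rw [map_sum]
      have hi : ∀ (A : (𝔛.X 0).Opens) (hA : A ≤ V) (hWA : W ≤ A) (i : D.I),
          FPLocal.mres 𝔉 (homOfLE hWA).op (rsO 𝔛 h hA (D.r k i) • FPLocal.mres 𝔉 (homOfLE hA).op (D.t i)) =
            rsO 𝔛 h hWV (D.r k i) • FPLocal.mres 𝔉 (homOfLE hWV).op (D.t i) := fun A hA hWA i => by
        refine (PresheafOfModules.map_smul 𝔉.val (homOfLE hWA).op _ _).trans ?_
        refine congr_arg₂ (· • ·) ?_ ((FPLocal.mres_comp (M := 𝔉) _ _ _).symm)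
        exact ((FPLocal.mres_comp (M := FSch.unitF 𝔛 h) (homOfLE hA).op (homOfLE hWA).op (D.r k i)).symm :)
      refine Eq.trans (Finset.sum_congr rfl fun i _ => hi U hUV _ i) ?_
      refine Eq.trans (Finset.sum_subset (fun i hi' => Finset.mem_biUnion.2 ⟨y.1, y.2, hi'⟩) fun i _ hi' => ?_).symm
        ((Finset.sum_congr rfl fun i _ => (hi _ (hZ y.1) _ i).symm).trans e)
      rw [← hi _ (hZ y.1) inf_le_right i, h1 y.1 i hi', zero_smul, map_zero]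

/-- Finitely many sections expressed in the generators have finitely many relations. -/
theorem relComplete_of_relData (hL : 𝔛.IsLocNoethFormal) (D : RelData 𝔉 V) (hU : IsAffineOpen U) (hUV : U ≤ V)
    {ι : Type u} [Fintype ι] (s : ι → 𝔉.val.obj (op U)) (S : Finset D.I)
    (a : ι → D.I → OR 𝔛 h U) (ha0 : ∀ i j, j ∉ S → a i j = 0)
    (ha : ∀ i, ∑ j ∈ S, a i j • FPLocal.mres 𝔉 (homOfLE hUV).op (D.t j) = s i) :
    ∃ (l : ℕ) (c : ULift.{u} (Fin l) → ι → OR 𝔛 h U),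
      (∀ k, ∑ i, c k i • s i = 0) ∧ FPLocal.RelComplete 𝔉 c s := by
  classical
  haveI := noetherian (h := h) hL hU
  let K : Submodule (OR 𝔛 h U) (ι → OR 𝔛 h U) := LinearMap.ker (Fintype.linearCombination (OR 𝔛 h U) s)
  obtain ⟨l, c, hc⟩ := Submodule.fg_iff_exists_fin_generating_family.1 (IsNoetherian.noetherian K)
  refine ⟨l, fun k => c k.down, fun k => ?_, ?_⟩
  · have : c k.down ∈ K := hc ▸ Submodule.subset_span ⟨k.down, rfl⟩
    rw [LinearMap.mem_ker, Fintype.linearCombination_apply] at this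
    exact this
  intro W g d₀ hd
  let d : ι → OR 𝔛 h W := d₀
  have hWU : W ≤ U := leOfHom g
  let E : D.I → OR 𝔛 h W := fun j => ∑ i, d i * rsO 𝔛 h hWU (a i j)
  have hE0 : ∀ j ∉ S, E j = 0 := fun j hj => Finset.sum_eq_zero fun i _ => by
    rw [ha0 i j hj, map_zero, mul_zero]
  have hE : ∑ j ∈ S, E j • FPLocal.mres 𝔉 (homOfLE (hWU.trans hUV)).op (D.t j) = 0 := by
    refine Eq.trans ?_ hd
    rw [Finset.sum_congr rfl fun j _ => Finset.sum_smul (s := (Finset.univ : Finset ι)) (f := fun i => d i * rsO 𝔛 h hWU (a i j))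
      (x := FPLocal.mres 𝔉 (homOfLE (hWU.trans hUV)).op (D.t j)), Finset.sum_comm]
    refine Finset.sum_congr rfl fun i _ => ?_
    rw [← ha i, map_sum, Finset.smul_sum]
    refine Finset.sum_congr rfl fun j _ => ?_
    rw [mul_smul]
    refine congrArg (d i • ·) ?_
    refine Eq.trans ?_ (PresheafOfModules.map_smul 𝔉.val g.op (a i j) _).symm
    refine congrArg (rsO 𝔛 h hWU (a i j) • ·) ?_
    exact FPLocal.mres_comp (M := 𝔉) (homOfLE hUV).op g.op (D.t j)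
  obtain ⟨S₁, hS₁, hS₁'⟩ := D.complete (homOfLE (hWU.trans hUV)) S E hE0 hE
  let S₂ : Sieve W :=
    { arrows := fun Z _ => ∃ (Z' : (𝔛.X 0).Opens) (k' : Z' ⟶ W), IsAffineOpen Z' ∧ Z ≤ Z' ∧ S₁.arrows k'
      downward_closed := fun {Y Z} _ ⟨Z', k', h1, h2, h3⟩ q => ⟨Z', k', h1, (leOfHom q).trans h2, h3⟩ }
  refine ⟨S₂, fun x hx => ?_, ?_⟩
  · obtain ⟨Z₁, k₁, hk₁, hxZ₁⟩ := hS₁ x hx
    obtain ⟨Z, hZ, hxZ, hZZ₁⟩ := exists_affine_le (𝔛 := 𝔛) hxZ₁
    exact ⟨Z, homOfLE hZZ₁ ≫ k₁, ⟨Z, homOfLE hZZ₁ ≫ k₁, hZ, le_rfl, S₁.downward_closed hk₁ _⟩, hxZ⟩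
  intro Y q hq
  obtain ⟨Z, k, hZ, hYZ, hk2⟩ := hq
  obtain ⟨T, e₀, he⟩ := hS₁' k hk2
  let e : D.K → OR 𝔛 h Z := e₀
  have hZU : Z ≤ U := (leOfHom k).trans hWU
  suffices key : (fun i => rsO 𝔛 h (leOfHom k) (d i)) ∈ Submodule.span (OR 𝔛 h Z)
      (Set.range fun j : ULift.{u} (Fin l) => fun i => rsO 𝔛 h hZU (c j.down i)) by
    obtain ⟨b, hb⟩ := (Submodule.mem_span_range_iff_exists_fun _).1 key
    refine ⟨fun j => rsO 𝔛 h hYZ (b j), fun i => ?_⟩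
    have h3 := congrFun hb i
    rw [Finset.sum_apply] at h3
    have h4 := congrArg (rsO 𝔛 h hYZ) h3
    rw [map_sum] at h4
    refine Eq.trans (Finset.sum_congr rfl fun j _ => ?_) (h4.trans ?_)
    · rw [Pi.smul_apply, smul_eq_mul, map_mul]
      refine congrArg (rsO 𝔛 h hYZ (b j) * ·) ?_
      exact (FPLocal.mres_comp (M := FSch.unitF 𝔛 h) (homOfLE hZU).op (homOfLE hYZ).op (c j.down i) :)
    · exact ((FPLocal.mres_comp (M := FSch.unitF 𝔛 h) k.op (homOfLE hYZ).op (d i)).symm :)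
  -- coordinates on finitely many generators
  have hZV : Z ≤ V := hZU.trans hUV
  let dZ : ι → OR 𝔛 h Z := fun i => rsO 𝔛 h (leOfHom k) (d i)
  choose Sk hSk0 hSk using fun r : D.K => exists_support D hU hUV r
  let J1 : Finset D.I := S ∪ T.biUnion Sk
  letI := (rsO 𝔛 h hZU).toAlgebra
  haveI : Module.Flat (OR 𝔛 h U) (OR 𝔛 h Z) := rsO_flat hL hU hZ hZU
  let vec : ι ⊕ ↥T → J1 → OR 𝔛 h U := Sum.elim (fun i j => a i j.1) (fun r j => rsO 𝔛 h hUV (D.r r.1 j.1))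
  let coef : ι ⊕ ↥T → OR 𝔛 h Z := Sum.elim dZ (fun r => - e r.1)
  have hcomp : ∀ r j, rsO 𝔛 h hZU (rsO 𝔛 h hUV (D.r r j)) = rsO 𝔛 h hZV (D.r r j) := fun r j =>
    (FPLocal.mres_comp (M := FSch.unitF 𝔛 h) (homOfLE hUV).op (homOfLE hZU).op (D.r r j)).symm
  have hx : ∑ p, coef p • ((Algebra.linearMap (OR 𝔛 h U) (OR 𝔛 h Z)).compLeft J1) (vec p) = 0 := by
    funext j
    rw [Finset.sum_apply, Fintype.sum_sum_type]
    show ∑ i, dZ i * rsO 𝔛 h hZU (a i j.1) + ∑ r : ↥T, (- e r.1) * rsO 𝔛 h hZU (rsO 𝔛 h hUV (D.r r.1 j.1)) = 0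
    simp only [neg_mul, Finset.sum_neg_distrib, hcomp]
    rw [Finset.sum_coe_sort T fun r => e r * rsO 𝔛 h hZV (D.r r j.1), add_neg_eq_zero]
    refine Eq.trans ?_ (he j.1).symm
    show _ = rsO 𝔛 h (leOfHom k) (E j.1)
    rw [map_sum]
    refine Finset.sum_congr rfl fun i _ => ?_
    rw [map_mul]
    refine congrArg (dZ i * ·) ?_
    exact (FPLocal.mres_comp (M := FSch.unitF 𝔛 h) (homOfLE hWU).op k.op (a i j.1) :)
  have hbc : IsBaseChange (OR 𝔛 h Z) ((Algebra.linearMap (OR 𝔛 h U) (OR 𝔛 h Z)).compLeft J1) :=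
    IsBaseChange.finitePow J1 (IsBaseChange.linearMap (OR 𝔛 h U) (OR 𝔛 h Z))
  have hmem := mem_span_relations hbc vec coef hx
  let proj : (ι ⊕ ↥T → OR 𝔛 h Z) →ₗ[OR 𝔛 h Z] (ι → OR 𝔛 h Z) := LinearMap.funLeft _ _ Sum.inl
  have h5 := Submodule.mem_map_of_mem (f := proj) hmem
  rw [Submodule.map_span] at h5
  refine Submodule.span_le.2 ?_ h5
  rintro _ ⟨_, ⟨b, hb, rfl⟩, rfl⟩
  have hb1 : (fun i => b (Sum.inl i)) ∈ K := by
    rw [LinearMap.mem_ker, Fintype.linearCombination_apply]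
    have hj : ∀ j ∈ J1, ∑ i, b (Sum.inl i) * a i j = - ∑ r : ↥T, b (Sum.inr r) * rsO 𝔛 h hUV (D.r r.1 j) := by
      intro j hj
      have := congrFun (hb : ∑ p, b p • vec p = 0) ⟨j, hj⟩
      rw [Finset.sum_apply, Fintype.sum_sum_type] at this
      exact eq_neg_of_add_eq_zero_left this
    calc ∑ i, b (Sum.inl i) • s i
        = ∑ j ∈ J1, (∑ i, b (Sum.inl i) * a i j) • FPLocal.mres 𝔉 (homOfLE hUV).op (D.t j) := by
          simp only [Finset.sum_smul]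
          rw [Finset.sum_comm]
          refine Finset.sum_congr rfl fun i _ => ?_
          rw [← ha i, Finset.smul_sum,
            Finset.sum_subset (Finset.subset_union_left : S ⊆ J1) fun j _ hj => by
              rw [ha0 i j hj, zero_smul, smul_zero]]
          exact Finset.sum_congr rfl fun j _ => (mul_smul _ _ _).symm
      _ = - ∑ r : ↥T, b (Sum.inr r) • ∑ j ∈ J1, rsO 𝔛 h hUV (D.r r.1 j) •
            FPLocal.mres 𝔉 (homOfLE hUV).op (D.t j) := by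
          rw [Finset.sum_congr rfl fun j hj' => by rw [hj j hj', neg_smul, Finset.sum_smul]]
          rw [Finset.sum_neg_distrib, Finset.sum_comm]
          refine congrArg Neg.neg (Finset.sum_congr rfl fun r _ => ?_)
          rw [Finset.smul_sum]
          exact Finset.sum_congr rfl fun j _ => mul_smul _ _ _
      _ = 0 := by
          rw [neg_eq_zero]
          refine Finset.sum_eq_zero fun r _ => ?_
          have hsub : Sk r.1 ⊆ J1 := fun j hj =>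
            Finset.mem_union_right _ (Finset.mem_biUnion.2 ⟨r.1, r.2, hj⟩)
          rw [← Finset.sum_subset hsub fun j _ hj => by rw [hSk0 r.1 j hj, zero_smul], hSk r.1, smul_zero]
  rw [← hc] at hb1
  obtain ⟨f, hf⟩ := (Submodule.mem_span_range_iff_exists_fun _).1 hb1
  refine (Submodule.mem_span_range_iff_exists_fun _).2 ⟨fun j => rsO 𝔛 h hZU (f j.down), funext fun i => ?_⟩
  rw [Finset.sum_apply]
  refine Eq.trans ?_ (congrArg (rsO 𝔛 h hZU) (congrFun hf i))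
  rw [Finset.sum_apply, map_sum]
  refine Fintype.sum_equiv Equiv.ulift _ _ fun j => ?_
  rw [Pi.smul_apply, Pi.smul_apply, smul_eq_mul, smul_eq_mul, map_mul]
  rfl

/-- Finitely many generators expressed in the generators give generators and relations. -/
theorem hasRels_of_relData (hL : 𝔛.IsLocNoethFormal) (D : RelData 𝔉 V) (hU : IsAffineOpen U) (hUV : U ≤ V)
    {ι : Type u} [Fintype ι] (s : ι → 𝔉.val.obj (op U)) (hs : FPLocal.Gen 𝔉 s) (S : Finset D.I)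
    (a : ι → D.I → OR 𝔛 h U) (ha0 : ∀ i j, j ∉ S → a i j = 0)
    (ha : ∀ i, ∑ j ∈ S, a i j • FPLocal.mres 𝔉 (homOfLE hUV).op (D.t j) = s i) : FPLocal.HasRels 𝔉 U := by
  obtain ⟨l, c, h0, hc⟩ := relComplete_of_relData hL D hU hUV s S a ha0 ha
  exact ⟨ι, ULift.{u} (Fin l), inferInstance, inferInstance, s, c, hs, h0, hc⟩

theorem exists_coeffs (D : RelData 𝔉 V) {W : (𝔛.X 0).Opens} (hWV : W ≤ V) {ι : Type u} [Fintype ι]
    (s : ι → 𝔉.val.obj (op W)) {x : 𝔛.X 0} (hx : x ∈ W) :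
    ∃ (U : (𝔛.X 0).Opens) (hUW : U ≤ W), IsAffineOpen U ∧ x ∈ U ∧ ∃ (S : Finset D.I) (a : ι → D.I → OR 𝔛 h U),
      (∀ i j, j ∉ S → a i j = 0) ∧ ∀ i, ∑ j ∈ S, a i j • FPLocal.mres 𝔉 (homOfLE (hUW.trans hWV)).op (D.t j) =
        FPLocal.mres 𝔉 (homOfLE hUW).op (s i) := by
  classical
  choose Z g hxZ S a ha using fun i => FPLocal.Locally.near (D.gen (homOfLE hWV) (s i)) hx
  let Z0 : (𝔛.X 0).Opens := ⟨(W : Set (𝔛.X 0)) ∩ ⋂ i, (Z i : Set (𝔛.X 0)),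
    W.2.inter (isOpen_iInter_of_finite fun i => (Z i).2)⟩
  obtain ⟨U, hU, hxU, hUZ⟩ := exists_affine_le (𝔛 := 𝔛) (U := Z0) ⟨hx, Set.mem_iInter.2 hxZ⟩
  have hUW : U ≤ W := fun y hy => (hUZ hy).1
  have hUi : ∀ i, U ≤ Z i := fun i y hy => Set.mem_iInter.1 (hUZ hy).2 i
  refine ⟨U, hUW, hU, hxU, Finset.univ.biUnion S,
    fun i j => if j ∈ S i then rsO 𝔛 h (hUi i) (a i j) else 0,
    fun i j hj => if_neg fun hc => hj (Finset.mem_biUnion.2 ⟨i, Finset.mem_univ i, hc⟩), fun i => ?_⟩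
  rw [← Finset.sum_subset (fun j hj => Finset.mem_biUnion.2 ⟨i, Finset.mem_univ i, hj⟩)
    fun j _ hj => (congrArg (· • _) (if_neg hj)).trans (zero_smul _ _)]
  have e := congrArg (FPLocal.mres 𝔉 (homOfLE (hUi i)).op) (ha i)
  rw [map_sum] at e
  refine Eq.trans (Finset.sum_congr rfl fun j hj => ?_) (e.trans (FPLocal.mres_comp (M := 𝔉) (g i).op (homOfLE (hUi i)).op (s i)).symm)
  refine (congrArg (· • _) (if_pos hj)).trans ?_
  refine Eq.trans ?_ (PresheafOfModules.map_smul 𝔉.val (homOfLE (hUi i)).op (a i j) _).symm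
  refine congrArg (rsO 𝔛 h (hUi i) (a i j) • ·) ?_
  exact FPLocal.mres_comp (M := 𝔉) _ (homOfLE (hUi i)).op (D.t j)

/-- A quasi-coherent module of finite type is coherent. -/
theorem isCohF_of_qc_ft (hL : 𝔛.IsLocNoethFormal) (𝔉 : FSch.ModF 𝔛 h) [SheafOfModules.IsQuasicoherent.{u} 𝔉]
    [SheafOfModules.IsFiniteType.{u} 𝔉] : FSch.IsCohF 𝔛 h 𝔉 := by
  obtain ⟨q⟩ := SheafOfModules.IsQuasicoherent.nonempty_quasicoherentData (M := 𝔉)
  refine FPLocal.isFinitePresentation_of_hasRels 𝔉 fun W =>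
    ⟨{ arrows := fun Z _ => FPLocal.HasRels 𝔉 Z
       downward_closed := fun {Y Z} _ hZ k => hZ.restrict k }, fun x hx => ?_, fun Z g hg => hg⟩
  obtain ⟨V, g, hg, hxV⟩ := q.coversTop W x hx
  obtain ⟨i, ⟨f⟩⟩ := (Sieve.mem_ofObjects_iff ..).mp hg
  obtain ⟨S, hS, hS'⟩ := FPLocal.exists_sieve_hasGen 𝔉 V
  obtain ⟨W₁, g₁, hg₁, hxW⟩ := hS x hxV
  obtain ⟨ι, hι, s, hs⟩ := hS' g₁ hg₁
  let D := relDataOfPresentation 𝔉 (FPLocal.presentationRestr 𝔉 f (q.presentation i))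
  obtain ⟨U, hUW, hU, hxU, S₀, a, ha0, ha⟩ := exists_coeffs D (leOfHom g₁) s hxW
  exact ⟨U, homOfLE (hUW.trans ((leOfHom g₁).trans (leOfHom g))),
    hasRels_of_relData hL D hU (hUW.trans (leOfHom g₁)) _ (hs.restrict (homOfLE hUW)) S₀ a ha0 ha, hxU⟩


/-- Quotients of modules of finite type are of finite type. -/
theorem isFiniteType_of_epi {𝔉 𝔊 : FSch.ModF 𝔛 h} (π : 𝔉 ⟶ 𝔊) [Epi π] [SheafOfModules.IsFiniteType.{u} 𝔉] :
    SheafOfModules.IsFiniteType.{u} 𝔊 := by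
  refine FPLocal.isFiniteType_of_hasGen 𝔊 fun X => ?_
  obtain ⟨S, hS, hS'⟩ := FPLocal.exists_sieve_hasGen 𝔉 X
  refine ⟨S, hS, fun V g hg => ?_⟩
  obtain ⟨I, hI, s, hs⟩ := hS' g hg
  refine ⟨I, hI, fun i => (π.val.app (op V)).hom (s i), fun W k m => ?_⟩
  obtain ⟨S₁, hS₁, hS₁'⟩ := FPLocal.exists_sieve_preimage π m
  refine FPLocal.Locally.bind (P := fun Z l => ∃ t, (π.val.app (op Z)).hom t = FPLocal.mres 𝔊 l.op m)
    ⟨S₁, hS₁, hS₁'⟩ fun Z l ⟨t, ht⟩ => ?_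
  obtain ⟨S₂, hS₂, hS₂'⟩ := hs (l ≫ k) t
  refine ⟨S₂, hS₂, fun Y q hq => ?_⟩
  obtain ⟨a, ha⟩ := hS₂' q hq
  refine ⟨a, ?_⟩
  have e := congrArg (π.val.app (op Y)).hom ha
  rw [map_sum, FPLocal.app_mres, ht, ← FPLocal.mres_comp] at e
  refine Eq.trans (Finset.sum_congr rfl fun i _ => ?_) e
  rw [map_smul, FPLocal.app_mres, Category.assoc]

/-- Sections of a coherent module over an affine open form a Noetherian module. -/
theorem isNoetherian_sections (hL : 𝔛.IsLocNoethFormal) (h𝔉 : FSch.IsCohF 𝔛 h 𝔉) (hU : IsAffineOpen U) :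
    IsNoetherian (OR 𝔛 h U) (𝔉.val.obj (op U)) := by
  haveI := noetherian (h := h) hL hU
  haveI := (mod_main (h := h) (sysOf 𝔉) hL (sysOf_isCoh 𝔉 h𝔉) hU).1
  haveI : IsNoetherian (OR 𝔛 h U) (OM h (sysOf 𝔉) U) := isNoetherian_of_isNoetherianRing_of_finite _ _
  let f : 𝔉.val.obj (op U) →ₗ[OR 𝔛 h U] OM h (sysOf 𝔉) U := ((eps 𝔉).val.app (op U)).hom
  exact isNoetherian_of_injective f (eps_app_bijective hL h𝔉 U).1

/-- A quasi-coherent submodule of a coherent module is of finite type. -/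
theorem isFiniteType_of_mono (hL : 𝔛.IsLocNoethFormal) {𝔉 𝔊 : FSch.ModF 𝔛 h} (h𝔉 : FSch.IsCohF 𝔛 h 𝔉)
    [SheafOfModules.IsQuasicoherent.{u} 𝔊] (ι : 𝔊 ⟶ 𝔉) [Mono ι] : SheafOfModules.IsFiniteType.{u} 𝔊 := by
  classical
  obtain ⟨q⟩ := SheafOfModules.IsQuasicoherent.nonempty_quasicoherentData (M := 𝔊)
  refine FPLocal.isFiniteType_of_hasGen 𝔊 fun W =>
    ⟨{ arrows := fun Z _ => FPLocal.HasGen 𝔊 Z
       downward_closed := fun {Y Z} _ hZ k => hZ.restrict k }, fun x hx => ?_, fun Z g hg => hg⟩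
  obtain ⟨V, g, hg, hxV⟩ := q.coversTop W x hx
  obtain ⟨i, ⟨f⟩⟩ := (Sieve.mem_ofObjects_iff ..).mp hg
  let D := relDataOfPresentation 𝔊 (FPLocal.presentationRestr 𝔊 f (q.presentation i))
  obtain ⟨U, hU, hxU, hUV⟩ := exists_affine_le (𝔛 := 𝔛) hxV
  haveI := isNoetherian_sections hL h𝔉 hU
  let t : D.I → 𝔉.val.obj (op U) := fun j => (ι.val.app (op U)).hom (FPLocal.mres 𝔊 (homOfLE hUV).op (D.t j))
  obtain ⟨s, hs⟩ := IsNoetherian.noetherian (Submodule.span (OR 𝔛 h U) (Set.range t))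
  have hfin : ∃ S : Finset D.I, Set.range t ⊆ Submodule.span (OR 𝔛 h U) (t '' S) := by
    have h1 : ∀ v ∈ s, ∃ S : Finset D.I, v ∈ Submodule.span (OR 𝔛 h U) (t '' S) := fun v hv => by
      have hv' : v ∈ Submodule.span (OR 𝔛 h U) (Set.range t) := hs ▸ Submodule.subset_span hv
      obtain ⟨c, hc⟩ := (Finsupp.mem_span_range_iff_exists_finsupp).1 hv'
      exact ⟨c.support, hc ▸ Submodule.sum_mem _ fun j hj =>
        Submodule.smul_mem _ _ (Submodule.subset_span ⟨j, hj, rfl⟩)⟩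
    choose S hS using h1
    refine ⟨s.attach.biUnion fun v => S v.1 v.2, ?_⟩
    rintro _ ⟨j, rfl⟩
    have hj : t j ∈ Submodule.span (OR 𝔛 h U) (↑s : Set _) := hs.symm ▸ Submodule.subset_span ⟨j, rfl⟩
    refine Submodule.span_le.2 (fun v hv => ?_) hj
    exact Submodule.span_mono (Set.image_mono fun i hi =>
      Finset.mem_biUnion.2 ⟨⟨v, hv⟩, Finset.mem_attach _ _, hi⟩) (hS v hv)
  obtain ⟨S, hS⟩ := hfin
  have hco : ∀ j, ∃ b : ↥S → OR 𝔛 h U,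
      ∑ i, b i • FPLocal.mres 𝔊 (homOfLE hUV).op (D.t i.1) = FPLocal.mres 𝔊 (homOfLE hUV).op (D.t j) := fun j => by
    have hj := hS ⟨j, rfl⟩
    rw [show t '' (S : Set D.I) = Set.range fun i : ↥S => t i.1 by ext; simp] at hj
    obtain ⟨b, hb⟩ := (Submodule.mem_span_range_iff_exists_fun _).1 hj
    refine ⟨b, FPLocal.app_injective_of_mono ι U ?_⟩
    rw [map_sum]
    exact (Finset.sum_congr rfl fun i _ => map_smul (ι.val.app (op U)).hom (b i) _).trans hb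
  choose b hb using hco
  refine ⟨U, homOfLE (hUV.trans (leOfHom g)), ⟨↥S, inferInstance,
    fun i => FPLocal.mres 𝔊 (homOfLE hUV).op (D.t i.1), fun Z k m => ?_⟩, hxU⟩
  obtain ⟨S₁, hS₁, hS₁'⟩ := D.gen (k ≫ homOfLE hUV) m
  refine ⟨S₁, hS₁, fun Y l hl => ?_⟩
  obtain ⟨T, a₀, ha⟩ := hS₁' l hl
  let a : D.I → OR 𝔛 h Y := a₀
  have hYU : Y ≤ U := leOfHom (l ≫ k)
  refine ⟨fun i => ∑ j ∈ T, a j * rsO 𝔛 h hYU (b j i), Eq.trans ?_ ha⟩
  simp only [Finset.sum_smul]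
  rw [Finset.sum_comm]
  refine Finset.sum_congr rfl fun j _ => ?_
  have e := congrArg (FPLocal.mres 𝔊 (l ≫ k).op) (hb j)
  rw [map_sum, ← FPLocal.mres_comp] at e
  refine Eq.trans ?_ (congrArg (a j • ·) (e.trans (congrArg (fun f => FPLocal.mres 𝔊 f (D.t j)) (Subsingleton.elim _ _))))
  rw [Finset.smul_sum]
  refine Finset.sum_congr rfl fun i _ => ?_
  rw [mul_smul]
  refine congrArg (a j • ·) ?_
  exact (PresheafOfModules.map_smul 𝔊.val (l ≫ k).op (b j i) _).symm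

end Groth.Agent.FCompl
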