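import Groth.Agent.FPLocal.GenFP
import Groth.Agent.FPLocal.Colim
import Groth.Agent.FPLocal.OpensPt
import Mathlib.CategoryTheory.Limits.Constructions.Filtered

/-!
# Sections of free modules on any index set, and the relations of a presentation
-/

set_option linter.style.haveILetI false
set_option linter.unusedSectionVars false
set_option backward.isDefEq.respectTransparency false
set_option backward.isDefEq.respectTransparency.types false
set_option maxHeartbeats 1000000

universe u

open CategoryTheory Limits Opposite CategoryTheory.Limits.CoproductsFromFiniteFiltered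

noncomputable section

namespace Groth.Agent.FCompl

open Groth.Agent.FPLocal

section Free

variable {C : Type u} [SmallCategory C] {J : GrothendieckTopology C} {R : Sheaf J RingCat.{u}}
  {I : Type u}

/-- Sections of a free module are locally finite combinations of the basis. -/
theorem locally_free_sum {U : C} (z : (SheafOfModules.free (R := R) I).val.obj (op U)) :
    Locally J U fun W g => ∃ (S : Finset I) (a : I → R.obj.obj (op W)),
      ∑ i ∈ S, a i • basisVal (𝟙 (SheafOfModules.free (R := R) I)) i W = mres _ g.op z := by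
  classical
  let f : I → SheafOfModules.{u} R := fun _ => SheafOfModules.unit R
  have hc := isColimitFiniteSubproductsCocone f
  obtain ⟨T, hT, hT'⟩ := locally_exists_rep (c := finiteSubcoproductsCocone f) hc z
  refine ⟨T, hT, fun W g hg => ?_⟩
  obtain ⟨s, y, hy⟩ := hT' g hg
  let ψ : SheafOfModules.free (R := R) (↥s) ⟶ SheafOfModules.free (R := R) I :=
    (finiteSubcoproductsCocone f).ι.app s
  obtain ⟨a, ha⟩ := exists_eq_sum_basis (R := R) (I := ↥s) W y
  have hψ : ∀ x : ↥s, basisVal ψ x W = basisVal (𝟙 (SheafOfModules.free (R := R) I)) x.1.as W := fun x => by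
    refine congrArg (fun t => gval t W) ?_
    rw [Category.comp_id]
    exact colimit.ι_desc _ _
  refine ⟨s.map ⟨Discrete.as, fun p q e => Discrete.ext e⟩,
    fun i => if h : Discrete.mk i ∈ s then a ⟨_, h⟩ else 0, Eq.trans ?_ hy⟩
  refine Eq.trans ?_ (congrArg (ψ.val.app (op W)).hom ha).symm
  rw [app_sum_basis, Finset.sum_map, ← Finset.sum_attach s]
  refine Finset.sum_congr rfl fun x _ => ?_
  rw [hψ]
  exact congrArg (· • _) (dif_pos x.2)

/-- The coordinates of a free module. -/
def coord (j : I) : SheafOfModules.free (R := R) I ⟶ SheafOfModules.unit R :=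
  haveI := Classical.decEq I
  freeDesc fun i => if i = j then 𝟙 _ else 0

theorem coord_sum [DecidableEq I] (j : I) (U : C) (S : Finset I) (a : I → R.obj.obj (op U)) :
    (show R.obj.obj (op U) from ((coord (R := R) j).val.app (op U)).hom
      (∑ i ∈ S, a i • basisVal (𝟙 (SheafOfModules.free (R := R) I)) i U)) = if j ∈ S then a j else 0 := by
  rw [map_sum]
  have e : ∀ i, ((coord (R := R) j).val.app (op U)).hom
      (a i • basisVal (𝟙 (SheafOfModules.free (R := R) I)) i U) =
      (if i = j then a i else 0 : R.obj.obj (op U)) := fun i => by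
    rw [map_smul, app_basisVal_id, basisVal, coord, ιFree_freeDesc]
    by_cases h : i = j
    · rw [if_pos h, if_pos h]; exact mul_one (M := R.obj.obj (op U)) _
    · rw [if_neg h, if_neg h]; exact smul_zero _
  rw [Finset.sum_congr rfl fun i _ => e i]
  exact Finset.sum_ite_eq' S j a

end Free

variable {C : Type u} [SmallCategory C] {J : GrothendieckTopology C} {R : Sheaf J RingCat.{u}}
  (M : SheafOfModules.{u} R)

/-- Generators and relations, of any cardinality. -/
structure RelData (V : C) where
  /-- index of generators -/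
  I : Type u
  /-- index of relations -/
  K : Type u
  /-- generators -/
  t : I → M.val.obj (op V)
  /-- relations -/
  r : K → I → R.obj.obj (op V)
  gen : ∀ ⦃W : C⦄ (g : W ⟶ V) (m : M.val.obj (op W)), Locally J W fun Z h =>
    ∃ (S : Finset I) (a : I → R.obj.obj (op Z)), ∑ i ∈ S, a i • mres M (h ≫ g).op (t i) = mres M h.op m
  rel : ∀ k, Locally J V fun Z h => ∃ S : Finset I, (∀ i ∉ S, (R.obj.map h.op).hom (r k i) = 0) ∧
    ∑ i ∈ S, (R.obj.map h.op).hom (r k i) • mres M h.op (t i) = 0
  complete : ∀ ⦃W : C⦄ (g : W ⟶ V) (S : Finset I) (d : I → R.obj.obj (op W)), (∀ i ∉ S, d i = 0) →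
    ∑ i ∈ S, d i • mres M g.op (t i) = 0 → Locally J W fun Z h =>
      ∃ (T : Finset K) (e : K → R.obj.obj (op Z)), ∀ i,
        ∑ k ∈ T, e k * (R.obj.map (h ≫ g).op).hom (r k i) = (R.obj.map h.op).hom (d i)

variable {V : C} (P : (M.over V).Presentation)

/-- The generators of a presentation. -/
def genP (i : P.generators.I) : M.val.obj (op V) := val₁ M (SheafOfModules.ιFree i ≫ P.generators.π)

/-- The relations of a presentation. -/
def rhoP (k : P.relations.I) : SheafOfModules.unit (R.over V) ⟶ SheafOfModules.free (R := R.over V) P.generators.I :=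
  SheafOfModules.ιFree k ≫ P.relations.π ≫ kernel.ι P.generators.π

/-- The coefficients of the relations of a presentation. -/
def relP (k : P.relations.I) (i : P.generators.I) : R.obj.obj (op V) :=
  scal (R := R) (V := V) (rhoP M P k ≫ coord i)

lemma genP_app (i : P.generators.I) {W : C} (g : W ⟶ V) :
    (P.generators.π.val.app (op (Over.mk g))).hom
      (basisVal (𝟙 (SheafOfModules.free (R := R.over V) P.generators.I)) i (Over.mk g)) =
      mres M g.op (genP M P i) :=
  (app_basisVal_id P.generators.π i (Over.mk g)).trans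
    (mres_basisVal P.generators.π i (Over.homMk g (Category.comp_id g) : Over.mk g ⟶ Over.mk (𝟙 V))).symm

lemma relP_app (k : P.relations.I) (i : P.generators.I) {W : C} (g : W ⟶ V) :
    (show R.obj.obj (op W) from ((coord (R := R.over V) i).val.app (op (Over.mk g))).hom
      (gval (rhoP M P k) (Over.mk g))) = (R.obj.map g.op).hom (relP M P k i) :=
  gval_endo (rhoP M P k ≫ coord i) g

theorem genP_gen ⦃W : C⦄ (g : W ⟶ V) (m : M.val.obj (op W)) : Locally J W fun Z h =>
    ∃ (S : Finset P.generators.I) (a : P.generators.I → R.obj.obj (op Z)),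
      ∑ i ∈ S, a i • mres M (h ≫ g).op (genP M P i) = mres M h.op m := by
  let π := P.generators.π
  haveI : Epi π := inferInstance
  obtain ⟨S, hS, hS'⟩ := exists_sieve_preimage π (V := Over.mk g) (s := m)
  refine Locally.bind (P := fun Z h => ∃ y : (SheafOfModules.free (R := R.over V) P.generators.I).val.obj
      (op (Over.mk (h ≫ g))), (π.val.app (op (Over.mk (h ≫ g)))).hom y = mres M h.op m)
    ⟨Sieve.overEquiv _ S, (J.mem_over_iff _).1 hS, fun Z h hh => ?_⟩ fun Z h ⟨y, hy⟩ => ?_
  · rw [Sieve.overEquiv_iff] at hh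
    obtain ⟨y, hy⟩ := hS' (Over.homMk h : Over.mk (h ≫ g) ⟶ Over.mk g) hh
    exact ⟨y, hy⟩
  · obtain ⟨S', hS'', hS'''⟩ := locally_free_sum (R := R.over V) y
    refine ⟨Sieve.overEquiv _ S', (J.mem_over_iff _).1 hS'', fun Z' h' hh' => ?_⟩
    rw [Sieve.overEquiv_iff] at hh'
    obtain ⟨T, a, ha⟩ := hS''' _ hh'
    refine ⟨T, a, ?_⟩
    have ha' := congrArg (π.val.app (op (Over.mk (h' ≫ h ≫ g)))).hom ha
    rw [map_sum] at ha'
    refine Eq.trans (Finset.sum_congr rfl fun i _ => ?_) (ha'.trans ?_)
    · refine Eq.trans ?_ (map_smul _ _ _).symm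
      rw [Category.assoc]
      exact congrArg (a i • ·) (genP_app M P i (h' ≫ h ≫ g)).symm
    · refine (PresheafOfModules.naturality_apply π.val
        (Over.homMk h' : Over.mk (h' ≫ h ≫ g) ⟶ Over.mk (h ≫ g)).op y).trans ?_
      refine (congrArg (mres M h'.op) hy).trans ?_
      exact (mres_comp (M := M) h.op h'.op m).symm

open Classical in
theorem relP_rel (k : P.relations.I) : Locally J V fun Z h => ∃ S : Finset P.generators.I,
    (∀ i ∉ S, (R.obj.map h.op).hom (relP M P k i) = 0) ∧
      ∑ i ∈ S, (R.obj.map h.op).hom (relP M P k i) • mres M h.op (genP M P i) = 0 := by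
  let π := P.generators.π
  let z := gval (rhoP M P k) (Over.mk (𝟙 V))
  obtain ⟨S', hS', hS''⟩ := locally_free_sum (R := R.over V) z
  refine ⟨Sieve.overEquiv _ S', (J.mem_over_iff _).1 hS', fun Z h hh => ?_⟩
  rw [Sieve.overEquiv_iff] at hh
  obtain ⟨T, a, ha⟩ := hS'' _ hh
  have hz : gval (rhoP M P k) (Over.mk (h ≫ 𝟙 V)) = mres _ (Over.homMk h : Over.mk (h ≫ 𝟙 V) ⟶ Over.mk (𝟙 V)).op z :=
    (mres_gval (rhoP M P k) _).symm
  have hc : ∀ i, (R.obj.map (h ≫ 𝟙 V).op).hom (relP M P k i) = if i ∈ T then a i else 0 := fun i => by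
    refine (relP_app M P k i (h ≫ 𝟙 V)).symm.trans ?_
    exact (congrArg ((coord (R := R.over V) i).val.app (op (Over.mk (h ≫ 𝟙 V)))).hom (hz.trans ha.symm)).trans
      (coord_sum (R := R.over V) i (Over.mk (h ≫ 𝟙 V)) T a)
  have h0 : (π.val.app (op (Over.mk (h ≫ 𝟙 V)))).hom (gval (rhoP M P k) (Over.mk (h ≫ 𝟙 V))) = 0 := by
    have e : rhoP M P k ≫ π = 0 := by
      rw [rhoP, Category.assoc, Category.assoc, kernel.condition, comp_zero, comp_zero]
    exact congrArg (fun f => gval f (Over.mk (h ≫ 𝟙 V))) e
  have h1 := (congrArg (π.val.app (op (Over.mk (h ≫ 𝟙 V)))).hom (ha.trans hz.symm)).trans h0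
  rw [map_sum] at h1
  rw [Category.comp_id] at hc
  refine ⟨T, fun i hi => by rw [hc, if_neg hi], Eq.trans (Finset.sum_congr rfl fun i hi => ?_) h1⟩
  refine Eq.trans ?_ (map_smul _ _ _).symm
  rw [hc, if_pos hi]
  refine congrArg (a i • ·) ?_
  refine Eq.trans ?_ (genP_app M P i (h ≫ 𝟙 V)).symm
  rw [Category.comp_id]

theorem relP_complete ⦃W : C⦄ (g : W ⟶ V) (S : Finset P.generators.I) (d : P.generators.I → R.obj.obj (op W))
    (hd0 : ∀ i ∉ S, d i = 0) (hd : ∑ i ∈ S, d i • mres M g.op (genP M P i) = 0) : Locally J W fun Z h =>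
      ∃ (T : Finset P.relations.I) (e : P.relations.I → R.obj.obj (op Z)), ∀ i,
        ∑ k ∈ T, e k * (R.obj.map (h ≫ g).op).hom (relP M P k i) = (R.obj.map h.op).hom (d i) := by
  classical
  let π := P.generators.π
  let b := fun (i : P.generators.I) (U : Over V) =>
    basisVal (𝟙 (SheafOfModules.free (R := R.over V) P.generators.I)) i U
  let z := ∑ i ∈ S, (show (R.over V).obj.obj (op (Over.mk g)) from d i) • b i (Over.mk g)
  have hz : (π.val.app (op (Over.mk g))).hom z = 0 := by
    rw [map_sum]
    refine Eq.trans (Finset.sum_congr rfl fun i _ => ?_) hd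
    exact (map_smul _ _ _).trans (congrArg (d i • ·) (genP_app M P i g))
  obtain ⟨y, hy⟩ := exists_kernel_preimage π z hz
  obtain ⟨T₁, hT₁, hT₁'⟩ := exists_sieve_preimage P.relations.π (V := Over.mk g) (s := y)
  refine Locally.bind (P := fun Z h => ∃ w : (SheafOfModules.free (R := R.over V) P.relations.I).val.obj
      (op (Over.mk (h ≫ g))), (P.relations.π.val.app (op (Over.mk (h ≫ g)))).hom w =
        mres (kernel π) (Over.homMk h : Over.mk (h ≫ g) ⟶ Over.mk g).op y)
    ⟨Sieve.overEquiv _ T₁, (J.mem_over_iff _).1 hT₁, fun Z h hh => ?_⟩ fun Z h ⟨w, hw⟩ => ?_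
  · rw [Sieve.overEquiv_iff] at hh
    exact hT₁' _ hh
  · obtain ⟨T₂, hT₂, hT₂'⟩ := locally_free_sum (R := R.over V) w
    refine ⟨Sieve.overEquiv _ T₂, (J.mem_over_iff _).1 hT₂, fun Z' h' hh' => ?_⟩
    rw [Sieve.overEquiv_iff] at hh'
    obtain ⟨T, e, he⟩ := hT₂' _ hh'
    refine ⟨T, e, fun i => ?_⟩
    let U : Over V := Over.mk (h' ≫ h ≫ g)
    let q : U ⟶ Over.mk g := Over.homMk (h' ≫ h) (by simp [U])
    have e1 : ∑ k ∈ T, (show (R.over V).obj.obj (op U) from e k) • gval (rhoP M P k) U =
        mres (SheafOfModules.free (R := R.over V) P.generators.I) q.op z := by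
      have e2 := congrArg (fun v => ((kernel.ι π).val.app (op U)).hom ((P.relations.π.val.app (op U)).hom v)) he
      simp only [map_sum, map_smul] at e2
      refine Eq.trans ?_ (e2.trans ?_)
      · exact Finset.sum_congr rfl fun k _ => rfl
      · refine (congrArg ((kernel.ι π).val.app (op U)).hom ((PresheafOfModules.naturality_apply P.relations.π.val
          (Over.homMk h' : U ⟶ Over.mk (h ≫ g)).op w).trans (congrArg _ hw))).trans ?_
        rw [← hy]
        refine Eq.trans ?_ (app_mres (kernel.ι π) q y)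
        refine congrArg ((kernel.ι π).val.app (op U)).hom ?_
        exact (mres_comp (M := kernel π) _ _ y).symm
    have e3 := congrArg (fun v => (show R.obj.obj (op Z') from
      ((coord (R := R.over V) i).val.app (op U)).hom v)) e1
    simp only [map_sum, map_smul, app_mres] at e3
    rw [Category.assoc]
    refine Eq.trans (Finset.sum_congr rfl fun k _ => ?_) (e3.trans ?_)
    · exact congrArg (e k * ·) (relP_app M P k i (h' ≫ h ≫ g)).symm
    · refine congrArg (R.obj.map (h' ≫ h).op).hom ?_
      refine (coord_sum (R := R.over V) i (Over.mk g) S d).trans ?_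
      by_cases hi : i ∈ S
      · exact if_pos hi
      · exact (if_neg hi).trans (hd0 i hi).symm

/-- The data of a presentation. -/
def relDataOfPresentation : RelData M V where
  I := P.generators.I
  K := P.relations.I
  t := genP M P
  r := relP M P
  gen := genP_gen M P
  rel := relP_rel M P
  complete := relP_complete M P

end Groth.Agent.FCompl
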