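import Groth.Agent.FComplLib.Alg
import Groth.Agent.CompFlatLib.Scheme
import Groth.Agent.FSchAffineLib.LimRing
import Groth.Agent.FSchLevLib.Basic
import Groth.Agent.RegLocal.Complete
import Groth.Agent.S13347

/-!
# The rings of sections of a locally Noetherian formal scheme on affine opens
-/

set_option autoImplicit false
set_option linter.style.haveILetI false
set_option backward.isDefEq.respectTransparency false
universe u

open CategoryTheory CategoryTheory.Limits AlgebraicGeometry TopologicalSpace Opposite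

noncomputable section

namespace Groth.Agent.FCompl

variable (𝔛 : FSch.Sys.{u}) (h : 𝔛.IsFormal) (U V W : (𝔛.X 0).Opens)

/-- Sections of the structure sheaf over `U`. -/
abbrev OR : Type u := (𝔛.Osh h).obj.obj (op U)

/-- Sections of the `n`-th level over `U`. -/
abbrev LR (n : ℕ) : Type u := Γ(𝔛.X n, 𝔛.lvU h n U)

/-- The projection to the `n`-th level. -/
def pr (n : ℕ) : OR 𝔛 h U →+* LR 𝔛 h U n := ((𝔛.OshProj h n).hom.app (op U)).hom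

/-- The transition. -/
def tr (n : ℕ) : LR 𝔛 h U (n + 1) →+* LR 𝔛 h U n :=
  ((𝔛.ι n).appLE (𝔛.lvU h (n + 1) U) (𝔛.lvU h n U) (𝔛.lvU_le h n U)).hom

lemma lvU_mono {U V : (𝔛.X 0).Opens} (hVU : V ≤ U) (n : ℕ) : 𝔛.lvU h n V ≤ 𝔛.lvU h n U :=
  fun _ hx => hVU hx

/-- Restriction on the `n`-th level. -/
def rsL {U V : (𝔛.X 0).Opens} (hVU : V ≤ U) (n : ℕ) : LR 𝔛 h U n →+* LR 𝔛 h V n :=
  ((𝔛.X n).presheaf.map (homOfLE (lvU_mono 𝔛 h hVU n)).op).hom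

/-- Restriction. -/
def rsO {U V : (𝔛.X 0).Opens} (hVU : V ≤ U) : OR 𝔛 h U →+* OR 𝔛 h V :=
  ((𝔛.Osh h).obj.map (homOfLE hVU).op).hom

lemma tr_pr (n : ℕ) (x : OR 𝔛 h U) : tr 𝔛 h U n (pr 𝔛 h U (n + 1) x) = pr 𝔛 h U n x :=
  congr($(𝔛.OshProj_levelMap h n).hom.app (op U) x)

lemma pr_rsO {U V : (𝔛.X 0).Opens} (hVU : V ≤ U) (n : ℕ) (x : OR 𝔛 h U) :
    pr 𝔛 h V n (rsO 𝔛 h hVU x) = rsL 𝔛 h hVU n (pr 𝔛 h U n x) :=
  ConcreteCategory.congr_hom ((𝔛.OshProj h n).hom.naturality (homOfLE hVU).op) x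

lemma toX_le : ∀ n, 𝔛.lvU h 0 U ≤ 𝔛.toX n ⁻¹ᵁ 𝔛.lvU h n U
  | 0 => le_rfl
  | n + 1 => (toX_le n).trans (Scheme.Hom.preimage_mono _ (𝔛.lvU_le h n U))

lemma toX_preimage_eq : ∀ n, 𝔛.toX n ⁻¹ᵁ 𝔛.lvU h n U = 𝔛.lvU h 0 U
  | 0 => rfl
  | n + 1 => by
    show 𝔛.toX n ⁻¹ᵁ (𝔛.ι n ⁻¹ᵁ 𝔛.lvU h (n + 1) U) = _
    rw [𝔛.lvU_succ h n U]
    exact toX_preimage_eq n

/-- The map to the smallest level. -/
def cm (n : ℕ) : LR 𝔛 h U n →+* LR 𝔛 h U 0 :=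
  ((𝔛.toX n).appLE (𝔛.lvU h n U) (𝔛.lvU h 0 U) (toX_le 𝔛 h U n)).hom

lemma cm_tr (n : ℕ) (x : LR 𝔛 h U (n + 1)) : cm 𝔛 h U n (tr 𝔛 h U n x) = cm 𝔛 h U (n + 1) x :=
  ConcreteCategory.congr_hom (Scheme.Hom.appLE_comp_appLE (𝔛.toX n) (𝔛.ι n) (𝔛.lvU h (n + 1) U)
    (𝔛.lvU h n U) (𝔛.lvU h 0 U) (𝔛.lvU_le h n U) (toX_le 𝔛 h U n)) x

lemma cm_zero (x : LR 𝔛 h U 0) : cm 𝔛 h U 0 x = x :=
  congrArg (fun f => (ConcreteCategory.hom f) x)
    (show (𝟙 (𝔛.X 0) : _ ⟶ _).appLE (𝔛.lvU h 0 U) (𝔛.lvU h 0 U) le_rfl = 𝟙 _ by simp [Scheme.Hom.appLE]; exact (𝔛.X 0).presheaf.map_id _)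

lemma cm_pr : ∀ n (x : OR 𝔛 h U), cm 𝔛 h U n (pr 𝔛 h U n x) = pr 𝔛 h U 0 x
  | 0, x => cm_zero 𝔛 h U _
  | n + 1, x => by rw [← cm_tr, tr_pr, cm_pr n x]

lemma ker_appLE {X Y : Scheme.{u}} (f : X ⟶ Y) (V : Y.Opens) (V' : X.Opens) (e : V' ≤ f ⁻¹ᵁ V)
    (e' : f ⁻¹ᵁ V = V') : RingHom.ker (f.appLE V V' e).hom = RingHom.ker (f.app V).hom := by
  subst e'
  rw [← Scheme.Hom.app_eq_appLE]

variable {𝔛 h U V W}

lemma affine_lvU (hU : IsAffineOpen U) (n : ℕ) : IsAffineOpen (𝔛.lvU h n U) :=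
  S13347.h9_lvU_affine 𝔛 h U hU n

lemma pr_surjective (hL : 𝔛.IsLocNoethFormal) (hU : IsAffineOpen U) (n : ℕ) :
    Function.Surjective (pr 𝔛 h U n) := by
  refine S13347.result 𝔛 h (fun i Z => ?_) n U hU
  haveI := FSch.Sys.toX_isClosedImmersion 𝔛 h i
  exact ⟨i + 1, by rw [Scheme.Hom.ker_apply, Ideal.zero_eq_bot]; exact FSchLevLib.pow_ker_app 𝔛 h hL.2.1 i Z⟩

lemma tr_surjective (hU : IsAffineOpen U) (n : ℕ) : Function.Surjective (tr 𝔛 h U n) := by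
  haveI := (h n).1
  intro y
  obtain ⟨z, hz⟩ := ((ConcreteCategory.bijective_of_isIso ((𝔛.X n).presheaf.map
    (eqToHom (𝔛.lvU_succ h n U).symm).op)).2.comp ((𝔛.ι n).app_surjective _ (affine_lvU hU (n + 1)))) y
  exact ⟨z, hz⟩

lemma pow_ker_cm (hL : 𝔛.IsLocNoethFormal) (hU : IsAffineOpen U) (n : ℕ) :
    RingHom.ker (cm 𝔛 h U n) ^ (n + 1) = ⊥ := by
  rw [cm, ker_appLE _ _ _ _ (toX_preimage_eq 𝔛 h U n)]
  exact FSchLevLib.pow_ker_app 𝔛 h hL.2.1 n ⟨_, affine_lvU hU n⟩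

lemma ker_tr (hL : 𝔛.IsLocNoethFormal) (hU : IsAffineOpen U) (n : ℕ) :
    RingHom.ker (tr 𝔛 h U n) = RingHom.ker (cm 𝔛 h U (n + 1)) ^ (n + 1) := by
  haveI := (h n).1
  haveI := FSch.Sys.toX_isClosedImmersion 𝔛 h (n + 1)
  rw [tr, cm, ker_appLE _ _ _ _ (𝔛.lvU_succ h n U), ker_appLE _ _ _ _ (toX_preimage_eq 𝔛 h U (n + 1))]
  have e := congrArg (fun I => Scheme.IdealSheafData.ideal I (⟨𝔛.lvU h (n + 1) U, affine_lvU (h := h) hU (n + 1)⟩ :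
    (𝔛.X (n + 1)).affineOpens)) (hL.2.1 n)
  simpa only [Scheme.IdealSheafData.ideal_pow, Pi.pow_apply, Scheme.Hom.ker_apply] using e

/-- Sections of the structure sheaf are compatible families. -/
theorem osh_lift (b : ∀ n, LR 𝔛 h U n) (hb : ∀ n, tr 𝔛 h U n (b (n + 1)) = b n) :
    ∃ x, ∀ n, pr 𝔛 h U n x = b n :=
  (CompFlat.osh_existsUnique 𝔛 h U b hb).exists

theorem osh_ext {x y : OR 𝔛 h U} (hxy : ∀ n, pr 𝔛 h U n x = pr 𝔛 h U n y) : x = y :=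
  (CompFlat.osh_existsUnique 𝔛 h U (fun n => pr 𝔛 h U n y) fun n => tr_pr 𝔛 h U n y).unique hxy fun _ => rfl

variable (𝔛 h U) in
/-- The ideal of the smallest level. -/
def II : Ideal (OR 𝔛 h U) := RingHom.ker (pr 𝔛 h U 0)

/-- The sections on an affine open form an adic Noetherian ring. -/
theorem ring_main (hL : 𝔛.IsLocNoethFormal) (hU : IsAffineOpen U) :
    IsNoetherianRing (OR 𝔛 h U) ∧ IsAdicComplete (II 𝔛 h U) (OR 𝔛 h U) ∧
      ∀ n, RingHom.ker (pr 𝔛 h U n) = II 𝔛 h U ^ (n + 1) := by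
  let R : ℕ → Type u := LR 𝔛 h U
  let t : ∀ n, R (n + 1) →+* R n := tr 𝔛 h U
  let e₀ : OR 𝔛 h U →+* FSchAffineLib.limRing R t :=
    RingHom.codRestrict (RingHom.pi (pr 𝔛 h U)) _ fun x n => tr_pr 𝔛 h U n x
  let e : OR 𝔛 h U ≃+* FSchAffineLib.limRing R t := RingEquiv.ofBijective e₀
    ⟨fun x y hxy => osh_ext fun n => congrFun (congrArg Subtype.val hxy) n,
      fun z => by
        obtain ⟨x, hx⟩ := osh_lift z.1 z.2
        exact ⟨x, Subtype.ext (funext hx)⟩⟩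
  have hproj : ∀ n, (FSchAffineLib.proj R t n).comp e.toRingHom = pr 𝔛 h U n := fun n => rfl
  have hcm : ∀ n, RingHom.ker (FSchAffineLib.proj R t 0) =
      (RingHom.ker (cm 𝔛 h U n)).comap (FSchAffineLib.proj R t n) := fun n => by
    ext z
    obtain ⟨x, rfl⟩ := e.surjective z
    rw [Ideal.mem_comap, RingHom.mem_ker, RingHom.mem_ker]
    show pr 𝔛 h U 0 x = 0 ↔ cm 𝔛 h U n (pr 𝔛 h U n x) = 0
    rw [cm_pr]
  have hsurj := fun n => FSchAffineLib.proj_surjective R t (tr_surjective hU) n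
  have hmap : ∀ n, (RingHom.ker (FSchAffineLib.proj R t 0)).map (FSchAffineLib.proj R t n) =
      RingHom.ker (cm 𝔛 h U n) := fun n => by
    rw [hcm n, Ideal.map_comap_of_surjective _ (hsurj n)]
  haveI hN : ∀ n, IsNoetherianRing (R n) := fun n =>
    haveI := hL.2.2 n
    IsLocallyNoetherian.component_noetherian ⟨_, affine_lvU hU n⟩
  obtain ⟨hfg, hker⟩ := FSchAffineLib.ker_proj R t (tr_surjective hU) (fun n => by
      rw [← Ideal.map_eq_bot_iff_le_ker, Ideal.map_pow, hmap, pow_ker_cm hL hU])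
    (fun n x hx => by
      have h1 : FSchAffineLib.proj R t (n + 1) x ∈ RingHom.ker (t n) := by
        rw [RingHom.mem_ker, FSchAffineLib.t_proj]; exact hx
      rw [ker_tr hL hU, ← hmap (n + 1), ← Ideal.map_pow] at h1
      obtain ⟨z, hz, hzx⟩ := (Ideal.mem_map_iff_of_surjective _ (hsurj (n + 1))).1 h1
      rw [← add_sub_cancel z x]
      exact add_mem (Ideal.mem_sup_left hz)
        (Ideal.mem_sup_right (by rw [RingHom.mem_ker, map_sub, hzx, sub_self])))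
    ((hN 1).noetherian _)
  haveI := FSchAffineLib.isAdicComplete R t hker
  haveI : IsNoetherianRing (FSchAffineLib.limRing R t ⧸ RingHom.ker (FSchAffineLib.proj R t 0)) :=
    isNoetherianRing_of_ringEquiv _ (RingHom.quotientKerEquivOfSurjective (hsurj 0)).symm
  haveI := RegLocal.isNoetherianRing_of_isAdicComplete _ hfg
  have hI : II 𝔛 h U = (RingHom.ker (FSchAffineLib.proj R t 0)).comap e := rfl
  refine ⟨isNoetherianRing_of_ringEquiv _ e.symm, ?_, fun n => ?_⟩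
  · rw [← IsAdicComplete.congr_ringEquiv (I := II 𝔛 h U) e, hI, Ideal.map_comap_of_surjective _ e.surjective]
    infer_instance
  · rw [hI, ← Ideal.map_symm, ← Ideal.map_pow, ← hker n, Ideal.map_symm]
    rfl

lemma ker_pr (hL : 𝔛.IsLocNoethFormal) (hU : IsAffineOpen U) (n : ℕ) :
    RingHom.ker (pr 𝔛 h U n) = II 𝔛 h U ^ (n + 1) :=
  (ring_main hL hU).2.2 n

lemma noetherian (hL : 𝔛.IsLocNoethFormal) (hU : IsAffineOpen U) : IsNoetherianRing (OR 𝔛 h U) :=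
  (ring_main hL hU).1

lemma complete (hL : 𝔛.IsLocNoethFormal) (hU : IsAffineOpen U) :
    IsAdicComplete (II 𝔛 h U) (OR 𝔛 h U) :=
  (ring_main hL hU).2.1

lemma II_le_jacobson (hL : 𝔛.IsLocNoethFormal) (hU : IsAffineOpen U) :
    II 𝔛 h U ≤ Ideal.jacobson ⊥ :=
  haveI := complete (h := h) hL hU
  IsAdicComplete.le_jacobson_bot _

lemma rsL_flat (hU : IsAffineOpen U) (hV : IsAffineOpen V) (hVU : V ≤ U) (n : ℕ) :
    (rsL 𝔛 h hVU n).Flat := by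
  have h1 := Scheme.Hom.flat_appLE (𝟙 (𝔛.X n)) (affine_lvU (h := h) hU n) (affine_lvU hV n)
    (lvU_mono 𝔛 h hVU n)
  have e : ((𝟙 (𝔛.X n) : _ ⟶ _).appLE (𝔛.lvU h n U) (𝔛.lvU h n V) (lvU_mono 𝔛 h hVU n)) =
      (𝔛.X n).presheaf.map (homOfLE (lvU_mono 𝔛 h hVU n)).op := by simp [Scheme.Hom.appLE]
  rw [e] at h1
  exact h1

lemma II_map (hL : 𝔛.IsLocNoethFormal) (hU : IsAffineOpen U) (hV : IsAffineOpen V) (hVU : V ≤ U) :
    (II 𝔛 h U).map (rsO 𝔛 h hVU) = II 𝔛 h V := by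
  haveI := noetherian (h := h) hL hV
  refine le_antisymm ?_ ?_
  · rw [Ideal.map_le_iff_le_comap]
    intro x hx
    rw [Ideal.mem_comap, II, RingHom.mem_ker, pr_rsO, show pr 𝔛 h U 0 x = 0 from hx, map_zero]
  · refine Submodule.le_of_le_smul_of_le_jacobson_bot (IsNoetherian.noetherian _) (II_le_jacobson hL hV) ?_
    rw [smul_eq_mul, ← pow_two, ← ker_pr hL hV 1]
    intro x hx
    have h1 : pr 𝔛 h V 1 x ∈ RingHom.ker (cm 𝔛 h V 1) := by rw [RingHom.mem_ker, cm_pr]; exact hx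
    have h2 : RingHom.ker (cm 𝔛 h V 1) =
        (RingHom.ker (cm 𝔛 h U 1)).map (rsL 𝔛 h hVU 1) := by
      haveI := FSch.Sys.toX_isClosedImmersion 𝔛 h 1
      rw [cm, cm, ker_appLE _ _ _ _ (toX_preimage_eq 𝔛 h V 1), ker_appLE _ _ _ _ (toX_preimage_eq 𝔛 h U 1),
        ← Scheme.Hom.ker_apply _ ⟨_, affine_lvU hV 1⟩, ← Scheme.Hom.ker_apply _ ⟨_, affine_lvU hU 1⟩]
      exact ((𝔛.toX 1).ker.map_ideal (U := ⟨_, affine_lvU hV 1⟩) (V := ⟨_, affine_lvU hU 1⟩)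
        (lvU_mono 𝔛 h hVU 1)).symm
    have h3 : (II 𝔛 h U).map (pr 𝔛 h U 1) = RingHom.ker (cm 𝔛 h U 1) := by
      rw [← Ideal.map_comap_of_surjective _ (pr_surjective hL hU 1) (RingHom.ker (cm 𝔛 h U 1))]
      congr 1
      ext z
      rw [Ideal.mem_comap, II, RingHom.mem_ker, RingHom.mem_ker, cm_pr]
    have h4 : (pr 𝔛 h V 1).comp (rsO 𝔛 h hVU) = (rsL 𝔛 h hVU 1).comp (pr 𝔛 h U 1) :=
      RingHom.ext (pr_rsO 𝔛 h hVU 1)
    rw [h2, ← h3, Ideal.map_map, ← h4, ← Ideal.map_map] at h1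
    obtain ⟨z, hz, hzx⟩ := (Ideal.mem_map_iff_of_surjective _ (pr_surjective hL hV 1)).1 h1
    rw [← add_sub_cancel z x]
    exact add_mem (Ideal.mem_sup_left hz) (Ideal.mem_sup_right (by rw [RingHom.mem_ker, map_sub, hzx, sub_self]))

/-- Restriction between affine opens is flat. -/
theorem rsO_flat (hL : 𝔛.IsLocNoethFormal) (hU : IsAffineOpen U) (hV : IsAffineOpen V) (hVU : V ≤ U) :
    (rsO 𝔛 h hVU).Flat := by
  haveI := noetherian (h := h) hL hU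
  haveI := noetherian (h := h) hL hV
  refine flat_of_levels (rsO 𝔛 h hVU) (II 𝔛 h U) ?_ (pr 𝔛 h U) (pr 𝔛 h V) (rsL 𝔛 h hVU)
    (pr_surjective hL hU) (pr_surjective hL hV) (ker_pr hL hU) (fun n => ?_) (pr_rsO 𝔛 h hVU)
    (rsL_flat hU hV hVU)
  · rw [II_map hL hU hV hVU]; exact II_le_jacobson hL hV
  · rw [II_map hL hU hV hVU]; exact ker_pr hL hV n

/-- Affine opens inside `U` cover `U`. -/
lemma exists_affine_le {x : 𝔛.X 0} (hx : x ∈ U) : ∃ Z : (𝔛.X 0).Opens, IsAffineOpen Z ∧ x ∈ Z ∧ Z ≤ U :=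
  exists_isAffineOpen_mem_and_subset hx

end Groth.Agent.FCompl
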