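import Groth.Agent.SiteCmpLib.Unbounded

/-!
# Derived direct images of complexes bounded above under finite cohomological dimension
-/

set_option autoImplicit false
set_option linter.style.haveILetI false

universe u

open CategoryTheory CategoryTheory.Limits CategoryTheory.Pretriangulated Opposite DerivedCategory

attribute [local instance] HasDerivedCategory.standard

noncomputable section

namespace Groth.Agent.SiteCmpLib

variable {C : Type u} [SmallCategory C] {J : GrothendieckTopology C} {O_C : Sheaf J CommRingCat.{u}}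
  {D : Type u} [SmallCategory D] {K : GrothendieckTopology D} {O_D : Sheaf K CommRingCat.{u}}
  (f : ModSite.RMor O_C O_D) [SiteCmp.HasRpushD f]

/-- With cohomological amplitude `N`, derived direct image preserves vanishing in high degrees. -/
theorem isZero_homology_rpush_of_above [HasInjectiveResolutions (ModSite.Mod O_C)]
    (A : ObjectProperty (ModSite.Mod O_C)) [WSerre.IsWeakSerre A] (B : Set C) (B' : Set D)
    (hB : ∀ U : C, ∃ (ι : Type u) (Y : ι → C) (g : ∀ i, Y i ⟶ U), Sieve.ofArrows Y g ∈ J U ∧ ∀ i, Y i ∈ B)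
    (hA : ∀ V ∈ B, ∃ d : ℕ, ∀ T ∈ J V, ∃ (ι : Type u) (Y : ι → C) (g : ∀ i, Y i ⟶ V),
      (∀ i, T.arrows (g i)) ∧ Sieve.ofArrows Y g ∈ J V ∧
      ∀ (i : ι) (F : ModSite.Mod O_C), A F → ∀ k : ℕ, d < k → Subsingleton (ModSite.HU O_C F k (Y i)))
    (hB' : ∀ U : D, ∃ (ι : Type u) (Y : ι → D) (g : ∀ i, Y i ⟶ U), Sieve.ofArrows Y g ∈ K U ∧ ∀ i, Y i ∈ B')
    (hA' : ∀ V ∈ B', ∃ d : ℕ, ∀ T ∈ K V, ∃ (ι : Type u) (Y : ι → D) (g : ∀ i, Y i ⟶ V),
      (∀ i, T.arrows (g i)) ∧ Sieve.ofArrows Y g ∈ K V ∧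
      ∀ (i : ι) (F : ModSite.Mod O_C), A F → ∀ k : ℕ, d < k → Subsingleton (ModSite.HU O_C F k (f.fn.obj (Y i))))
    (N : ℕ) (h3 : ∀ F : ModSite.Mod O_C, A F → ∀ p : ℕ, N < p → IsZero ((f.Rpush p).obj F))
    (X : DerivedCategory (ModSite.Mod O_C)) (hX : WSerre.cohIn A X) (i₀ : ℤ)
    (h₀ : ∀ i : ℤ, i₀ ≤ i → IsZero ((homologyFunctor (ModSite.Mod O_C) i).obj X)) (i : ℤ) (hi : i₀ + N ≤ i) :
    IsZero ((homologyFunctor (ModSite.Mod O_D) i).obj ((SiteCmp.RpushD f).obj X)) := by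
  obtain ⟨_, _⟩ := exists_triangulated_rpushD f
  let Y := X⟦i₀⟧
  have hY : WSerre.cohIn A Y := fun q =>
    A.prop_of_iso (((homologyFunctor (ModSite.Mod O_C) 0).shiftIso i₀ q (i₀ + q) rfl).app X).symm (hX (i₀ + q))
  haveI hle : Y.IsLE (-1) := (DerivedCategory.isLE_iff _ _).2 fun q hq =>
    (h₀ (i₀ + q) (by omega)).of_iso (((homologyFunctor (ModSite.Mod O_C) 0).shiftIso i₀ q (i₀ + q) rfl).app X)
  have hz : IsZero (CohCx.truncTower Y 0) :=
    (TStructure.t (C := ModSite.Mod O_C)).isZero_truncGE_obj_of_isLE (-1) (-((0 : ℕ) : ℤ)) (by simp) Y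
  haveI := isIso_homology_rpush_truncGEπ_of_upstairs f A B B' hB hA hB' (N : ℤ)
    (fun F hF p hp => h3 F hF p (by omega)) Y hY hA' 0 (i - i₀) (by omega)
  have hzY : IsZero ((homologyFunctor (ModSite.Mod O_D) (i - i₀)).obj ((SiteCmp.RpushD f).obj Y)) :=
    (Functor.map_isZero _ (Functor.map_isZero _ hz)).of_iso
      (asIso ((homologyFunctor (ModSite.Mod O_D) (i - i₀)).map ((SiteCmp.RpushD f).map (CohCx.toTruncTower Y 0))))
  exact hzY.of_iso
    ((((homologyFunctor (ModSite.Mod O_D) 0).shiftIso i₀ (i - i₀) i (by omega)).app _).symm ≪≫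
      (homologyFunctor (ModSite.Mod O_D) (i - i₀)).mapIso (((SiteCmp.RpushD f).commShiftIso i₀).app X).symm)

end Groth.Agent.SiteCmpLib
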