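import Groth.Agent.FComplLib.Vanish
import Groth.Agent.LocZLib.Flasque
import Groth.Agent.SiteBase.ModCoh

/-!
# Higher direct images along affine morphisms
-/

set_option autoImplicit false
set_option linter.style.haveILetI false
set_option linter.unusedVariables false
set_option backward.isDefEq.respectTransparency false
set_option backward.isDefEq.respectTransparency.types false
set_option maxHeartbeats 4000000
universe u

open CategoryTheory CategoryTheory.Limits AlgebraicGeometry TopologicalSpace Opposite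

noncomputable section

namespace Groth.Agent.FCompl

variable {𝔛 : FSch.Sys.{u}} {h : 𝔛.IsFormal}

/-- Cohomology of a module over an open, in positive degrees, vanishes. -/
def Acy (M : FSch.ModF 𝔛 h) (U : (𝔛.X 0).Opens) : Prop :=
  ∀ k, Subsingleton (CohBase.HU U ((SheafOfModules.toSheaf (ModSite.ringSh (𝔛.Osh h))).obj M) (k + 1))

theorem acy_injective (I : FSch.ModF 𝔛 h) [Injective I] (U : (𝔛.X 0).Opens) : Acy I U := fun k => by
  haveI : TopCat.Sheaf.IsFlasque (X := (𝔛.X 0).carrier) ((SheafOfModules.toSheaf (ModSite.ringSh (𝔛.Osh h))).obj I) :=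
    LocZLib.isFlasque_of_surjective _ fun {W V} hWV => SiteBase.surjective_map_of_injective _ I (homOfLE hWV)
  exact LocZLib.subsingleton_HU_flasque (X := (𝔛.X 0).carrier) U k
    ((SheafOfModules.toSheaf (ModSite.ringSh (𝔛.Osh h))).obj I)

theorem toSheaf_shortExact {S : ShortComplex (FSch.ModF 𝔛 h)} (hS : S.ShortExact) :
    (S.map (SheafOfModules.toSheaf (ModSite.ringSh (𝔛.Osh h)))).ShortExact := by
  let T := SheafOfModules.toSheaf (ModSite.ringSh (𝔛.Osh h))
  haveI := hS.mono_f
  haveI := hS.epi_g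
  haveI : Mono ((S.map T).f) := T.map_mono S.f
  haveI : Epi ((S.map T).g) := (inferInstance : Epi (T.map S.g))
  refine ShortComplex.ShortExact.mk' ?_ inferInstance inferInstance
  exact ShortComplex.exact_of_f_is_kernel _ (KernelFork.mapIsLimit _ hS.fIsKernel T)

theorem acy_quot {S : ShortComplex (FSch.ModF 𝔛 h)} (hS : S.ShortExact) [Injective S.X₂] {U : (𝔛.X 0).Opens}
    (h₁ : Acy S.X₁ U) : Acy S.X₃ U := fun k => by
  let T := S.map (SheafOfModules.toSheaf (ModSite.ringSh (𝔛.Osh h)))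
  haveI : Subsingleton (CohBase.HU U T.X₂ (k + 1)) := acy_injective S.X₂ U k
  haveI : Subsingleton (CohBase.HU U T.X₁ (k + 1 + 1)) := h₁ (k + 1)
  exact CohBase.subsingleton_quot (toSheaf_shortExact hS) U (k + 1)

theorem acy_surjective {S : ShortComplex (FSch.ModF 𝔛 h)} (hS : S.ShortExact) {U : (𝔛.X 0).Opens}
    (h₁ : Acy S.X₁ U) : Function.Surjective (S.g.val.app (op U)).hom := by
  haveI : Subsingleton (CohBase.HU U (S.map (SheafOfModules.toSheaf (ModSite.ringSh (𝔛.Osh h)))).X₁ 1) := h₁ 0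
  exact CohBase.sections_surjective (toSheaf_shortExact hS) U

theorem acy_of_iso {M N : FSch.ModF 𝔛 h} (e : M ≅ N) {U : (𝔛.X 0).Opens} (hM : Acy M U) : Acy N U := fun k => by
  let T := SheafOfModules.toSheaf (ModSite.ringSh (𝔛.Osh h))
  haveI : Subsingleton (CohBase.HU U (T.obj M) (k + 1)) := hM k
  refine subsingleton_of_forall_eq 0 fun x => ?_
  have e1 : x = CohBase.hmap U (T.map e.hom) (k + 1) (CohBase.hmap U (T.map e.inv) (k + 1) x) := by
    rw [CohBase.hmap_apply, CohBase.hmap_apply, Abelian.Ext.comp_assoc_of_third_deg_zero, Abelian.Ext.mk₀_comp_mk₀,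
      ← T.map_comp, e.inv_hom_id, T.map_id, Abelian.Ext.comp_mk₀_id]
  rw [e1, Subsingleton.elim (CohBase.hmap U (T.map e.inv) (k + 1) x) 0, map_zero]

variable {M : FSch.ModF 𝔛 h} (R : InjectiveResolution M)

/-- The short exact sequences of a resolution. -/
def resSeq (j : ℕ) : ShortComplex (FSch.ModF 𝔛 h) :=
  ShortComplex.mk (kernel.ι (R.cocomplex.d j (j + 1)))
    (kernel.lift (R.cocomplex.d (j + 1) (j + 2)) (R.cocomplex.d j (j + 1)) (R.cocomplex.d_comp_d _ _ _))
    ((cancel_mono (kernel.ι _)).1 (by rw [Category.assoc, kernel.lift_ι, kernel.condition, zero_comp]))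

theorem resSeq_shortExact (j : ℕ) : (resSeq R j).ShortExact := by
  let S := resSeq R j
  haveI : Mono S.f := inferInstanceAs (Mono (kernel.ι _))
  have hex : (R.cocomplex.sc' j (j + 1) (j + 2)).Exact := (R.cocomplex.exactAt_iff' j (j + 1) (j + 2) (by simp)
    (by simp only [CochainComplex.next]; rfl)).1 (R.cocomplex_exactAt_succ j)
  haveI : Epi S.g := hex.epi_kernelLift
  refine ShortComplex.ShortExact.mk' ?_ inferInstance inferInstance
  refine ShortComplex.exact_of_f_is_kernel _ (KernelFork.IsLimit.ofι' _ _ fun {A} k hk => ?_)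
  refine ⟨kernel.lift _ k ?_, kernel.lift_ι _ _ _⟩
  have e := congrArg (· ≫ kernel.ι (R.cocomplex.d (j + 1) (j + 2))) hk
  simpa [S, resSeq] using e

theorem acy_cycles {U : (𝔛.X 0).Opens} (hM : Acy M U) : ∀ j, Acy (kernel (R.cocomplex.d j (j + 1))) U
  | 0 => fun k => by
    have e : M ≅ kernel (R.cocomplex.d 0 (0 + 1)) :=
      IsLimit.conePointUniqueUpToIso R.isLimitKernelFork (limit.isLimit _)
    exact acy_of_iso e hM k
  | j + 1 => by
    haveI : Injective (resSeq R j).X₂ := R.injective j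
    exact acy_quot (resSeq_shortExact R j) (acy_cycles hM j)

variable {𝔜 : FSch.Sys.{u}} {h' : 𝔜.IsFormal} (f : 𝔛 ⟶ 𝔜)

/-- Higher direct images vanish if cohomology vanishes on a basis of preimages. -/
theorem isZero_rpushF [HasInjectiveResolutions (FSch.ModF 𝔛 h)] (N : FSch.ModF 𝔛 h)
    (H : ∀ V : (𝔜.X 0).Opens, IsAffineOpen V → Acy N (((f : FSch.Hom 𝔛 𝔜).app 0) ⁻¹ᵁ V)) (k : ℕ) :
    IsZero ((FSch.RpushF f h h' (k + 1)).obj N) := by
  let R : InjectiveResolution N := injectiveResolution N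
  let g := FSch.pushF f h h'
  refine IsZero.of_iso ?_ (R.isoRightDerivedObj g (k + 1))
  let K := (g.mapHomologicalComplex (ComplexShape.up ℕ)).obj R.cocomplex
  show IsZero (K.homology (k + 1))
  rw [← HomologicalComplex.exactAt_iff_isZero_homology,
    K.exactAt_iff' k (k + 1) (k + 2) (by simp) (by simp only [CochainComplex.next]; rfl),
    ShortComplex.exact_iff_epi_kernel_lift]
  let S := K.sc' k (k + 1) (k + 2)
  refine FPLocal.epi_of_exists_preimage _ fun W z => ?_
  refine ⟨affSieve _ W, affSieve_mem _ W, fun Z l hl => ?_⟩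
  obtain ⟨V, hV, hZV, hVW⟩ := hl
  let U := ((f : FSch.Hom 𝔛 𝔜).app 0) ⁻¹ᵁ V
  let y : S.X₂.val.obj (op V) := FPLocal.mres _ (homOfLE hVW).op (((kernel.ι S.g).val.app (op W)).hom z)
  have hy : (S.g.val.app (op V)).hom y = 0 := by
    rw [FPLocal.app_mres, show (S.g.val.app (op W)).hom (((kernel.ι S.g).val.app (op W)).hom z) = 0 from
      congrArg (fun φ : kernel S.g ⟶ S.X₃ => (φ.val.app (op W)).hom z) (kernel.condition S.g), map_zero]
  let y' : (R.cocomplex.X (k + 1)).val.obj (op U) := y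
  obtain ⟨c, hc⟩ := FPLocal.exists_kernel_preimage (R.cocomplex.d (k + 1) (k + 2)) y' hy
  obtain ⟨x, hx⟩ := acy_surjective (resSeq_shortExact R k) (acy_cycles R (H V hV) k) c
  have hx' : ((R.cocomplex.d k (k + 1)).val.app (op U)).hom x = y' := by
    rw [← hc, ← hx]
    exact congrArg (fun φ : R.cocomplex.X k ⟶ R.cocomplex.X (k + 1) => (φ.val.app (op U)).hom x)
      (kernel.lift_ι _ _ (R.cocomplex.d_comp_d k (k + 1) (k + 2))).symm
  let x' : S.X₁.val.obj (op V) := x
  refine ⟨FPLocal.mres _ (homOfLE hZV).op x', FPLocal.app_injective_of_mono (kernel.ι S.g) Z ?_⟩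
  refine (congrArg (fun φ : S.X₁ ⟶ S.X₂ => (φ.val.app (op Z)).hom (FPLocal.mres _ (homOfLE hZV).op x'))
    (kernel.lift_ι S.g S.f S.zero)).trans ?_
  rw [FPLocal.app_mres, FPLocal.app_mres]
  refine (congrArg (FPLocal.mres _ _) (hx' : (S.f.val.app (op V)).hom x' = y)).trans ?_
  exact (FPLocal.mres_comp (M := S.X₂) _ _ _).symm

end Groth.Agent.FCompl
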