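import Groth.Agent.FComplLib.AffQCSerre
import Groth.Agent.FComplLib.RpushVanish
import Groth.Agent.FComplLib.RpushBdd
import Groth.Prelude.Def_SiteCmp

/-!
# Unbounded derived direct images along affine morphisms of formal schemes
-/

set_option autoImplicit false
set_option linter.style.haveILetI false
set_option linter.unusedVariables false
set_option backward.isDefEq.respectTransparency false
set_option backward.isDefEq.respectTransparency.types false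
set_option maxHeartbeats 1000000
universe u

open CategoryTheory CategoryTheory.Limits AlgebraicGeometry TopologicalSpace Opposite
attribute [local instance] HasDerivedCategory.standard

noncomputable section

namespace Groth.Agent.FCompl

variable {𝔛 𝔜 : FSch.Sys.{u}} {h : 𝔛.IsFormal} {h' : 𝔜.IsFormal}

theorem exists_affine_cover (U : (𝔛.X 0).Opens) : ∃ (ι : Type u) (Y : ι → (𝔛.X 0).Opens) (g : ∀ i, Y i ⟶ U),
    Sieve.ofArrows Y g ∈ Opens.grothendieckTopology (𝔛.X 0) U ∧ ∀ i, IsAffineOpen (Y i) := by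
  refine ⟨{Z : (𝔛.X 0).Opens // IsAffineOpen Z ∧ Z ≤ U}, fun i => i.1, fun i => homOfLE i.2.2, ?_, fun i => i.2.1⟩
  intro x hx
  obtain ⟨Z, hZ, hxZ, hZU⟩ := exists_affine_le (𝔛 := 𝔛) hx
  let i : {Z : (𝔛.X 0).Opens // IsAffineOpen Z ∧ Z ≤ U} := ⟨Z, hZ, hZU⟩
  exact ⟨Z, homOfLE hZU, Sieve.ofArrows_mk _ _ i, hxZ⟩

theorem exists_affine_refinement {U : (𝔛.X 0).Opens} (T : Sieve U) (hT : T ∈ Opens.grothendieckTopology (𝔛.X 0) U) :
    ∃ (ι : Type u) (Y : ι → (𝔛.X 0).Opens) (g : ∀ i, Y i ⟶ U), (∀ i, T.arrows (g i)) ∧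
      Sieve.ofArrows Y g ∈ Opens.grothendieckTopology (𝔛.X 0) U ∧ ∀ i, IsAffineOpen (Y i) := by
  refine ⟨{Z : (𝔛.X 0).Opens // IsAffineOpen Z ∧ ∃ hZ : Z ≤ U, T.arrows (homOfLE hZ)}, fun i => i.1,
    fun i => homOfLE i.2.2.1, fun i => i.2.2.2, ?_, fun i => i.2.1⟩
  intro x hx
  obtain ⟨W, g, hg, hxW⟩ := hT x hx
  obtain ⟨Z, hZ, hxZ, hZW⟩ := exists_affine_le (𝔛 := 𝔛) hxW
  let i : {Z : (𝔛.X 0).Opens // IsAffineOpen Z ∧ ∃ hZ : Z ≤ U, T.arrows (homOfLE hZ)} :=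
    ⟨Z, hZ, hZW.trans (leOfHom g), T.downward_closed hg (homOfLE hZW)⟩
  exact ⟨Z, homOfLE (hZW.trans (leOfHom g)), Sieve.ofArrows_mk _ _ i, hxZ⟩

theorem subsingleton_siteHU (hL : 𝔛.IsLocNoethFormal) {F : FSch.ModF 𝔛 h} (hF : AffQC F) {U : (𝔛.X 0).Opens}
    (hU : IsAffineOpen U) (k : ℕ) (hk : 0 < k) : Subsingleton (ModSite.HU (𝔛.Osh h) F k U) := by
  obtain ⟨j, rfl⟩ : ∃ j, k = j + 1 := ⟨k - 1, by omega⟩
  exact subsingleton_HU_of_affQC hL hF hU j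

/-- Derived direct image along an affine morphism preserves vanishing in high degrees. -/
theorem isZero_rpushD_of_affine (hL : 𝔛.IsLocNoethFormal) (g : 𝔛 ⟶ 𝔜)
    [IsAffineHom ((g : FSch.Hom 𝔛 𝔜).app 0)] [SiteCmp.HasRpushD (FSch.homMor g h h')]
    (G : DerivedCategory (FSch.ModF 𝔛 h)) (hG : ∀ i : ℤ, AffQC (SiteCmp.HMod G i)) (i₀ : ℤ)
    (h₀ : ∀ i : ℤ, i₀ ≤ i → IsZero (SiteCmp.HMod G i)) (i : ℤ) (hi : i₀ ≤ i) :
    IsZero (SiteCmp.HMod ((SiteCmp.RpushD (FSch.homMor g h h')).obj G) i) := by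
  haveI := isWeakSerre_affQC (h := h) hL
  haveI : IsGrothendieckAbelian.{u} (FSch.ModF 𝔛 h) := ModTensor.isGrothendieckAbelian_mod (𝔛.Osh h)
  haveI : HasInjectiveResolutions (FSch.ModF 𝔛 h) := inferInstance
  refine SiteCmpLib.isZero_homology_rpush_of_above (FSch.homMor g h h') (fun F => AffQC F)
    {U | IsAffineOpen U} {V | IsAffineOpen V} exists_affine_cover (fun U hU => ⟨0, fun T hT => ?_⟩)
    exists_affine_cover (fun V hV => ⟨0, fun T hT => ?_⟩) 0 (fun F hF p hp => ?_) G hG i₀ h₀ i (by simpa using hi)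
  · obtain ⟨ι, Y, gY, h1, h2, h3⟩ := exists_affine_refinement T hT
    exact ⟨ι, Y, gY, h1, h2, fun j F hF k hk => subsingleton_siteHU hL hF (h3 j) k hk⟩
  · obtain ⟨ι, Y, gY, h1, h2, h3⟩ := exists_affine_refinement T hT
    exact ⟨ι, Y, gY, h1, h2, fun j F hF k hk =>
      subsingleton_siteHU hL hF ((h3 j).preimage ((g : FSch.Hom 𝔛 𝔜).app 0)) k hk⟩
  · obtain ⟨k, rfl⟩ : ∃ k, p = k + 1 := ⟨p - 1, by omega⟩
    exact isZero_rpushF g F (fun V hV j => subsingleton_HU_of_affQC hL hF (hV.preimage _) j) k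

end Groth.Agent.FCompl
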