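import Groth.Agent.FComplLib.RpushVanish

/-!
# Higher direct images vanish in high degrees
-/

set_option autoImplicit false
set_option linter.style.haveILetI false
set_option linter.unusedVariables false
set_option backward.isDefEq.respectTransparency false
set_option backward.isDefEq.respectTransparency.types false
set_option maxHeartbeats 4000000
universe u

open CategoryTheory CategoryTheory.Limits AlgebraicGeometry TopologicalSpace Opposite

noncomputable section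

namespace Groth.Agent.FCompl

variable {𝔛 : FSch.Sys.{u}} {h : 𝔛.IsFormal}

/-- Cohomology over an open vanishes above degree `t`. -/
def AcyFrom (t : ℕ) (M : FSch.ModF 𝔛 h) (U : (𝔛.X 0).Opens) : Prop :=
  ∀ k, t ≤ k → Subsingleton (CohBase.HU U ((SheafOfModules.toSheaf (ModSite.ringSh (𝔛.Osh h))).obj M) (k + 1))

theorem acyFrom_quot {S : ShortComplex (FSch.ModF 𝔛 h)} (hS : S.ShortExact) [Injective S.X₂] {U : (𝔛.X 0).Opens}
    {t : ℕ} (h₁ : AcyFrom t S.X₁ U) : AcyFrom (t - 1) S.X₃ U := fun k hk => by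
  let T := S.map (SheafOfModules.toSheaf (ModSite.ringSh (𝔛.Osh h)))
  haveI : Subsingleton (CohBase.HU U T.X₂ (k + 1)) := acy_injective S.X₂ U k
  haveI : Subsingleton (CohBase.HU U T.X₁ (k + 1 + 1)) := h₁ (k + 1) (by omega)
  exact CohBase.subsingleton_quot (toSheaf_shortExact hS) U (k + 1)

theorem acyFrom_of_iso {t : ℕ} {M N : FSch.ModF 𝔛 h} (e : M ≅ N) {U : (𝔛.X 0).Opens} (hM : AcyFrom t M U) :
    AcyFrom t N U := fun k hk => by
  let T := SheafOfModules.toSheaf (ModSite.ringSh (𝔛.Osh h))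
  haveI : Subsingleton (CohBase.HU U (T.obj M) (k + 1)) := hM k hk
  refine subsingleton_of_forall_eq 0 fun x => ?_
  have e1 : x = CohBase.hmap U (T.map e.hom) (k + 1) (CohBase.hmap U (T.map e.inv) (k + 1) x) := by
    rw [CohBase.hmap_apply, CohBase.hmap_apply, Abelian.Ext.comp_assoc_of_third_deg_zero, Abelian.Ext.mk₀_comp_mk₀,
      ← T.map_comp, e.inv_hom_id, T.map_id, Abelian.Ext.comp_mk₀_id]
  rw [e1, Subsingleton.elim (CohBase.hmap U (T.map e.inv) (k + 1) x) 0, map_zero]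

variable {M : FSch.ModF 𝔛 h} (R : InjectiveResolution M)

theorem acyFrom_cycles {U : (𝔛.X 0).Opens} {t : ℕ} (hM : AcyFrom t M U) :
    ∀ j, AcyFrom (t - j) (kernel (R.cocomplex.d j (j + 1))) U
  | 0 => by
    have e : M ≅ kernel (R.cocomplex.d 0 (0 + 1)) :=
      IsLimit.conePointUniqueUpToIso R.isLimitKernelFork (limit.isLimit _)
    exact acyFrom_of_iso e hM
  | j + 1 => by
    haveI : Injective (resSeq R j).X₂ := R.injective j
    rw [show t - (j + 1) = t - j - 1 by omega]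
    exact acyFrom_quot (resSeq_shortExact R j) (acyFrom_cycles hM j)

theorem acy_cycles_of_from {U : (𝔛.X 0).Opens} {t : ℕ} (hM : AcyFrom t M U) (j : ℕ) (hj : t ≤ j) :
    Acy (kernel (R.cocomplex.d j (j + 1))) U := fun k =>
  acyFrom_cycles R hM j k (by omega)

variable {𝔜 : FSch.Sys.{u}} {h' : 𝔜.IsFormal} (f : 𝔛 ⟶ 𝔜)

/-- Higher direct images vanish above a bound for the cohomology of a basis of preimages. -/
theorem isZero_rpushF_of_bound [HasInjectiveResolutions (FSch.ModF 𝔛 h)] (N : FSch.ModF 𝔛 h) (t : ℕ)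
    (H₀ : ∀ (W : (𝔜.X 0).Opens), ∀ x ∈ W, ∃ V ≤ W, x ∈ V ∧ AcyFrom t N (((f : FSch.Hom 𝔛 𝔜).app 0) ⁻¹ᵁ V))
    (k : ℕ) (hk : t ≤ k) : IsZero ((FSch.RpushF f h h' (k + 1)).obj N) := by
  have H : ∀ (W : (𝔜.X 0).Opens), ∀ x ∈ W, ∃ V ≤ W, x ∈ V ∧
      Acy (kernel ((injectiveResolution N).cocomplex.d k (k + 1))) (((f : FSch.Hom 𝔛 𝔜).app 0) ⁻¹ᵁ V) :=
    fun W x hx => by
      obtain ⟨V, h1, h2, h3⟩ := H₀ W x hx
      exact ⟨V, h1, h2, acy_cycles_of_from _ h3 k hk⟩
  let R : InjectiveResolution N := injectiveResolution N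
  let g := FSch.pushF f h h'
  refine IsZero.of_iso ?_ (R.isoRightDerivedObj g (k + 1))
  let K := (g.mapHomologicalComplex (ComplexShape.up ℕ)).obj R.cocomplex
  show IsZero (K.homology (k + 1))
  rw [← HomologicalComplex.exactAt_iff_isZero_homology,
    K.exactAt_iff' k (k + 1) (k + 2) (by simp) (by simp only [CochainComplex.next]; rfl),
    ShortComplex.exact_iff_epi_kernel_lift]
  let S := K.sc' k (k + 1) (k + 2)
  refine FPLocal.epi_of_exists_preimage _ fun W z => ?_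
  refine ⟨{ arrows := fun Z _ => ∃ V : (𝔜.X 0).Opens, Z ≤ V ∧ V ≤ W ∧
              Acy (kernel (R.cocomplex.d k (k + 1))) (((f : FSch.Hom 𝔛 𝔜).app 0) ⁻¹ᵁ V)
            downward_closed := fun {Y Z} _ ⟨V, h1, h2, h3⟩ g => ⟨V, (leOfHom g).trans h1, h2, h3⟩ },
    fun x hx => ?_, fun Z l hl => ?_⟩
  · obtain ⟨V, hVW, hxV, hV⟩ := H W x hx
    exact ⟨V, homOfLE hVW, ⟨V, le_rfl, hVW, hV⟩, hxV⟩
  obtain ⟨V, hZV, hVW, hV⟩ := hl
  let U := ((f : FSch.Hom 𝔛 𝔜).app 0) ⁻¹ᵁ V
  let y : S.X₂.val.obj (op V) := FPLocal.mres _ (homOfLE hVW).op (((kernel.ι S.g).val.app (op W)).hom z)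
  have hy : (S.g.val.app (op V)).hom y = 0 := by
    rw [FPLocal.app_mres, show (S.g.val.app (op W)).hom (((kernel.ι S.g).val.app (op W)).hom z) = 0 from
      congrArg (fun φ : kernel S.g ⟶ S.X₃ => (φ.val.app (op W)).hom z) (kernel.condition S.g), map_zero]
  let y' : (R.cocomplex.X (k + 1)).val.obj (op U) := y
  obtain ⟨c, hc⟩ := FPLocal.exists_kernel_preimage (R.cocomplex.d (k + 1) (k + 2)) y' hy
  obtain ⟨x, hx⟩ := acy_surjective (resSeq_shortExact R k) hV c
  have hx' : ((R.cocomplex.d k (k + 1)).val.app (op U)).hom x = y' := by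
    rw [← hc, ← hx]
    exact congrArg (fun φ : R.cocomplex.X k ⟶ R.cocomplex.X (k + 1) => (φ.val.app (op U)).hom x)
      (kernel.lift_ι _ _ (R.cocomplex.d_comp_d k (k + 1) (k + 2))).symm
  let x' : S.X₁.val.obj (op V) := x
  refine ⟨FPLocal.mres _ (homOfLE hZV).op x', FPLocal.app_injective_of_mono (kernel.ι S.g) Z ?_⟩
  refine (congrArg (fun φ : S.X₁ ⟶ S.X₂ => (φ.val.app (op Z)).hom (FPLocal.mres _ (homOfLE hZV).op x'))
    (kernel.lift_ι S.g S.f S.zero)).trans ?_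
  rw [FPLocal.app_mres, FPLocal.app_mres]
  refine (congrArg (FPLocal.mres _ _) (hx' : (S.f.val.app (op V)).hom x' = y)).trans ?_
  exact (FPLocal.mres_comp (M := S.X₂) _ _ _).symm

end Groth.Agent.FCompl
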