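import Groth.Agent.FComplLib.CohDim
import Groth.Agent.FComplLib.RpushBound
import Groth.Agent.FComplLib.RpushAff
import Groth.Agent.FComplLib.Ind5
import Groth.Agent.RlimCrit.Bounded

/-!
# Derived direct images and global sections are bounded above
-/

set_option autoImplicit false
set_option linter.style.haveILetI false
set_option linter.unusedVariables false
set_option backward.isDefEq.respectTransparency false
set_option backward.isDefEq.respectTransparency.types false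
set_option maxHeartbeats 1000000
universe u

open CategoryTheory CategoryTheory.Limits AlgebraicGeometry TopologicalSpace Opposite DerivedCategory
attribute [local instance] HasDerivedCategory.standard

noncomputable section

namespace Groth.Agent.FCompl

variable {𝔛 𝔜 : FSch.Sys.{u}} {h : 𝔛.IsFormal} {h' : 𝔜.IsFormal}

/-- The underlying sheaves of modules with generators and relations on affine opens. -/
def AffQCSh (h : 𝔛.IsFormal) (S : CohBase.AbSh (𝔛.X 0)) : Prop :=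
  ∃ F : FSch.ModF 𝔛 h, AffQC F ∧ (SheafOfModules.toSheaf (ModSite.ringSh (𝔛.Osh h))).obj F = S

theorem noetherianSpace_zero (hL : 𝔛.IsLocNoethFormal) [CompactSpace (𝔛.X 0)] : NoetherianSpace (𝔛.X 0) := by
  haveI := hL.2.2 0
  haveI : AlgebraicGeometry.IsNoetherian (𝔛.X 0) := {}
  infer_instance

theorem affQCSh_vanish (hL : 𝔛.IsLocNoethFormal) {V : (𝔛.X 0).Opens} (hV : IsAffineOpen V)
    (S : CohBase.AbSh (𝔛.X 0)) (hS : AffQCSh h S) (n : ℕ) : Subsingleton (CohBase.HU V S (n + 1)) := by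
  obtain ⟨F, hF, rfl⟩ := hS
  exact subsingleton_HU_of_affQC hL hF hV n

theorem exists_cd_preimage (hL : 𝔛.IsLocNoethFormal) [CompactSpace (𝔛.X 0)] (f : 𝔛 ⟶ 𝔜) (V : (𝔜.X 0).Opens) :
    ∃ t : ℕ, ∀ (g : Γ(𝔜.X 0, V)) (F : FSch.ModF 𝔛 h), AffQC F → ∀ n, t ≤ n →
      Subsingleton (CohBase.HU (((f : FSch.Hom 𝔛 𝔜).app 0) ⁻¹ᵁ (𝔜.X 0).basicOpen g)
        ((SheafOfModules.toSheaf (ModSite.ringSh (𝔛.Osh h))).obj F) n) := by
  haveI := noetherianSpace_zero hL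
  obtain ⟨t, ht⟩ := cdBdd (AffQCSh h) (fun hW S hS n => affQCSh_vanish hL hW S hS n)
    (((f : FSch.Hom 𝔛 𝔜).app 0) ⁻¹ᵁ V)
  refine ⟨t, fun g F hF n hn => ?_⟩
  rw [Scheme.preimage_basicOpen]
  exact ht _ _ ⟨F, hF, rfl⟩ n hn

/-- Derived direct image is bounded above. -/
theorem exists_rpushD_bound (hL : 𝔛.IsLocNoethFormal) [CompactSpace (𝔛.X 0)] [CompactSpace (𝔜.X 0)] (f : 𝔛 ⟶ 𝔜)
    [SiteCmp.HasRpushD (FSch.homMor f h h')] :
    ∃ e : ℕ, ∀ (G : DerivedCategory (FSch.ModF 𝔛 h)), (∀ i : ℤ, AffQC (SiteCmp.HMod G i)) →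
      ∀ i₀ : ℤ, (∀ i : ℤ, i₀ ≤ i → IsZero (SiteCmp.HMod G i)) →
        ∀ i : ℤ, i₀ + e ≤ i → IsZero (SiteCmp.HMod ((SiteCmp.RpushD (FSch.homMor f h h')).obj G) i) := by
  classical
  haveI := isWeakSerre_affQC (h := h) hL
  haveI : IsGrothendieckAbelian.{u} (FSch.ModF 𝔛 h) := ModTensor.isGrothendieckAbelian_mod (𝔛.Osh h)
  haveI : HasInjectiveResolutions (FSch.ModF 𝔛 h) := inferInstance
  obtain ⟨A, hA, V, gV, hcov, hV⟩ := FPLocal.exists_finite_cover (U := (⊤ : (𝔜.X 0).Opens))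
    (P := fun W _ => IsAffineOpen W) (by simpa using isCompact_univ) fun x hx => by
      obtain ⟨W, hW, hxW, -⟩ := exists_affine_le (𝔛 := 𝔜) hx
      exact ⟨W, homOfLE le_top, hxW, hW⟩
  choose t ht using fun a => exists_cd_preimage (h := h) hL f (V a)
  refine ⟨Finset.univ.sup t, fun G hG i₀ h₀ i hi => ?_⟩
  refine SiteCmpLib.isZero_homology_rpush_of_above (FSch.homMor f h h') (fun F => AffQC F)
    {U | IsAffineOpen U} {W | IsAffineOpen W} exists_affine_cover (fun U hU => ⟨0, fun T hT => ?_⟩)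
    exists_affine_cover (fun W hW => ?_) (Finset.univ.sup t) (fun F hF p hp => ?_) G hG i₀ h₀ i hi
  · obtain ⟨ι, Y, gY, h1, h2, h3⟩ := exists_affine_refinement T hT
    exact ⟨ι, Y, gY, h1, h2, fun j F hF k hk => subsingleton_siteHU hL hF (h3 j) k hk⟩
  · obtain ⟨d, hd⟩ := exists_cd_preimage (h := h) hL f W
    refine ⟨d, fun T hT => ?_⟩
    let ι := {g : Γ(𝔜.X 0, W) // T.arrows (homOfLE ((𝔜.X 0).basicOpen_le g))}
    refine ⟨ι, fun g => (𝔜.X 0).basicOpen g.1, fun g => homOfLE ((𝔜.X 0).basicOpen_le g.1), fun g => g.2, ?_,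
      fun g F hF k hk => hd g.1 F hF k hk.le⟩
    intro x hx
    obtain ⟨Z, l, hl, hxZ⟩ := hT x hx
    obtain ⟨g, hgZ, hxg⟩ := (hW : IsAffineOpen W).exists_basicOpen_le (V := Z) ⟨x, hxZ⟩ hx
    let g' : ι := ⟨g, T.downward_closed hl (homOfLE hgZ)⟩
    exact ⟨_, homOfLE ((𝔜.X 0).basicOpen_le g), Sieve.ofArrows_mk _ _ g', hxg⟩
  · obtain ⟨k, rfl⟩ : ∃ k, p = k + 1 := ⟨p - 1, by omega⟩
    refine isZero_rpushF_of_bound f F (Finset.univ.sup t) (fun W x hx => ?_) k (by omega)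
    obtain ⟨a, hxa⟩ := hcov x trivial
    obtain ⟨g, hgW, hxg⟩ := (hV a).exists_basicOpen_le (V := W) ⟨x, hx⟩ hxa
    exact ⟨_, hgW, hxg, fun j hj => ht a g F hF (j + 1)
      (((Finset.le_sup (Finset.mem_univ a)).trans hj).trans (Nat.le_succ j))⟩

/-- Global cohomology is bounded above. -/
theorem exists_global_bound (hL : 𝔛.IsLocNoethFormal) [CompactSpace (𝔛.X 0)] :
    ∃ e : ℕ, ∀ (X : DerivedCategory (FSch.ModF 𝔛 h)), (∀ i : ℤ, AffQC (SiteCmp.HMod X i)) →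
      (∀ q : ℤ, -(e : ℤ) ≤ q → IsZero (SiteCmp.HMod X q)) →
      Subsingleton (SiteCmp.inD (𝔛.Osh h) (FSch.unitF 𝔛 h) ⟶ X) := by
  haveI := noetherianSpace_zero hL
  haveI := isWeakSerre_affQC (h := h) hL
  haveI : IsGrothendieckAbelian.{u} (FSch.ModF 𝔛 h) := ModTensor.isGrothendieckAbelian_mod (𝔛.Osh h)
  haveI : HasExt.{u} (FSch.ModF 𝔛 h) := inferInstance
  haveI := SiteCmpLib.hasProducts_mod (𝔛.Osh h)
  obtain ⟨t, ht⟩ := exists_cd (AffQCSh h) (fun hW S hS n => affQCSh_vanish hL hW S hS n) ⊤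
  have hext : ∀ (F : FSch.ModF 𝔛 h), AffQC F → ∀ k : ℕ, t ≤ k →
      Subsingleton (Abelian.Ext.{u} (FSch.unitF 𝔛 h) F k) := fun F hF k hk => by
    obtain ⟨e⟩ := SiteBase.nonempty_ext_unit_H (R := ModSite.ringSh (𝔛.Osh h)) F k
    haveI := ht _ ⟨F, hF, rfl⟩ k hk
    haveI : Subsingleton (Sheaf.H.{u} ((SheafOfModules.toSheaf (ModSite.ringSh (𝔛.Osh h))).obj F) k) :=
      (CohBase.HEquiv (X := (𝔛.X 0)) ((SheafOfModules.toSheaf (ModSite.ringSh (𝔛.Osh h))).obj F) k).toEquiv.subsingleton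
    exact e.toEquiv.subsingleton
  refine ⟨t + 2, fun X hX hX0 => ?_⟩
  have hterm : ∀ (r : ℤ), -1 ≤ r → ∀ n, Subsingleton (RlimCrit.sgl r (FSch.unitF 𝔛 h) ⟶ CohCx.truncTower X n) := by
    intro r hr n
    haveI hge := SiteCmpLib.isGE_truncTower X n
    refine RlimCrit.subsingleton_hom_of_forall _ r (r + 1 + n).toNat (-(n : ℤ)) (by omega) _ hge fun i hi hir => ?_
    haveI := DCohLib.isIso_homology_truncGEπ X (-(n : ℤ)) i hi
    let e : (homologyFunctor (FSch.ModF 𝔛 h) i).obj X ≅ (homologyFunctor (FSch.ModF 𝔛 h) i).obj (CohCx.truncTower X n) :=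
      asIso ((homologyFunctor (FSch.ModF 𝔛 h) i).map
        (((TStructure.t (C := FSch.ModF 𝔛 h)).truncGEπ (-(n : ℤ))).app X))
    refine @Equiv.subsingleton _ _ ((singleFunctor (FSch.ModF 𝔛 h) i).mapIso e.symm).homToEquiv ?_
    by_cases hq : -((t + 2 : ℕ) : ℤ) ≤ i
    · exact ⟨fun a b => ((singleFunctor (FSch.ModF 𝔛 h) i).map_isZero (hX0 i hq)).eq_of_tgt a b⟩
    · exact RlimCrit.subsingleton_hom_single _ _ r i (r - i).toNat (by omega) (hext _ (hX i) _ (by omega))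
  refine subsingleton_of_forall_eq 0 fun ξ => ?_
  refine RlimCrit.eq_zero_of_isRlimVia (SiteCmpLib.isRlimVia_of_cd (𝔛.Osh h) (fun F => AffQC F) {U | IsAffineOpen U}
    exists_affine_cover (fun U hU => ⟨0, fun T hT => ?_⟩) X hX) 0
    (fun n _ z _ => ?_) (fun n _ w => ⟨0, ?_⟩) ξ ?_
  · obtain ⟨ι, Y, gY, h1, h2, h3⟩ := exists_affine_refinement T hT
    exact ⟨ι, Y, gY, h1, h2, fun j F hF k hk => subsingleton_siteHU hL hF (h3 j) k hk⟩
  · haveI : Subsingleton (SiteCmp.inD (𝔛.Osh h) (FSch.unitF 𝔛 h) ⟶ CohCx.truncTower X (n + 1)) :=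
      hterm 0 (by omega) (n + 1)
    exact Subsingleton.elim _ _
  · haveI := hterm (-1) le_rfl n
    haveI : Subsingleton ((SiteCmp.inD (𝔛.Osh h) (FSch.unitF 𝔛 h))⟦(1 : ℤ)⟧ ⟶ CohCx.truncTower X n) :=
      (RlimCrit.sglShiftIso (FSch.unitF 𝔛 h) (-1) 0 (by omega)).homFromEquiv.subsingleton
    exact Subsingleton.elim _ _
  · haveI : Subsingleton (SiteCmp.inD (𝔛.Osh h) (FSch.unitF 𝔛 h) ⟶ CohCx.truncTower X 0) := hterm 0 (by omega) 0
    exact Subsingleton.elim _ _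

end Groth.Agent.FCompl
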