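import Groth.Agent.FComplLib.LevelPush
import Groth.Agent.FComplLib.LevelProper
import Groth.Agent.FComplLib.RpushBounded
import Groth.Agent.FComplLib.QtColim
import Groth.Agent.FComplLib.QuasiCoh
import Groth.Agent.RpushLib.ToAb
import Groth.Agent.RpushLib.Finite
import Groth.Agent.SiteBase.FreeMod
import Groth.Agent.S0800

/-!
# Higher direct images of quasi-coherent torsion modules
-/

set_option autoImplicit false
set_option linter.style.haveILetI false
set_option linter.unusedVariables false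
set_option backward.isDefEq.respectTransparency false
set_option backward.isDefEq.respectTransparency.types false
set_option maxHeartbeats 1000000
universe u

open CategoryTheory CategoryTheory.Limits AlgebraicGeometry TopologicalSpace Opposite

noncomputable section

namespace Groth.Agent.FCompl

variable {𝔛 𝔜 : FSch.Sys.{u}} {h : 𝔛.IsFormal} {h' : 𝔜.IsFormal}

theorem compactSpace_level [CompactSpace (𝔛.X 0)] (h : 𝔛.IsFormal) (n : ℕ) : CompactSpace (𝔛.X n) :=
  (FSch.Sys.toX_surjective 𝔛 h n).compactSpace (𝔛.toX n).continuous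

theorem quasiCompact_level (hL : 𝔛.IsLocNoethFormal) [CompactSpace (𝔛.X 0)] (f : 𝔛 ⟶ 𝔜) (n : ℕ) :
    QuasiCompact ((f : FSch.Hom 𝔛 𝔜).app n) ∧ QuasiSeparated ((f : FSch.Hom 𝔛 𝔜).app n) := by
  haveI := hL.2.2 n
  haveI := compactSpace_level hL.1 n
  haveI : AlgebraicGeometry.IsNoetherian (𝔛.X n) := {}
  exact ⟨quasiCompact_of_noetherianSpace_source _, inferInstance⟩

section Level

variable (n : ℕ)

instance additive_levelPush : ((FSch.levelMor 𝔛 h n).push : (𝔛.X n).Modules ⥤ FSch.ModF 𝔛 h).Additive :=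
  haveI : (FSch.levelMor 𝔛 h n).push.IsRightAdjoint := (FSch.levelMor 𝔛 h n).adj.isRightAdjoint
  inferInstance

instance preservesFiniteLimits_levelPush :
    PreservesFiniteLimits ((FSch.levelMor 𝔛 h n).push : (𝔛.X n).Modules ⥤ FSch.ModF 𝔛 h) :=
  haveI : PreservesLimitsOfSize.{0, 0} (FSch.levelMor 𝔛 h n).push :=
    (FSch.levelMor 𝔛 h n).adj.rightAdjoint_preservesLimits
  inferInstance

instance additive_levelPush' :
    Functor.Additive (C := (𝔛.X n).Modules) (D := ModSite.Mod (𝔛.Osh h)) (FSch.levelMor 𝔛 h n).push :=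
  additive_levelPush (h := h) n

instance preservesFiniteLimits_levelPush' :
    PreservesFiniteLimits (C := (𝔛.X n).Modules) (D := ModSite.Mod (𝔛.Osh h)) (FSch.levelMor 𝔛 h n).push :=
  preservesFiniteLimits_levelPush (h := h) n

theorem acy_levelPush (I : (𝔛.X n).Modules) [Injective I] (U : (𝔛.X 0).Opens) :
    Acy ((FSch.levelMor 𝔛 h n).push.obj I) U := fun k => by
  haveI : TopCat.Sheaf.IsFlasque (X := (𝔛.X 0).carrier)
      ((SheafOfModules.toSheaf (ModSite.ringSh (𝔛.Osh h))).obj ((FSch.levelMor 𝔛 h n).push.obj I)) :=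
    LocZLib.isFlasque_of_surjective _ fun {W V} hWV => RpushLib.surjective_rM_injective I (lvU_mono 𝔛 h hWV n)
  exact LocZLib.subsingleton_HU_flasque (X := (𝔛.X 0).carrier) U k
    ((SheafOfModules.toSheaf (ModSite.ringSh (𝔛.Osh h))).obj ((FSch.levelMor 𝔛 h n).push.obj I))

/-- Higher direct images of modules on a level are computed on that level. -/
def rpushLevelIso [HasInjectiveResolutions (FSch.ModF 𝔛 h)] [HasInjectiveResolutions (𝔛.X n).Modules]
    (f : 𝔛 ⟶ 𝔜) (p : ℕ) :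
    (FSch.levelMor 𝔛 h n).push ⋙ FSch.RpushF f h h' p ≅
      Coh.Rpush ((f : FSch.Hom 𝔛 𝔜).app n) p ⋙ (FSch.levelMor 𝔜 h' n).push :=
  haveI := preservesFiniteColimits_levelPush (h := h) n
  haveI := preservesFiniteColimits_levelPush (h := h') n
  haveI : (Scheme.Modules.pushforward ((f : FSch.Hom 𝔛 𝔜).app n) ⋙ (FSch.levelMor 𝔜 h' n).push).Additive :=
    Functor.Additive.mk fun {_ _ _ _} => by
      dsimp
      rw [Functor.map_add, Functor.map_add]
  (SpSeqLib.rightDerivedPrecompAcyclicIso (FSch.levelMor 𝔛 h n).push (FSch.pushF f h h') (fun I hI q =>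
      haveI := hI
      isZero_rpushF f _ (fun V _ => acy_levelPush n I _) q) p).symm ≪≫
    SpSeqLib.rightDerivedCongr (F := (FSch.levelMor 𝔛 h n).push ⋙ FSch.pushF f h h')
      (G := Scheme.Modules.pushforward ((f : FSch.Hom 𝔛 𝔜).app n) ⋙ (FSch.levelMor 𝔜 h' n).push)
      (FSch.lvPushSq f h h' n) p ≪≫
    SpSeqLib.rightDerivedPostcompIso (Scheme.Modules.pushforward ((f : FSch.Hom 𝔛 𝔜).app n))
      (FSch.levelMor 𝔜 h' n).push p

theorem qct_rpush_levelPush (hL : 𝔛.IsLocNoethFormal) (hL' : 𝔜.IsLocNoethFormal) [CompactSpace (𝔛.X 0)]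
    [HasInjectiveResolutions (FSch.ModF 𝔛 h)] (f : 𝔛 ⟶ 𝔜) (G : (𝔛.X n).Modules) [Coh.IsQCoh G] (p : ℕ) :
    FTors.IsQCT 𝔜 h' ((FSch.RpushF f h h' p).obj ((FSch.levelMor 𝔛 h n).push.obj G)) := by
  obtain ⟨_, _⟩ := quasiCompact_level hL f n
  haveI : HasInjectiveResolutions (𝔛.X n).Modules := inferInstance
  haveI : Coh.IsQCoh ((Coh.Rpush ((f : FSch.Hom 𝔛 𝔜).app n) p).obj G) := RpushLib.isQCoh_rpush _ _
  have H := isQCT_levelPush (h := h') hL' n ((Coh.Rpush ((f : FSch.Hom 𝔛 𝔜).app n) p).obj G)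
  let e := (rpushLevelIso (h := h) (h' := h') n f p).app G
  haveI := H.2
  exact ⟨isT_of_iso e.symm H.1,
    (SheafOfModules.isQuasicoherent.{u} (ModSite.ringSh (𝔜.Osh h'))).prop_of_iso e.symm H.2⟩

theorem coh_rpush_levelPush (hL : 𝔛.IsLocNoethFormal) (hL' : 𝔜.IsLocNoethFormal) [CompactSpace (𝔛.X 0)]
    [HasInjectiveResolutions (FSch.ModF 𝔛 h)] (f : 𝔛 ⟶ 𝔜) [IsProper ((f : FSch.Hom 𝔛 𝔜).app 0)]
    (G : (𝔛.X n).Modules) (hG : Coh.IsCoh G) (p : ℕ) :
    FSch.IsCohF 𝔜 h' ((FSch.RpushF f h h' p).obj ((FSch.levelMor 𝔛 h n).push.obj G)) := by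
  haveI := hL'.2.2 n
  haveI := isProper_level f hL hL' n
  haveI : HasInjectiveResolutions (𝔛.X n).Modules := inferInstance
  haveI := hG.1
  obtain ⟨h1, h2⟩ := RpushLib.isCoh_rpush ((f : FSch.Hom 𝔛 𝔜).app n) hG p
  have H := isCohF_levelPush (h := h') hL' n ((Coh.Rpush ((f : FSch.Hom 𝔛 𝔜).app n) p).obj G)
  exact (SheafOfModules.isFinitePresentation (ModSite.ringSh (𝔜.Osh h'))).prop_of_iso
    ((rpushLevelIso (h := h) (h' := h') n f p).app G).symm H

end Level

section Colim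

variable [HasInjectiveResolutions (FSch.ModF 𝔛 h)] (f : 𝔛 ⟶ 𝔜)

instance preservesFiniteLimits_pushF : PreservesFiniteLimits (FSch.pushF f h h') :=
  haveI : PreservesLimitsOfSize.{0, 0} (FSch.pushF f h h') := (FSch.homMor f h h').adj.rightAdjoint_preservesLimits
  inferInstance

/-- Higher direct images commute with forgetting the module structure. -/
def rpushFAbIso (p : ℕ) :
    FSch.RpushF f h h' p ⋙ SheafOfModules.toSheaf (ModSite.ringSh (𝔜.Osh h')) ≅
      SheafOfModules.toSheaf (ModSite.ringSh (𝔛.Osh h)) ⋙ Coh.RpushAb ((f : FSch.Hom 𝔛 𝔜).app 0) p :=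
  haveI : EnoughInjectives (CohBase.AbSh (𝔛.X 0)) := inferInstance
  (SpSeqLib.rightDerivedPostcompIso (FSch.pushF f h h') (SheafOfModules.toSheaf (ModSite.ringSh (𝔜.Osh h'))) p).symm ≪≫
    SpSeqLib.rightDerivedCongr (F := FSch.pushF f h h' ⋙ SheafOfModules.toSheaf (ModSite.ringSh (𝔜.Osh h')))
      (G := SheafOfModules.toSheaf (ModSite.ringSh (𝔛.Osh h)) ⋙ Coh.pushAb ((f : FSch.Hom 𝔛 𝔜).app 0))
      (NatIso.ofComponents (fun _ => Iso.refl _) (fun {_ _} _ => rfl)) p ≪≫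
    SpSeqLib.rightDerivedPrecompAcyclicIso (SheafOfModules.toSheaf (ModSite.ringSh (𝔛.Osh h)))
      (Coh.pushAb ((f : FSch.Hom 𝔛 𝔜).app 0)) (fun I hI q =>
        haveI := hI
        haveI : TopCat.Sheaf.IsFlasque (X := (𝔛.X 0).carrier)
            ((SheafOfModules.toSheaf (ModSite.ringSh (𝔛.Osh h))).obj I) :=
          LocZLib.isFlasque_of_surjective _ fun {W V} hWV => SiteBase.surjective_map_of_injective _ I (homOfLE hWV)
        CohTopEasy.isZero_Rpush_flasque ((f : FSch.Hom 𝔛 𝔜).app 0).base _ q) p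

theorem preservesColimit_rpushF (hL : 𝔛.IsLocNoethFormal) [CompactSpace (𝔛.X 0)] (p : ℕ) {J : Type u}
    [SmallCategory J] [IsFiltered J] (K : J ⥤ FSch.ModF 𝔛 h) :
    PreservesColimit K (FSch.RpushF f h h' p) := by
  obtain ⟨_, _⟩ := quasiCompact_level hL f 0
  let T := SheafOfModules.toSheaf.{u} (ModSite.ringSh (𝔜.Osh h'))
  haveI := S0800.result ((f : FSch.Hom 𝔛 𝔜).app 0) p J
  haveI : PreservesColimit K (FSch.RpushF f h h' p ⋙ T) := by
    haveI : PreservesColimit K (SheafOfModules.toSheaf.{u} (ModSite.ringSh (𝔛.Osh h)) ⋙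
        Coh.RpushAb ((f : FSch.Hom 𝔛 𝔜).app 0) p) := inferInstance
    exact preservesColimit_of_natIso K (rpushFAbIso (h := h) (h' := h') f p).symm
  haveI : ReflectsColimitsOfShape J T := reflectsColimitsOfShape_of_reflectsIsomorphisms
  exact preservesColimit_of_reflects_of_preserves (FSch.RpushF f h h' p) T

/-- Higher direct images of quasi-coherent torsion modules are quasi-coherent torsion modules. -/
theorem qct_rpushF (hL : 𝔛.IsLocNoethFormal) (hL' : 𝔜.IsLocNoethFormal) [CompactSpace (𝔛.X 0)]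
    {M : FSch.ModF 𝔛 h} (hM : FTors.IsQCT 𝔛 h M) (p : ℕ) :
    FTors.IsQCT 𝔜 h' ((FSch.RpushF f h h' p).obj M) := by
  haveI := hM.2
  obtain ⟨K, _, _, q, hq⟩ := ind_of_qct hL hM.1
  obtain ⟨J, _, _, P, hP, hmono⟩ := exists_mono_presentation hL q hq
  haveI := preservesColimit_rpushF (h := h) (h' := h') f hL p P.diag
  refine qct_colimit hL' (isColimitOfPreserves (FSch.RpushF f h h' p) P.isColimit) fun j => ?_
  haveI : Mono (P.ι.app j) := hmono j
  obtain ⟨m, G, hG, ⟨e⟩⟩ := exists_level_of_coh hL (hP j) (qct_sub_coh hL (hP j) (P.ι.app j) hM.1).1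
  haveI := hG.1
  have H := qct_rpush_levelPush (h := h) (h' := h') m hL hL' f G p
  let e' := (FSch.RpushF f h h' p).mapIso e
  exact ⟨isT_of_iso e' H.1, (SheafOfModules.isQuasicoherent.{u} (ModSite.ringSh (𝔜.Osh h'))).prop_of_iso e' H.2⟩

/-- Higher direct images of coherent torsion modules along proper morphisms are coherent. -/
theorem coh_rpushF (hL : 𝔛.IsLocNoethFormal) (hL' : 𝔜.IsLocNoethFormal) [CompactSpace (𝔛.X 0)]
    [IsProper ((f : FSch.Hom 𝔛 𝔜).app 0)]
    {M : FSch.ModF 𝔛 h} (hM : IsT M) (hMc : FSch.IsCohF 𝔛 h M) (p : ℕ) :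
    FSch.IsCohF 𝔜 h' ((FSch.RpushF f h h' p).obj M) := by
  obtain ⟨m, G, hG, ⟨e⟩⟩ := exists_level_of_coh hL hMc hM
  exact (SheafOfModules.isFinitePresentation (ModSite.ringSh (𝔜.Osh h'))).prop_of_iso
    ((FSch.RpushF f h h' p).mapIso e) (coh_rpush_levelPush (h := h) (h' := h') m hL hL' f G hG p)

end Colim

end Groth.Agent.FCompl
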