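import Groth.Agent.FComplLib.Mods
import Groth.Agent.FPLocal.GenFP

/-!
# Coherence of the module attached to a coherent system, and of kernels
-/

set_option autoImplicit false
set_option linter.style.haveILetI false
set_option backward.isDefEq.respectTransparency false
set_option backward.isDefEq.respectTransparency.types false
universe u

open CategoryTheory CategoryTheory.Limits AlgebraicGeometry TopologicalSpace Opposite

set_option maxHeartbeats 1000000
set_option linter.unusedVariables false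

noncomputable section

namespace Groth.Agent.FCompl

section Topo

variable (X : Scheme.{u})

/-- The sieve of opens contained in some affine open of `W`. -/
def affSieve (W : X.Opens) : Sieve W where
  arrows Z _ := ∃ Z' : X.Opens, IsAffineOpen Z' ∧ Z ≤ Z' ∧ Z' ≤ W
  downward_closed := fun {Y Z} _ ⟨Z', h1, h2, h3⟩ g => ⟨Z', h1, (leOfHom g).trans h2, h3⟩

lemma affSieve_mem (W : X.Opens) : affSieve X W ∈ Opens.grothendieckTopology X W := by
  intro x hx
  obtain ⟨Z, hZ, hxZ, hZW⟩ := exists_isAffineOpen_mem_and_subset (X := X) hx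
  exact ⟨Z, homOfLE hZW, ⟨Z, hZ, le_rfl, hZW⟩, hxZ⟩

end Topo

variable {𝔛 : FSch.Sys.{u}} {h : 𝔛.IsFormal} {U V : (𝔛.X 0).Opens}

/-- A section vanishes if it does so on all affine opens. -/
lemma eq_zero_of_affine (M : FSch.ModF 𝔛 h) {W : (𝔛.X 0).Opens} (x : M.val.obj (op W))
    (hx : ∀ (Z : (𝔛.X 0).Opens) (hZW : Z ≤ W), IsAffineOpen Z →
      FPLocal.mres M (homOfLE hZW).op x = 0) : x = 0 := by
  have hs : TopCat.Presheaf.IsSheaf (C := AddCommGrpCat.{u}) (X := (𝔛.X 0).carrier) M.val.presheaf := M.isSheaf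
  refine TopCat.Sheaf.eq_of_locally_eq' (⟨_, hs⟩ : TopCat.Sheaf AddCommGrpCat.{u} (𝔛.X 0).carrier)
    (fun Z : {Z : (𝔛.X 0).Opens // IsAffineOpen Z ∧ Z ≤ W} => Z.1) W (fun Z => homOfLE Z.2.2)
    (fun y hy => ?_) x 0 fun Z => ?_
  · obtain ⟨Z, hZ, hyZ, hZW⟩ := exists_affine_le (𝔛 := 𝔛) hy
    exact Opens.mem_iSup.2 ⟨⟨Z, hZ, hZW⟩, hyZ⟩
  · rw [map_zero]
    exact hx Z.1 Z.2.2 Z.2.1

/-- A kernel which is generated on affine opens by the relations over a bigger affine open is of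
finite type. -/
theorem hasGen_kernel {M N : FSch.ModF 𝔛 h} (φ : M ⟶ N) {ι : Type u} [Fintype ι]
    (a : ι → M.val.obj (op U)) (ha : ∀ i, (φ.val.app (op U)).hom (a i) = 0)
    (hgen : ∀ (Z : (𝔛.X 0).Opens) (hZU : Z ≤ U), IsAffineOpen Z → ∀ m : M.val.obj (op Z),
      (φ.val.app (op Z)).hom m = 0 →
      ∃ c : ι → OR 𝔛 h Z, ∑ i, c i • FPLocal.mres M (homOfLE hZU).op (a i) = m) :
    FPLocal.HasGen (kernel φ) U := by
  choose b hb using fun i => FPLocal.exists_kernel_preimage φ (a i) (ha i)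
  refine ⟨ι, inferInstance, b, fun W g y => ?_⟩
  refine ⟨affSieve _ W, affSieve_mem _ W, fun Z k hk => ?_⟩
  obtain ⟨Z', hZ', hZZ', hZ'W⟩ := hk
  let y' := FPLocal.mres (kernel φ) (homOfLE hZ'W).op y
  obtain ⟨c, hc⟩ := hgen Z' (hZ'W.trans (leOfHom g)) hZ' (((kernel.ι φ).val.app (op Z')).hom y')
    (by
      have := congrArg (fun f : kernel φ ⟶ N => (f.val.app (op Z')).hom y') (kernel.condition φ)
      exact this)
  have e1 : ∑ i, c i • FPLocal.mres (kernel φ) (homOfLE (hZ'W.trans (leOfHom g))).op (b i) = y' := by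
    apply FPLocal.app_injective_of_mono (kernel.ι φ) Z'
    rw [map_sum]
    refine Eq.trans (Finset.sum_congr rfl fun i _ => ?_) hc
    refine (map_smul _ _ _).trans (congrArg (c i • ·) ?_)
    refine (PresheafOfModules.naturality_apply (kernel.ι φ).val (homOfLE (hZ'W.trans (leOfHom g))).op (b i)).trans ?_
    exact congrArg (FPLocal.mres M _) (hb i)
  refine ⟨fun i => rsO 𝔛 h hZZ' (c i), ?_⟩
  have e2 := congrArg (FPLocal.mres (kernel φ) (homOfLE hZZ').op) e1
  rw [map_sum] at e2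
  refine Eq.trans (Finset.sum_congr rfl fun i _ => ?_) (e2.trans ?_)
  · refine Eq.trans ?_ (PresheafOfModules.map_smul (kernel φ).val (homOfLE hZZ').op (c i) _).symm
    refine congrArg (rsO 𝔛 h hZZ' (c i) • ·) ?_
    rw [show (k ≫ g).op = (homOfLE (hZ'W.trans (leOfHom g))).op ≫ (homOfLE hZZ').op from Subsingleton.elim _ _,
      FPLocal.mres_comp]
    rfl
  · rw [show k.op = (homOfLE hZ'W).op ≫ (homOfLE hZZ').op from Subsingleton.elim _ _, FPLocal.mres_comp]

/-- Finite type from generators on affine opens. -/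
theorem isFiniteType_of_affine (M : FSch.ModF 𝔛 h)
    (H : ∀ U : (𝔛.X 0).Opens, IsAffineOpen U → FPLocal.HasGen M U) :
    SheafOfModules.IsFiniteType (R := ModSite.ringSh (𝔛.Osh h)) M :=
  FPLocal.isFiniteType_of_hasGen M fun W => ⟨affSieve _ W, affSieve_mem _ W, fun _Z _ hk => by
    obtain ⟨Z', hZ', hZZ', -⟩ := hk
    exact (H Z' hZ').restrict (homOfLE hZZ')⟩

/-- Finite presentation from generators and relations on affine opens. -/
theorem isCohF_of_affine (M : FSch.ModF 𝔛 h)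
    (H : ∀ U : (𝔛.X 0).Opens, IsAffineOpen U → FPLocal.HasRels M U) : FSch.IsCohF 𝔛 h M :=
  FPLocal.isFinitePresentation_of_hasRels M fun W => ⟨affSieve _ W, affSieve_mem _ W, fun _Z _ hk => by
    obtain ⟨Z', hZ', hZZ', -⟩ := hk
    exact (H Z' hZ').restrict (homOfLE hZZ')⟩

variable (𝔐 : FSch.ModSys 𝔛)

/-- Restriction to a smaller affine open preserves generators. -/
theorem span_rsOM (hL : 𝔛.IsLocNoethFormal) (h𝔐 : 𝔐.IsCoh) (hU : IsAffineOpen U) (hV : IsAffineOpen V)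
    (hVU : V ≤ U) (S : Set (OM h 𝔐 U)) (hS : Submodule.span (OR 𝔛 h U) S = ⊤) :
    Submodule.span (OR 𝔛 h V) (rsOM h 𝔐 hVU '' S) = ⊤ := by
  obtain ⟨hfV, hV'⟩ := mod_main (h := h) 𝔐 hL h𝔐 hV
  obtain ⟨-, hU'⟩ := mod_main (h := h) 𝔐 hL h𝔐 hU
  haveI := hfV
  refine top_le_iff.1 (Submodule.le_of_le_smul_of_le_jacobson_bot Module.Finite.fg_top
    (II_le_jacobson hL hV) fun x _ => ?_)
  have hT : Submodule.span (LR 𝔛 h U 0) (pm h 𝔐 U 0 '' S) = ⊤ := by
    refine top_le_iff.1 fun z _ => ?_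
    obtain ⟨m, rfl⟩ := (hU' 0).1 z
    have hm : m ∈ Submodule.span (OR 𝔛 h U) S := hS ▸ trivial
    induction hm using Submodule.span_induction with
    | mem s hs => exact Submodule.subset_span ⟨s, hs, rfl⟩
    | zero => rw [map_zero]; exact zero_mem _
    | add a b _ _ ha hb => rw [map_add]; exact add_mem (ha trivial) (hb trivial)
    | smul r a _ ha => rw [pm_smul]; exact Submodule.smul_mem _ _ (ha trivial)
  haveI := (h𝔐 0).1
  have hspan : pm h 𝔐 V 0 x ∈ Submodule.span (LR 𝔛 h V 0)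
      (rsM h 𝔐 hVU 0 '' (pm h 𝔐 U 0 '' S)) := by
    letI : Algebra (LR 𝔛 h U 0) (LR 𝔛 h V 0) := (rsL 𝔛 h hVU 0).toAlgebra
    letI : Module (LR 𝔛 h U 0) (LM h 𝔐 V 0) := Module.compHom _ (rsL 𝔛 h hVU 0)
    haveI : IsScalarTower (LR 𝔛 h U 0) (LR 𝔛 h V 0) (LM h 𝔐 V 0) := .of_algebraMap_smul fun _ _ => rfl
    exact (span_baseChange (isBaseChange_res (𝔐.F 0) (affine_lvU hU 0) (affine_lvU hV 0)
      (lvU_mono 𝔛 h hVU 0)) _ hT).symm ▸ trivial
  rw [← Set.image_comp] at hspan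
  have hle : Submodule.span (LR 𝔛 h V 0) ((rsM h 𝔐 hVU 0 ∘ pm h 𝔐 U 0) '' S) ≤
      Submodule.span (LR 𝔛 h V 0) (pm h 𝔐 V 0 '' (Submodule.span (OR 𝔛 h V) (rsOM h 𝔐 hVU '' S) : Set _)) := by
    refine Submodule.span_le.2 ?_
    rintro _ ⟨s, hs, rfl⟩
    exact Submodule.subset_span ⟨_, Submodule.subset_span ⟨s, hs, rfl⟩, pm_rsOM 𝔐 hVU 0 s⟩
  have h3 : ∃ y ∈ Submodule.span (OR 𝔛 h V) (rsOM h 𝔐 hVU '' S), pm h 𝔐 V 0 y = pm h 𝔐 V 0 x := by
    refine Submodule.span_induction ?_ ?_ ?_ ?_ (hle hspan)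
    · rintro _ ⟨y, hy, rfl⟩; exact ⟨y, hy, rfl⟩
    · exact ⟨0, zero_mem _, map_zero _⟩
    · rintro a b - - ⟨y, hy, ey⟩ ⟨z, hz, ez⟩
      exact ⟨y + z, add_mem hy hz, by rw [map_add, ey, ez]⟩
    · rintro r a - ⟨y, hy, ey⟩
      obtain ⟨r', rfl⟩ := pr_surjective hL hV 0 r
      exact ⟨r' • y, Submodule.smul_mem _ _ hy, by rw [pm_smul, ey]⟩
  obtain ⟨y, hy, hye⟩ := h3
  refine Submodule.mem_sup.2 ⟨y, hy, x - y, ?_, by abel⟩
  have h4 := ((hV' 0).2 (x - y)).1 (by rw [map_sub, hye, sub_self])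
  rwa [zero_add, pow_one] at h4

/-- The module attached to a coherent system has finite generators and relations on affines. -/
theorem hasRels_realMod (hL : 𝔛.IsLocNoethFormal) (h𝔐 : 𝔐.IsCoh) (hU : IsAffineOpen U) :
    FPLocal.HasRels (𝔐.realMod h) U := by
  classical
  obtain ⟨hfU, hU'⟩ := mod_main (h := h) 𝔐 hL h𝔐 hU
  haveI := noetherian (h := h) hL hU
  haveI := hfU
  obtain ⟨m, G, hG⟩ := Module.Finite.exists_fin' (OR 𝔛 h U) (OM h 𝔐 U)
  let s : ULift.{u} (Fin m) → OM h 𝔐 U := fun i => G (Pi.single i.down 1)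
  have hs : Submodule.span (OR 𝔛 h U) (Set.range s) = ⊤ := by
    refine top_le_iff.1 fun z _ => ?_
    obtain ⟨c, rfl⟩ := hG z
    rw [← Finset.univ_sum_single c, map_sum]
    refine Submodule.sum_mem _ fun i _ => ?_
    rw [show Pi.single i (c i) = c i • (Pi.single i (1 : OR 𝔛 h U) : Fin m → OR 𝔛 h U) by
      rw [← Pi.single_smul, smul_eq_mul, mul_one], map_smul]
    exact Submodule.smul_mem _ _ (Submodule.subset_span ⟨⟨i⟩, rfl⟩)
  let K : Submodule (OR 𝔛 h U) (ULift.{u} (Fin m) → OR 𝔛 h U) :=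
    LinearMap.ker (Fintype.linearCombination (OR 𝔛 h U) s)
  obtain ⟨l, c, hc⟩ := Submodule.fg_iff_exists_fin_generating_family.1 (IsNoetherian.noetherian K)
  refine ⟨ULift.{u} (Fin m), ULift.{u} (Fin l), inferInstance, inferInstance, s, fun k => c k.down,
    ?_, ?_, ?_⟩
  · intro W g x
    refine ⟨affSieve _ W, affSieve_mem _ W, fun Z k hk => ?_⟩
    obtain ⟨Z', hZ', hZZ', hZ'W⟩ := hk
    have hle := hZ'W.trans (leOfHom g)
    have hx : rsOM h 𝔐 hZ'W x ∈ Submodule.span (OR 𝔛 h Z') (Set.range fun i => rsOM h 𝔐 hle (s i)) := by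
      have := span_rsOM (h := h) 𝔐 hL h𝔐 hU hZ' hle _ hs
      rw [← Set.range_comp] at this
      exact this.symm ▸ trivial
    obtain ⟨a, ha⟩ := (Submodule.mem_span_range_iff_exists_fun _).1 hx
    refine ⟨fun i => rsO 𝔛 h hZZ' (a i), ?_⟩
    have e2 := congrArg (rsOM h 𝔐 hZZ') ha
    rw [map_sum] at e2
    refine Eq.trans (Finset.sum_congr rfl fun i _ => ?_) (e2.trans ?_)
    · rw [rsOM_smul]
      refine congrArg (rsO 𝔛 h hZZ' (a i) • ·) ?_
      rw [show (k ≫ g).op = (homOfLE hle).op ≫ (homOfLE hZZ').op from Subsingleton.elim _ _, FPLocal.mres_comp]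
      rfl
    · rw [show k.op = (homOfLE hZ'W).op ≫ (homOfLE hZZ').op from Subsingleton.elim _ _, FPLocal.mres_comp]
      rfl
  · intro k
    have : c k.down ∈ K := hc ▸ Submodule.subset_span ⟨k.down, rfl⟩
    rw [LinearMap.mem_ker, Fintype.linearCombination_apply] at this
    exact this
  · intro W g d hd
    refine ⟨affSieve _ W, affSieve_mem _ W, fun Z k hk => ?_⟩
    obtain ⟨Z', hZ', hZZ', hZ'W⟩ := hk
    have hle := hZ'W.trans (leOfHom g)
    haveI := noetherian (h := h) hL hZ'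
    have hx : ∑ i, rsO 𝔛 h hZ'W (d i) • rsOM h 𝔐 hle (s i) = 0 := by
      have e2 := congrArg (rsOM h 𝔐 hZ'W) hd
      rw [map_sum, map_zero] at e2
      refine Eq.trans (Finset.sum_congr rfl fun i _ => ?_) e2
      refine Eq.trans ?_ (rsOM_smul 𝔐 hZ'W (d i) _).symm
      refine congrArg (rsO 𝔛 h hZ'W (d i) • ·) ?_
      show FPLocal.mres (𝔐.realMod h) (homOfLE hle).op (s i) = _
      rw [show (homOfLE hle).op = g.op ≫ (homOfLE hZ'W).op from Subsingleton.elim _ _]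
      exact FPLocal.mres_comp (M := 𝔐.realMod h) g.op (homOfLE hZ'W).op (s i)
    have key := mem_span_relations_of_levels (rsO 𝔛 h hle) (rsOM h 𝔐 hle) (pr 𝔛 h U) (pr 𝔛 h Z')
      (rsL 𝔛 h hle) (pm h 𝔐 U) (pm h 𝔐 Z') (rsM h 𝔐 hle) (II_le_jacobson hL hZ') (pr_surjective hL hU)
      (pr_surjective hL hZ') (fun n => (ker_pr hL hZ' n).le.trans (Ideal.pow_le_pow_right (Nat.le_succ n)))
      (pr_rsO 𝔛 h hle) (pm_smul 𝔐) (pm_smul 𝔐) (rsM_smul 𝔐 hle) (pm_rsOM 𝔐 hle) (rsL_flat hU hZ' hle)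
      (fun n => haveI := (h𝔐 n).1; isBaseChange_res (𝔐.F n) (affine_lvU hU n) (affine_lvU hZ' n)
        (lvU_mono 𝔛 h hle n)) s
      (fun n z hz => by
        have hz' := ((hU' n).2 z).1 hz
        rw [← hs, Submodule.mem_ideal_smul_span_iff_exists_sum] at hz'
        obtain ⟨b, hb, hbz⟩ := hz'
        refine ⟨fun i => b i, fun i => ?_, ?_⟩
        · have := hb i
          rwa [← ker_pr hL hU n, RingHom.mem_ker] at this
        · rw [← hbz, Finsupp.sum_fintype]
          exact fun i => zero_smul _ _)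
      _ hx
    have hsub : Submodule.span (OR 𝔛 h Z')
        ((fun c' i => rsO 𝔛 h hle (c' i)) '' {c' : ULift.{u} (Fin m) → OR 𝔛 h U | ∑ i, c' i • s i = 0}) ≤
        Submodule.span (OR 𝔛 h Z') (Set.range fun j : ULift.{u} (Fin l) => fun i => rsO 𝔛 h hle (c j.down i)) := by
      refine Submodule.span_le.2 ?_
      rintro _ ⟨c', hc', rfl⟩
      have hc'' : c' ∈ Submodule.span (OR 𝔛 h U) (Set.range c) := by
        rw [hc, LinearMap.mem_ker, Fintype.linearCombination_apply]; exact hc'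
      induction hc'' using Submodule.span_induction with
      | mem y hy => obtain ⟨j, rfl⟩ := hy; exact Submodule.subset_span ⟨⟨j⟩, rfl⟩
      | zero =>
        show (fun i => rsO 𝔛 h hle ((0 : ULift.{u} (Fin m) → OR 𝔛 h U) i)) ∈ _
        simp only [Pi.zero_apply, map_zero]; exact zero_mem _
      | add a b _ _ ha hb =>
        show (fun i => rsO 𝔛 h hle ((a + b) i)) ∈ _
        simp only [Pi.add_apply, map_add]
        exact add_mem (ha (LinearMap.mem_ker.1 (hc ▸ ‹a ∈ _› : a ∈ K)))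
          (hb (LinearMap.mem_ker.1 (hc ▸ ‹b ∈ _› : b ∈ K)))
      | smul r a _ ha =>
        show (fun i => rsO 𝔛 h hle ((r • a) i)) ∈ _
        simp only [Pi.smul_apply, smul_eq_mul, map_mul]
        exact Submodule.smul_mem _ (rsO 𝔛 h hle r) (ha (LinearMap.mem_ker.1 (hc ▸ ‹a ∈ _› : a ∈ K)))
    obtain ⟨e, he⟩ := (Submodule.mem_span_range_iff_exists_fun _).1 (hsub key)
    refine ⟨fun j => rsO 𝔛 h hZZ' (e j), fun i => ?_⟩
    have e2 := congrArg (rsO 𝔛 h hZZ') (congrFun he i)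
    rw [Finset.sum_apply, map_sum] at e2
    refine Eq.trans (Finset.sum_congr rfl fun j _ => ?_) (e2.trans ?_)
    · rw [Pi.smul_apply, smul_eq_mul, map_mul]
      refine congrArg (rsO 𝔛 h hZZ' (e j) * ·) ?_
      rw [show (k ≫ g).op = (homOfLE hle).op ≫ (homOfLE hZZ').op from Subsingleton.elim _ _]
      exact ConcreteCategory.congr_hom ((𝔛.Osh h).obj.map_comp (homOfLE hle).op (homOfLE hZZ').op) (c j.down i)
    · rw [show k.op = (homOfLE hZ'W).op ≫ (homOfLE hZZ').op from Subsingleton.elim _ _]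
      exact (ConcreteCategory.congr_hom ((𝔛.Osh h).obj.map_comp (homOfLE hZ'W).op (homOfLE hZZ').op) (d i)).symm

end Groth.Agent.FCompl
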