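import Groth.Agent.FComplLib.Torsion

/-!
# The torsion part of a quasi-coherent module is quasi-coherent
-/

set_option autoImplicit false
set_option linter.style.haveILetI false
set_option linter.unusedVariables false
set_option backward.isDefEq.respectTransparency false
set_option backward.isDefEq.respectTransparency.types false
set_option maxHeartbeats 4000000
universe u

open CategoryTheory CategoryTheory.Limits AlgebraicGeometry TopologicalSpace Opposite

noncomputable section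

namespace Groth.Agent.FCompl

variable {𝔛 : FSch.Sys.{u}} {h : 𝔛.IsFormal} {M : FSch.ModF 𝔛 h} {U V : (𝔛.X 0).Opens}

/-- Combinations restricted. -/
lemma mres_sum_smul {ι : Type u} [Fintype ι] {A B : (𝔛.X 0).Opens} (hBA : B ≤ A) (c : ι → OR 𝔛 h A)
    (s : ι → M.val.obj (op A)) :
    FPLocal.mres M (homOfLE hBA).op (∑ i, c i • s i) =
      ∑ i, rsO 𝔛 h hBA (c i) • FPLocal.mres M (homOfLE hBA).op (s i) := by
  rw [map_sum]
  exact Finset.sum_congr rfl fun i _ => mres_smul' hBA _ _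

/-- Combinations killed by finitely many scalars are generated by finitely many of them. -/
theorem exists_killed_gens (hL : 𝔛.IsLocNoethFormal) (D : RelData M V) (hU : IsAffineOpen U) (hUV : U ≤ V)
    (T : Finset (OR 𝔛 h U)) {ι : Type u} [Fintype ι] (s : ι → M.val.obj (op U)) :
    ∃ (l : ℕ) (c : ULift.{u} (Fin l) → ι → OR 𝔛 h U), (∀ k, ∀ a ∈ T, a • ∑ i, c k i • s i = 0) ∧
      ∀ ⦃W : (𝔛.X 0).Opens⦄ (hW : W ≤ U) (d : ι → OR 𝔛 h W),
        (∀ a ∈ T, rsO 𝔛 h hW a • ∑ i, d i • FPLocal.mres M (homOfLE hW).op (s i) = 0) →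
        FPLocal.Locally (Opens.grothendieckTopology _) W fun Z q => ∃ e : ULift.{u} (Fin l) → OR 𝔛 h Z,
          ∑ k, e k • FPLocal.mres M (q ≫ homOfLE hW).op (∑ i, c k i • s i) =
            FPLocal.mres M q.op (∑ i, d i • FPLocal.mres M (homOfLE hW).op (s i)) := by
  classical
  induction T using Finset.induction_on with
  | empty =>
    let e : ULift.{u} (Fin (Fintype.card ι)) ≃ ι := Equiv.ulift.trans (Fintype.equivFin ι).symm
    refine ⟨Fintype.card ι, fun k i => if e k = i then 1 else 0, fun k a ha => by simp at ha,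
      fun W hW d _ => ⟨⊤, GrothendieckTopology.top_mem _ _, fun Z q _ =>
        ⟨fun k => rsO 𝔛 h (leOfHom q) (d (e k)), ?_⟩⟩⟩
    rw [show q = homOfLE (leOfHom q) from rfl, mres_sum_smul (leOfHom q) d]
    refine Fintype.sum_equiv e _ _ fun k => ?_
    rw [Finset.sum_eq_single (e k) (fun i _ hi => (congrArg (· • s i) (if_neg (Ne.symm hi))).trans (zero_smul _ _))
      (fun hc => absurd (Finset.mem_univ _) hc),
      (congrArg (· • s (e k)) (if_pos rfl)).trans (one_smul (OR 𝔛 h U) (s (e k)))]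
    exact congrArg (rsO 𝔛 h (leOfHom q) (d (e k)) • ·) (FPLocal.mres_comp (M := M) (homOfLE hW).op q.op _)
  | insert a T ha ih =>
    obtain ⟨l, c, hc0, hc⟩ := ih
    let z : ULift.{u} (Fin l) → M.val.obj (op U) := fun k => ∑ i, c k i • s i
    obtain ⟨l', c', hc'0, hc'⟩ := relComplete_qc hL D hU hUV fun k => a • z k
    have hz : ∀ x, ∑ i, (∑ k, c' x k * c k i) • s i = ∑ k, c' x k • z k := fun x => by
      simp only [z, Finset.sum_smul, Finset.smul_sum, mul_smul]
      exact Finset.sum_comm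
    refine ⟨l', fun x i => ∑ k, c' x k * c k i, fun x b hb => ?_, fun W hW d hd => ?_⟩
    · rw [hz, Finset.smul_sum]
      rcases Finset.mem_insert.1 hb with rfl | hb
      · refine Eq.trans (Finset.sum_congr rfl fun k _ => ?_) (hc'0 x)
        exact smul_comm _ _ _
      · refine Finset.sum_eq_zero fun k _ => ?_
        rw [smul_comm, hc0 k b hb, smul_zero]
    refine FPLocal.Locally.bind (hc hW d fun b hb => hd b (Finset.mem_insert_of_mem hb)) fun Z q ⟨e, he⟩ => ?_
    have hZU : Z ≤ U := (leOfHom q).trans hW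
    have hrel : ∑ k, e k • FPLocal.mres M (q ≫ homOfLE hW).op (a • z k) = 0 := by
      have e1 := congrArg (rsO 𝔛 h hZU a • ·) he
      have e2 := congrArg (FPLocal.mres M q.op) (hd a (Finset.mem_insert_self a T))
      rw [map_zero, show q = homOfLE (leOfHom q) from rfl, mres_smul', rsO_rsO] at e2
      refine Eq.trans ?_ (e1.trans e2)
      show _ = rsO 𝔛 h hZU a • ∑ k, e k • FPLocal.mres M (q ≫ homOfLE hW).op (z k)
      rw [Finset.smul_sum]
      refine Finset.sum_congr rfl fun k _ => ?_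
      rw [show (q ≫ homOfLE hW) = homOfLE hZU from rfl, mres_smul', smul_comm]
    obtain ⟨S, hS, hS'⟩ := hc' (q ≫ homOfLE hW) e hrel
    refine ⟨S, hS, fun Y p hp => ?_⟩
    obtain ⟨e', he'⟩ := hS' p hp
    refine ⟨e', ?_⟩
    have hYU : Y ≤ U := (leOfHom p).trans hZU
    have h1 := congrArg (FPLocal.mres M p.op) he
    rw [← FPLocal.mres_comp, map_sum] at h1
    refine Eq.trans ?_ h1
    show ∑ x, e' x • FPLocal.mres M (homOfLE hYU).op (∑ i, (∑ k, c' x k * c k i) • s i) =
      ∑ k, FPLocal.mres M (homOfLE (leOfHom p)).op (e k • FPLocal.mres M (homOfLE hZU).op (z k))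
    rw [Finset.sum_congr rfl fun x _ => congrArg (e' x • ·)
      ((congrArg (FPLocal.mres M (homOfLE hYU).op) (hz x)).trans (mres_sum_smul hYU (c' x) z))]
    simp only [Finset.smul_sum, ← mul_smul]
    rw [Finset.sum_comm]
    refine Finset.sum_congr rfl fun k _ => ?_
    rw [← Finset.sum_smul, mres_smul', ← FPLocal.mres_comp]
    exact congrArg (· • _) (he' k)

/-- Killed sections over an affine open generate the killed sections inside it. -/
theorem exists_killed_family (hL : 𝔛.IsLocNoethFormal) (D : RelData M V) (hU : IsAffineOpen U) (hUV : U ≤ V) (n : ℕ) :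
    ∃ (I : Type u) (t : I → M.val.obj (op U)), (∀ i, KB M n (t i)) ∧
      ∀ ⦃W : (𝔛.X 0).Opens⦄ (hW : W ≤ U) (m : M.val.obj (op W)), KB M n m →
        FPLocal.Locally (Opens.grothendieckTopology _) W fun Z q => ∃ (Q : Type u) (_ : Fintype Q) (p : Q → I)
          (e : Q → OR 𝔛 h Z), ∑ x, e x • FPLocal.mres M (q ≫ homOfLE hW).op (t (p x)) = FPLocal.mres M q.op m := by
  classical
  haveI := noetherian (h := h) hL hU
  obtain ⟨T, hT⟩ : (II 𝔛 h U ^ (n + 1)).FG := IsNoetherian.noetherian _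
  choose l c hc0 hc using fun S : Finset D.I =>
    exists_killed_gens hL D hU hUV T (fun j : ↥S => FPLocal.mres M (homOfLE hUV).op (D.t j.1))
  refine ⟨Σ S : Finset D.I, ULift.{u} (Fin (l S)),
    fun p => ∑ j : ↥p.1, c p.1 p.2 j • FPLocal.mres M (homOfLE hUV).op (D.t j.1),
    fun p => kb_of_gens hL hU hT fun a ha => hc0 p.1 p.2 a ha, fun W hW m hm => ?_⟩
  refine FPLocal.Locally.bind (D.gen (homOfLE hW ≫ homOfLE hUV) m) fun Z q ⟨S, a₀, ha⟩ => ?_
  let a : D.I → OR 𝔛 h Z := a₀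
  have hZU : Z ≤ U := (leOfHom q).trans hW
  have hm' : ∑ j : ↥S, a j.1 • FPLocal.mres M (homOfLE hZU).op (FPLocal.mres M (homOfLE hUV).op (D.t j.1)) =
      FPLocal.mres M q.op m := by
    refine Eq.trans ?_ ha
    rw [← Finset.sum_coe_sort S]
    exact Finset.sum_congr rfl fun j _ => congrArg (a j.1 • ·) (FPLocal.mres_comp (M := M) _ _ _).symm
  refine (hc S hZU (fun j : ↥S => a j.1) fun b hb => ?_).mono fun Y p hp => ?_
  · rw [hm']
    refine hm q _ ?_
    show pr 𝔛 h Z n (rsO 𝔛 h hZU b) = 0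
    rw [pr_rsO, show pr 𝔛 h U n b = 0 from by
      rw [← RingHom.mem_ker, ker_pr hL hU n, ← hT]; exact Ideal.subset_span hb, map_zero]
  · obtain ⟨e, he⟩ := hp
    refine ⟨ULift.{u} (Fin (l S)), inferInstance, fun k => ⟨S, k⟩, e, ?_⟩
    refine Eq.trans ?_ ((he.trans (congrArg (FPLocal.mres M p.op) hm')).trans (FPLocal.mres_comp (M := M) _ _ _).symm)
    rfl

/-- The torsion part of a quasi-coherent module is quasi-coherent. -/
theorem isQuasicoherent_gammaT (hL : 𝔛.IsLocNoethFormal) (M : FSch.ModF 𝔛 h) [SheafOfModules.IsQuasicoherent.{u} M] :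
    SheafOfModules.IsQuasicoherent.{u} ((FTors.gammaT 𝔛 h).obj M) := by
  classical
  let ΓM := (FTors.gammaT 𝔛 h).obj M
  let ι : ΓM ⟶ M := (FTors.gammaTι 𝔛 h).app M
  have hinj : ∀ (W : (𝔛.X 0).Opens), Function.Injective (ι.val.app (op W)).hom := fun W a b hab => Subtype.ext hab
  refine isQuasicoherent_of_genFin ΓM fun W =>
    ⟨{ arrows := fun Z _ => ∃ (U : (𝔛.X 0).Opens) (_ : Z ⟶ U) (I : Type u) (t : I → ΓM.val.obj (op U)),
        GenFin ΓM t ∧ RelFin ΓM t
       downward_closed := fun {Y Z} _ ⟨U, f, hU⟩ k => ⟨U, k ≫ f, hU⟩ }, fun x hx => ?_, fun Z g hg => hg⟩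
  obtain ⟨V, hVW, hxV, ⟨D⟩⟩ := exists_relData (𝔉 := M) hx
  obtain ⟨U, hU, hxU, hUV⟩ := exists_affine_le (𝔛 := 𝔛) hxV
  choose I t ht hgen using fun n => exists_killed_family hL D hU hUV n
  let tt : (Σ n, I n) → ΓM.val.obj (op U) := fun p => ⟨t p.1 p.2, FTors.IsTorsSect.of_killedBy (ht p.1 p.2)⟩
  refine ⟨U, homOfLE (hUV.trans hVW), ⟨U, 𝟙 U, _, tt, ?_, ?_⟩, hxU⟩
  · refine genFin_of_family fun A g m => ?_
    refine FPLocal.Locally.bind ((isTorsSect_iff (M := M) m.1).1 m.2) fun Z q ⟨n, hn⟩ => ?_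
    refine (hgen n ((leOfHom q).trans (leOfHom g)) _ hn).mono fun Y p hp => ?_
    obtain ⟨Q, _, k, e, he⟩ := hp
    refine ⟨Q, inferInstance, fun x => ⟨n, k x⟩, e, hinj Y ?_⟩
    rw [map_sum, Finset.sum_congr rfl fun x _ => map_smul (ι.val.app (op Y)).hom (e x) _]
    refine Eq.trans ?_ (he.trans (FPLocal.mres_comp (M := M) q.op p.op _).symm)
    rfl
  · refine relFin_of_family fun A g S d hd0 hd => ?_
    obtain ⟨l, c, hc0, hc⟩ := relComplete_qc hL D hU hUV fun x : ↥S => t x.1.1 x.1.2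
    have hd' : ∑ x : ↥S, d x.1 • FPLocal.mres M g.op (t x.1.1 x.1.2) = 0 := by
      have e := congrArg (ι.val.app (op A)).hom hd
      rw [map_sum, map_zero, ← Finset.sum_coe_sort S] at e
      exact Eq.trans (Finset.sum_congr rfl fun x _ => Eq.symm (by rw [map_smul]; rfl)) e
    obtain ⟨S', hS', hS''⟩ := hc g (fun x : ↥S => d x.1) hd'
    refine ⟨S', hS', fun Z q hq => ?_⟩
    obtain ⟨e₀, he⟩ := hS'' q hq
    let e : ULift.{u} (Fin l) → OR 𝔛 h Z := e₀
    let c' : ULift.{u} (Fin l) → (Σ n, I n) → OR 𝔛 h U := fun k y => if hy : y ∈ S then c k ⟨y, hy⟩ else 0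
    have hc' : ∀ k, ∑ y ∈ S, c' k y • tt y = 0 := fun k => by
      refine hinj U ?_
      rw [map_sum, map_zero, ← Finset.sum_coe_sort S]
      refine Eq.trans (Finset.sum_congr rfl fun x _ => ?_) (hc0 k)
      rw [map_smul]
      exact congrArg (· • t x.1.1 x.1.2) (dif_pos x.2)
    refine ⟨ULift.{u} (Fin l), inferInstance, e, fun k => mkFinRel tt S (c' k) (fun y hy => dif_neg hy) (hc' k),
      fun y => ?_⟩
    show ∑ k, e k * rsO 𝔛 h (leOfHom (q ≫ g)) (c' k y) = rsO 𝔛 h (leOfHom q) (d y)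
    by_cases hy : y ∈ S
    · rw [show (fun k => e k * rsO 𝔛 h (leOfHom (q ≫ g)) (c' k y)) =
          fun k => e k * rsO 𝔛 h (leOfHom (q ≫ g)) (c k ⟨y, hy⟩) from funext fun k => by simp only [c', dif_pos hy]]
      exact he ⟨y, hy⟩
    · rw [hd0 y hy, map_zero]
      exact Finset.sum_eq_zero fun k _ => by simp only [c', dif_neg hy, map_zero, mul_zero]

/-- The torsion part of a quasi-coherent module is a quasi-coherent torsion module. -/
theorem isQCT_gammaT (hL : 𝔛.IsLocNoethFormal) (M : FSch.ModF 𝔛 h) [SheafOfModules.IsQuasicoherent.{u} M] :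
    FTors.IsQCT 𝔛 h ((FTors.gammaT 𝔛 h).obj M) :=
  ⟨isT_gammaT M, isQuasicoherent_gammaT hL M⟩

/-- The torsion part of a torsion module is the module. -/
theorem isIso_gammaTι (hT : IsT M) : IsIso ((FTors.gammaTι 𝔛 h).app M) := by
  haveI : Mono ((FTors.gammaTι 𝔛 h).app M) :=
    FPLocal.mono_of_locally_zero _ fun W m hm => ⟨⊤, GrothendieckTopology.top_mem _ _, fun Z q _ =>
      (congrArg (FPLocal.mres _ q.op) (show m = 0 from Subtype.ext hm)).trans (map_zero _)⟩
  haveI : Epi ((FTors.gammaTι 𝔛 h).app M) := FPLocal.epi_of_exists_preimage _ fun W m =>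
    ⟨⊤, GrothendieckTopology.top_mem _ _, fun Z q _ => ⟨⟨FPLocal.mres M q.op m, hT Z _⟩, rfl⟩⟩
  exact isIso_of_mono_of_epi _

end Groth.Agent.FCompl
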