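import Groth.Agent.FComplLib.TorsGen
import Groth.Agent.FComplLib.Factor
import Groth.Agent.FComplLib.IndChar
import Groth.Agent.QCohLib.Coherent
import Groth.Agent.SubLib.ExtendWO

/-!
# Sections killed by the open ideal of a level, as a module on the level
-/

set_option autoImplicit false
set_option linter.style.haveILetI false
set_option linter.unusedVariables false
set_option backward.isDefEq.respectTransparency false
set_option backward.isDefEq.respectTransparency.types false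
set_option maxHeartbeats 4000000
universe u

open CategoryTheory CategoryTheory.Limits AlgebraicGeometry TopologicalSpace Opposite

noncomputable section

namespace Groth.Agent.FCompl

variable {𝔛 : FSch.Sys.{u}} {h : 𝔛.IsFormal} (hL : 𝔛.IsLocNoethFormal) (M : FSch.ModF 𝔛 h) (n : ℕ)

lemma toX_lvU (U : (𝔛.X 0).Opens) : 𝔛.toX n ⁻¹ᵁ 𝔛.lvU h n U = U := by
  show (Opens.map ((𝔛.toX n).base ≫ 𝔛.gInv h n)).obj U = U
  rw [𝔛.toX_base_gInv h n]
  rfl

lemma lvU_le_of_le {W : (𝔛.X n).Opens} {Z : (𝔛.X 0).Opens} (hZ : Z ≤ 𝔛.toX n ⁻¹ᵁ W) : 𝔛.lvU h n Z ≤ W :=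
  (lvU_mono 𝔛 h hZ n).trans (lvU_toX W).le

/-- Scalars of a level restricted to an open inside. -/
def rsW {W : (𝔛.X n).Opens} {Z : (𝔛.X 0).Opens} (hZ : Z ≤ 𝔛.toX n ⁻¹ᵁ W) :
    Γ(𝔛.X n, W) →+* LR 𝔛 h Z n :=
  ((𝔛.X n).presheaf.map (homOfLE (lvU_le_of_le n hZ)).op).hom

lemma rsL_rsW {W : (𝔛.X n).Opens} {Z Z' : (𝔛.X 0).Opens} (hZ : Z ≤ 𝔛.toX n ⁻¹ᵁ W) (hZ' : Z' ≤ Z)
    (a : Γ(𝔛.X n, W)) : rsL 𝔛 h hZ' n (rsW (h := h) n hZ a) = rsW (h := h) n (hZ'.trans hZ) a := by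
  show ((𝔛.X n).presheaf.map _ ≫ (𝔛.X n).presheaf.map _) a = _
  rw [← Functor.map_comp]
  rfl

/-- The sections killed by the open ideal of the level. -/
def killed (W : (𝔛.X n).Opens) : AddSubgroup (M.val.obj (op (𝔛.toX n ⁻¹ᵁ W))) where
  carrier := {s | KB M n s}
  zero_mem' := FTors.KilledBy.zero _ M n _
  add_mem' ha hb := ha.add hb
  neg_mem' {s} hs := fun W' g a ha => by
    show a • FPLocal.mres M g.op (-s) = 0
    rw [map_neg, smul_neg]
    exact neg_eq_zero.2 (hs g a ha)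

/-- The specification of the action. -/
def IsAct {W : (𝔛.X n).Opens} (a : Γ(𝔛.X n, W)) (s x : M.val.obj (op (𝔛.toX n ⁻¹ᵁ W))) : Prop :=
  ∀ (Z : (𝔛.X 0).Opens) (hZ : Z ≤ 𝔛.toX n ⁻¹ᵁ W) (b : OR 𝔛 h Z), pr 𝔛 h Z n b = rsW n hZ a →
    FPLocal.mres M (homOfLE hZ).op x = b • FPLocal.mres M (homOfLE hZ).op s

include hL in
lemma isAct_unique {W : (𝔛.X n).Opens} {a : Γ(𝔛.X n, W)} {s x x' : M.val.obj (op (𝔛.toX n ⁻¹ᵁ W))}
    (hx : IsAct M n a s x) (hx' : IsAct M n a s x') : x = x' := by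
  rw [← sub_eq_zero]
  refine eq_zero_of_affine M _ fun Z hZ hZa => ?_
  obtain ⟨b, hb⟩ := pr_surjective (h := h) hL hZa n (rsW n hZ a)
  rw [map_sub, hx Z hZ b hb, hx' Z hZ b hb, sub_self]

include hL in
theorem exists_act {W : (𝔛.X n).Opens} (a : Γ(𝔛.X n, W)) {s : M.val.obj (op (𝔛.toX n ⁻¹ᵁ W))} (hs : KB M n s) :
    ∃ x, IsAct M n a s x := by
  classical
  let T := 𝔛.toX n ⁻¹ᵁ W
  let ι := {Z : (𝔛.X 0).Opens // IsAffineOpen Z ∧ Z ≤ T}
  choose b hb using fun Z : ι => pr_surjective (h := h) hL Z.2.1 n (rsW n Z.2.2 a)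
  have hwell : ∀ (Y : (𝔛.X 0).Opens) (hY : Y ≤ T) (c c' : OR 𝔛 h Y), pr 𝔛 h Y n c = pr 𝔛 h Y n c' →
      c • FPLocal.mres M (homOfLE hY).op s = c' • FPLocal.mres M (homOfLE hY).op s := fun Y hY c c' e => by
    have h0 : (c - c') • FPLocal.mres M (homOfLE hY).op s = 0 := hs (homOfLE hY) (c - c') (by
      show pr 𝔛 h Y n (c - c') = 0
      rw [map_sub, e, sub_self])
    rw [sub_smul, sub_eq_zero] at h0
    exact h0
  have hsh : TopCat.Presheaf.IsSheaf (C := AddCommGrpCat.{u}) (X := (𝔛.X 0).carrier) M.val.presheaf := M.isSheaf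
  obtain ⟨x, hx, -⟩ := TopCat.Sheaf.existsUnique_gluing' (⟨_, hsh⟩ : TopCat.Sheaf AddCommGrpCat.{u} (𝔛.X 0).carrier)
    (fun Z : ι => Z.1) T (fun Z => homOfLE Z.2.2)
    (fun y hy => by
      obtain ⟨Z, hZ, hyZ, hZT⟩ := exists_affine_le (𝔛 := 𝔛) hy
      exact Opens.mem_iSup.2 ⟨⟨Z, hZ, hZT⟩, hyZ⟩)
    (fun Z : ι => b Z • FPLocal.mres M (homOfLE Z.2.2).op s) fun Z Z' => by
      show FPLocal.mres M (homOfLE inf_le_left).op (b Z • _) = FPLocal.mres M (homOfLE inf_le_right).op (b Z' • _)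
      rw [mres_smul', mres_smul', ← FPLocal.mres_comp, ← FPLocal.mres_comp]
      exact hwell _ (inf_le_left.trans Z.2.2) _ _ (by rw [pr_rsO, pr_rsO, hb, hb, rsL_rsW, rsL_rsW])
  refine ⟨x, fun Y hY c hc => ?_⟩
  rw [← sub_eq_zero]
  refine eq_zero_of_affine M _ fun Z hZ hZa => ?_
  let Z' : ι := ⟨Z, hZa, hZ.trans hY⟩
  rw [map_sub, ← FPLocal.mres_comp, mres_smul', ← FPLocal.mres_comp, sub_eq_zero]
  refine (hx Z').trans ?_
  exact hwell _ (hZ.trans hY) _ _ (by rw [pr_rsO, hc, rsL_rsW, hb Z'])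

/-- The action of the scalars of the level. -/
def act {W : (𝔛.X n).Opens} (a : Γ(𝔛.X n, W)) (s : killed M n W) : killed M n W :=
  ⟨(exists_act hL M n a s.2).choose, by
    refine kb_of_affine fun Z hZ hZa c hc => ?_
    obtain ⟨b, hb⟩ := pr_surjective (h := h) hL hZa n (rsW n hZ a)
    rw [(exists_act hL M n a s.2).choose_spec Z hZ b hb, smul_comm]
    exact (congrArg (b • ·) (s.2 (homOfLE hZ) c hc)).trans (smul_zero _)⟩

lemma act_spec {W : (𝔛.X n).Opens} (a : Γ(𝔛.X n, W)) (s : killed M n W) : IsAct M n a s.1 (act hL M n a s).1 :=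
  (exists_act hL M n a s.2).choose_spec

include hL in
lemma act_eq {W : (𝔛.X n).Opens} {a : Γ(𝔛.X n, W)} {s x : killed M n W} (hx : IsAct M n a s.1 x.1) :
    act hL M n a s = x :=
  Subtype.ext (isAct_unique hL M n (act_spec hL M n a s) hx)

/-- The action, affine-locally. -/
lemma act_eq' {W : (𝔛.X n).Opens} {a : Γ(𝔛.X n, W)} {s x : killed M n W}
    (hx : ∀ (Z : (𝔛.X 0).Opens) (hZ : Z ≤ 𝔛.toX n ⁻¹ᵁ W), IsAffineOpen Z →
      ∃ b : OR 𝔛 h Z, pr 𝔛 h Z n b = rsW n hZ a ∧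
        FPLocal.mres M (homOfLE hZ).op x.1 = b • FPLocal.mres M (homOfLE hZ).op s.1) :
    act hL M n a s = x := by
  refine Subtype.ext (sub_eq_zero.1 (eq_zero_of_affine M _ fun Z hZ hZa => ?_))
  obtain ⟨b, hb, hb'⟩ := hx Z hZ hZa
  rw [map_sub, act_spec hL M n a s Z hZ b hb, hb', sub_self]

/-- Killed sections form a module over the scalars of the level. -/
def killedModule (W : (𝔛.X n).Opens) : Module Γ(𝔛.X n, W) (killed M n W) where
  smul := act hL M n
  one_smul s := act_eq' hL M n fun Z hZ _ => ⟨1, by rw [map_one, map_one], (one_smul _ _).symm⟩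
  mul_smul a c s := act_eq' hL M n fun Z hZ hZa => by
    obtain ⟨b, hb⟩ := pr_surjective (h := h) hL hZa n (rsW n hZ a)
    obtain ⟨b', hb'⟩ := pr_surjective (h := h) hL hZa n (rsW n hZ c)
    refine ⟨b * b', by rw [map_mul, map_mul, hb, hb'], ?_⟩
    show FPLocal.mres M (homOfLE hZ).op (act hL M n a (act hL M n c s)).1 = _
    rw [act_spec hL M n a _ Z hZ b hb, act_spec hL M n c s Z hZ b' hb', mul_smul]
  smul_zero a := act_eq' hL M n fun Z hZ hZa => by
    obtain ⟨b, hb⟩ := pr_surjective (h := h) hL hZa n (rsW n hZ a)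
    exact ⟨b, hb, by rw [AddSubgroup.coe_zero, map_zero, smul_zero]⟩
  smul_add a s t := act_eq' hL M n fun Z hZ hZa => by
    obtain ⟨b, hb⟩ := pr_surjective (h := h) hL hZa n (rsW n hZ a)
    refine ⟨b, hb, ?_⟩
    show FPLocal.mres M (homOfLE hZ).op ((act hL M n a s).1 + (act hL M n a t).1) =
      b • FPLocal.mres M (homOfLE hZ).op (s.1 + t.1)
    rw [map_add, map_add, smul_add, act_spec hL M n a s Z hZ b hb, act_spec hL M n a t Z hZ b hb]
  add_smul a c s := act_eq' hL M n fun Z hZ hZa => by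
    obtain ⟨b, hb⟩ := pr_surjective (h := h) hL hZa n (rsW n hZ a)
    obtain ⟨b', hb'⟩ := pr_surjective (h := h) hL hZa n (rsW n hZ c)
    refine ⟨b + b', by rw [map_add, map_add, hb, hb'], ?_⟩
    show FPLocal.mres M (homOfLE hZ).op ((act hL M n a s).1 + (act hL M n c s).1) = _
    rw [map_add, add_smul, act_spec hL M n a s Z hZ b hb, act_spec hL M n c s Z hZ b' hb']
  zero_smul s := act_eq' hL M n fun Z hZ _ => ⟨0, by rw [map_zero, map_zero], by
    rw [AddSubgroup.coe_zero, map_zero, zero_smul]⟩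

/-- The presheaf of killed sections. -/
def killedPre : (𝔛.X n).Opensᵒᵖ ⥤ Ab.{u} where
  obj W := AddCommGrpCat.of (killed M n W.unop)
  map {W W'} f := AddCommGrpCat.ofHom
    { toFun := fun s => ⟨FPLocal.mres M (homOfLE (toX_mono (leOfHom f.unop))).op s.1, FTors.KilledBy.res _ s.2⟩
      map_zero' := Subtype.ext (map_zero (FPLocal.mres M _))
      map_add' := fun s t => Subtype.ext (map_add (FPLocal.mres M _) s.1 t.1) }
  map_id W := by
    ext s
    exact congr($(M.val.presheaf.map_id _) s.1)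
  map_comp f g := by
    ext s
    exact FPLocal.mres_comp (M := M) _ _ s.1

/-- Killed sections as a subfunctor. -/
def killedSub : Subfunctor
    (((Opens.map (𝔛.toX n).base).op ⋙ M.val.presheaf) ⋙ CategoryTheory.forget Ab.{u}) where
  obj W := {s | KB M n s}
  map f _ hs := FTors.KilledBy.res _ hs

/-- The two descriptions agree. -/
def killedPreIso : killedPre M n ⋙ CategoryTheory.forget Ab.{u} ≅ (killedSub M n).toFunctor :=
  NatIso.ofComponents (fun W => Equiv.toIso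
    { toFun := fun s => ⟨s.1, s.2⟩
      invFun := fun s => ⟨s.1, s.2⟩
      left_inv := fun _ => rfl
      right_inv := fun _ => rfl }) (fun _ => rfl)

theorem isSheaf_killedPre : Presheaf.IsSheaf (Opens.grothendieckTopology (𝔛.X n).carrier) (killedPre M n) := by
  let J := Opens.grothendieckTopology (𝔛.X n).carrier
  have h0 : Presheaf.IsSheaf J ((Opens.map (𝔛.toX n).base).op ⋙ M.val.presheaf) :=
    ((TopCat.Sheaf.pushforward AddCommGrpCat.{u} (𝔛.toX n).base).obj ⟨M.val.presheaf, M.isSheaf⟩).2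
  have hM : Presieve.IsSheaf J (((Opens.map (𝔛.toX n).base).op ⋙ M.val.presheaf) ⋙ CategoryTheory.forget Ab.{u}) :=
    (isSheaf_iff_isSheaf_of_type J _).1 ((Presheaf.isSheaf_iff_isSheaf_forget J _ (CategoryTheory.forget Ab.{u})).1 h0)
  rw [Presheaf.isSheaf_iff_isSheaf_forget J (killedPre M n) (CategoryTheory.forget Ab.{u}), isSheaf_iff_isSheaf_of_type]
  refine Presieve.isSheaf_iso J (killedPreIso M n).symm (((killedSub M n).isSheaf_iff hM).2 ?_)
  intro W s hs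
  refine kb_local (FPLocal.locally_of_near (fun Z Y l q hn => ?_) fun x hx => ?_)
  · rw [FPLocal.mres_comp']
    exact hn.res l
  · obtain ⟨W', i, hi, hxW'⟩ := hs ((𝔛.toX n).base x) hx
    exact ⟨_, homOfLE (toX_mono (leOfHom i)), hxW', hi⟩

/-- The killed sections as a module on the level. -/
def killedMod : (𝔛.X n).Modules :=
  letI : ∀ W : (𝔛.X n).Opensᵒᵖ, Module ((𝔛.X n).ringCatSheaf.obj.obj W) ((killedPre M n).obj W) :=
    fun W => killedModule hL M n W.unop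
  { val := PresheafOfModules.ofPresheaf (killedPre M n) fun W W' f a s => by
      refine (Eq.symm ?_)
      refine act_eq' hL M n fun Z hZ hZa => ?_
      obtain ⟨b, hb⟩ := pr_surjective (h := h) hL hZa n (rsW n (hZ.trans (toX_mono (leOfHom f.unop))) a)
      refine ⟨b, hb.trans ?_, ?_⟩
      · show _ = ((𝔛.X n).presheaf.map f ≫ (𝔛.X n).presheaf.map _) a
        rw [← Functor.map_comp]
        rfl
      · show FPLocal.mres M (homOfLE hZ).op (FPLocal.mres M _ (act hL M n a s).1) =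
          b • FPLocal.mres M (homOfLE hZ).op (FPLocal.mres M _ s.1)
        rw [← FPLocal.mres_comp, ← FPLocal.mres_comp]
        exact act_spec hL M n a s Z _ b hb
    isSheaf := isSheaf_killedPre M n }

/-- The underlying section. -/
def uv {W : (𝔛.X n).Opens} (m : Γ(killedMod hL M n, W)) : M.val.obj (op (𝔛.toX n ⁻¹ᵁ W)) :=
  (show killed M n W from m).1

lemma uv_kb {W : (𝔛.X n).Opens} (m : Γ(killedMod hL M n, W)) : KB M n (uv hL M n m) :=
  (show killed M n W from m).2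

lemma uv_injective {W : (𝔛.X n).Opens} : Function.Injective (uv hL M n (W := W)) := fun a b e => Subtype.ext e

lemma uv_smul {W : (𝔛.X n).Opens} (a : Γ(𝔛.X n, W)) (m : Γ(killedMod hL M n, W)) {Z : (𝔛.X 0).Opens}
    (hZ : Z ≤ 𝔛.toX n ⁻¹ᵁ W) (b : OR 𝔛 h Z) (hb : pr 𝔛 h Z n b = rsW n hZ a) :
    FPLocal.mres M (homOfLE hZ).op (uv hL M n (a • m)) = b • FPLocal.mres M (homOfLE hZ).op (uv hL M n m) :=
  act_spec hL M n a _ Z hZ b hb

lemma uv_map {W W' : (𝔛.X n).Opens} (i : W' ⟶ W) (m : Γ(killedMod hL M n, W)) :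
    uv hL M n (FPLocal.mres (killedMod hL M n) i.op m) =
      FPLocal.mres M (homOfLE (toX_mono (leOfHom i))).op (uv hL M n m) := rfl

lemma uv_sum {W : (𝔛.X n).Opens} {Q : Type u} [Fintype Q] (f : Q → Γ(killedMod hL M n, W)) :
    uv hL M n (∑ x, f x) = ∑ x, uv hL M n (f x) :=
  map_sum (AddMonoidHom.mk' (uv hL M n (W := W)) fun _ _ => rfl) f Finset.univ

/-- Scalars over `lvU (toX⁻¹ B)` as scalars over `B`. -/
def tw (B : (𝔛.X n).Opens) : LR 𝔛 h (𝔛.toX n ⁻¹ᵁ B) n →+* Γ(𝔛.X n, B) :=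
  ((𝔛.X n).presheaf.map (homOfLE (lvU_toX (h := h) B).ge).op).hom

lemma rsW_tw {B : (𝔛.X n).Opens} {Z : (𝔛.X 0).Opens} (hZ : Z ≤ 𝔛.toX n ⁻¹ᵁ B)
    (c : LR 𝔛 h (𝔛.toX n ⁻¹ᵁ B) n) : rsW (h := h) n hZ (tw n B c) = rsL 𝔛 h hZ n c := by
  show ((𝔛.X n).presheaf.map _ ≫ (𝔛.X n).presheaf.map _) c = _
  rw [← Functor.map_comp]
  rfl

lemma uv_tw_smul {B : (𝔛.X n).Opens} (c : OR 𝔛 h (𝔛.toX n ⁻¹ᵁ B)) (m : Γ(killedMod hL M n, B)) :
    uv hL M n (tw n B (pr 𝔛 h _ n c) • m) = c • uv hL M n m := by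
  have e := uv_smul hL M n (tw n B (pr 𝔛 h _ n c)) m (Z := 𝔛.toX n ⁻¹ᵁ B) le_rfl c (by
    rw [rsW_tw]
    exact (congr($((𝔛.X n).presheaf.map_id _) (pr 𝔛 h _ n c))).symm)
  simp only [show (homOfLE (le_refl (𝔛.toX n ⁻¹ᵁ B))).op = 𝟙 _ from rfl] at e
  exact (congr($(M.val.presheaf.map_id _) _)).symm.trans (e.trans (congrArg (c • ·) (congr($(M.val.presheaf.map_id _) _))))

include hL in
theorem isQCoh_killedMod [SheafOfModules.IsQuasicoherent.{u} M] : Coh.IsQCoh (killedMod hL M n) := by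
  classical
  let F := killedMod hL M n
  refine isQuasicoherent_of_genFin F fun W =>
    ⟨{ arrows := fun Z _ => ∃ (U : (𝔛.X n).Opens) (_ : Z ⟶ U) (I : Type u) (t : I → F.val.obj (op U)),
        GenFin F t ∧ RelFin F t
       downward_closed := fun {Y Z} _ ⟨U, f, hU⟩ k => ⟨U, k ≫ f, hU⟩ }, fun y hy => ?_, fun Z g hg => hg⟩
  obtain ⟨x, rfl⟩ := FSch.Sys.toX_surjective 𝔛 h n y
  obtain ⟨V, hVW, hxV, ⟨D⟩⟩ := exists_relData (𝔉 := M) (show x ∈ 𝔛.toX n ⁻¹ᵁ W from hy)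
  obtain ⟨U, hU, hxU, hUV⟩ := exists_affine_le (𝔛 := 𝔛) hxV
  obtain ⟨I, t, ht, hgen⟩ := exists_killed_family hL D hU hUV n
  have hUeq : 𝔛.toX n ⁻¹ᵁ 𝔛.lvU h n U = U := toX_lvU (h := h) n U
  let tt : I → F.val.obj (op (𝔛.lvU h n U)) := fun i =>
    (⟨FPLocal.mres M (homOfLE hUeq.le).op (t i), FTors.KilledBy.res _ (ht i)⟩ : killed M n (𝔛.lvU h n U))
  have htt : ∀ (i : I) (A : (𝔛.X n).Opens) (hA : A ≤ 𝔛.lvU h n U),
      uv hL M n (FPLocal.mres F (homOfLE hA).op (tt i)) =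
        FPLocal.mres M (homOfLE ((toX_mono hA).trans hUeq.le)).op (t i) := fun i A hA =>
    (FPLocal.mres_comp (M := M) _ _ _).symm
  refine ⟨𝔛.lvU h n U, homOfLE ((lvU_mono 𝔛 h (hUV.trans hVW) n).trans (lvU_toX W).le),
    ⟨𝔛.lvU h n U, 𝟙 _, I, tt, ?_, ?_⟩, ?_⟩
  · intro A g m
    have hAU : 𝔛.toX n ⁻¹ᵁ A ≤ U := (toX_mono (leOfHom g)).trans hUeq.le
    obtain ⟨S, hS, hS'⟩ := hgen hAU (uv hL M n m) (uv_kb hL M n m)
    let S2 : Sieve A :=
      { arrows := fun B l => S.arrows (homOfLE (toX_mono (leOfHom l)))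
        downward_closed := fun {B C} l hl k => S.downward_closed hl (homOfLE (toX_mono (leOfHom k))) }
    refine ⟨S2, fun y hy => ?_, fun B l hl => ?_⟩
    · obtain ⟨x', rfl⟩ := FSch.Sys.toX_surjective 𝔛 h n y
      obtain ⟨Z, q, hq, hxZ⟩ := hS x' hy
      refine ⟨𝔛.lvU h n Z, homOfLE ((lvU_mono 𝔛 h (leOfHom q) n).trans (lvU_toX A).le),
        S.downward_closed hq (homOfLE (toX_lvU (h := h) n Z).le), ?_⟩
      show x' ∈ 𝔛.toX n ⁻¹ᵁ 𝔛.lvU h n Z
      rw [toX_lvU]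
      exact hxZ
    obtain ⟨Q, _, p, e, he⟩ := hS' (homOfLE (toX_mono (leOfHom l))) hl
    refine ⟨Finset.univ.image p,
      fun i => ∑ x ∈ Finset.univ.filter (fun x => p x = i), tw n B (pr 𝔛 h _ n (e x)), ?_⟩
    have e1 : ∑ x, tw n B (pr 𝔛 h _ n (e x)) • FPLocal.mres F (homOfLE (leOfHom (l ≫ g))).op (tt (p x)) =
        FPLocal.mres F l.op m := by
      refine uv_injective hL M n ?_
      rw [uv_sum]
      refine Eq.trans (Finset.sum_congr rfl fun x _ => ?_) he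
      rw [uv_tw_smul, htt]
      rfl
    refine Eq.trans ?_ e1
    rw [← Finset.sum_fiberwise_of_maps_to (t := Finset.univ.image p)
      (fun x _ => Finset.mem_image_of_mem _ (Finset.mem_univ x))]
    refine Finset.sum_congr rfl fun i _ => ?_
    rw [Finset.sum_smul]
    exact Finset.sum_congr rfl fun x hx => by rw [(Finset.mem_filter.1 hx).2]; rfl
  · intro A g T₀ d₀ hd0 hd
    let d : I → Γ(𝔛.X n, A) := d₀
    have hAU : 𝔛.toX n ⁻¹ᵁ A ≤ U := (toX_mono (leOfHom g)).trans hUeq.le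
    obtain ⟨l, c, hc0, hc⟩ := relComplete_qc hL D hU hUV fun i : ↥T₀ => t i.1
    let c' : ULift.{u} (Fin l) → I → LR 𝔛 h U n := fun k i => if hi : i ∈ T₀ then pr 𝔛 h U n (c k ⟨i, hi⟩) else 0
    have hc' : ∀ k, ∑ i ∈ T₀, c' k i • tt i = 0 := fun k => by
      refine uv_injective hL M n ?_
      rw [← Finset.sum_coe_sort T₀, uv_sum]
      refine Eq.trans (Finset.sum_congr rfl fun i _ => ?_) ((mres_sum_smul hUeq.le (c k) _).symm.trans
        ((congrArg (FPLocal.mres M (homOfLE hUeq.le).op) (hc0 k)).trans (map_zero _)))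
      refine Eq.trans (congrArg (uv hL M n) (congrArg (· • tt i.1) (dif_pos i.2))) ?_
      refine eq_of_sub_eq_zero (eq_zero_of_affine M _ fun Z hZ hZa => ?_)
      rw [map_sub, sub_eq_zero, uv_smul hL M n _ _ hZ (rsO 𝔛 h hZ (rsO 𝔛 h hUeq.le (c k i))) (by
        rw [rsO_rsO, pr_rsO]; rfl), mres_smul']
      rfl
    refine FPLocal.locally_of_near (fun B B' q r hr => ?_) fun y hy => ?_
    · obtain ⟨T₁, e, he⟩ := hr
      refine ⟨T₁, fun k => ((𝔛.X n).ringCatSheaf.obj.map q.op).hom (e k), fun i => ?_⟩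
      have e2 := congrArg ((𝔛.X n).ringCatSheaf.obj.map q.op).hom (he i)
      rw [map_sum] at e2
      refine Eq.trans (Finset.sum_congr rfl fun k _ => ?_) (e2.trans ?_)
      · rw [map_mul]
        refine congrArg (_ * ·) ?_
        exact congr($((𝔛.X n).ringCatSheaf.obj.map_comp (r ≫ g).op q.op) _)
      · exact (congr($((𝔛.X n).ringCatSheaf.obj.map_comp r.op q.op) _)).symm
    obtain ⟨x', rfl⟩ := FSch.Sys.toX_surjective 𝔛 h n y
    obtain ⟨Z, hZa, hxZ, hZA⟩ := exists_affine_le (𝔛 := 𝔛) (show x' ∈ 𝔛.toX n ⁻¹ᵁ A from hy)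
    have hZU : Z ≤ U := hZA.trans hAU
    choose b hb using fun i : ↥T₀ => pr_surjective (h := h) hL hZa n (rsW n hZA (d i.1))
    have hsum : ∑ i : ↥T₀, b i • FPLocal.mres M (homOfLE hZU).op (t i.1) = 0 := by
      have e2 := congrArg (FPLocal.mres M (homOfLE hZA).op) (congrArg (uv hL M n) hd)
      rw [show uv hL M n (0 : F.val.obj (op A)) = 0 from rfl, map_zero, ← Finset.sum_coe_sort T₀, uv_sum, map_sum] at e2
      refine Eq.trans (Finset.sum_congr rfl fun i _ => ?_) e2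
      rw [uv_smul hL M n _ _ hZA (b i) (hb i)]
      refine congrArg (b i • ·) ?_
      rw [show g = homOfLE (leOfHom g) from rfl, htt, ← FPLocal.mres_comp]
      rfl
    obtain ⟨S, hS, hS'⟩ := hc (homOfLE hZU) b hsum
    obtain ⟨Z₁, q, hq, hxZ₁⟩ := hS x' hxZ
    obtain ⟨e₀, he⟩ := hS' q hq
    let e : ULift.{u} (Fin l) → OR 𝔛 h Z₁ := e₀
    let rel : ULift.{u} (Fin l) → FinRel F tt := fun k => (⟨Finsupp.onFinset T₀ (c' k) fun i hi => by by_contra h'; exact hi (dif_neg h'),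
            (Finsupp.sum_of_support_subset _ Finsupp.support_onFinset_subset _ (fun i _ => zero_smul (LR 𝔛 h U n) (tt i))).trans
            (hc' k)⟩ : FinRel F tt)
    have hZ₁ : 𝔛.lvU h n Z₁ ≤ A := lvU_le_of_le n ((leOfHom q).trans hZA)
    refine ⟨𝔛.lvU h n Z₁, homOfLE hZ₁, ?_, Finset.univ.image rel,
      fun C => ∑ k ∈ Finset.univ.filter (fun k => rel k = C), pr 𝔛 h Z₁ n (e k), fun i => ?_⟩
    · show x' ∈ 𝔛.toX n ⁻¹ᵁ 𝔛.lvU h n Z₁
      rw [toX_lvU]
      exact hxZ₁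
    rw [Finset.sum_congr rfl fun C _ => Finset.sum_mul _ _ _]
    refine Eq.trans (Eq.trans ?_ (Finset.sum_fiberwise_of_maps_to (s := Finset.univ) (t := Finset.univ.image rel) (fun k _ => Finset.mem_image_of_mem rel (Finset.mem_univ k))
      fun k => pr 𝔛 h Z₁ n (e k) * rsL 𝔛 h ((leOfHom q).trans hZU) n (c' k i))) ?_
    · exact Finset.sum_congr rfl fun C _ => Finset.sum_congr rfl fun k hk => by
        rw [← (Finset.mem_filter.1 hk).2]; rfl
    by_cases hi : i ∈ T₀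
    · simp only [c', dif_pos hi]
      rw [Finset.sum_congr rfl fun k _ => congrArg (pr 𝔛 h Z₁ n (e k) * ·) (pr_rsO 𝔛 h ((leOfHom q).trans hZU) n _).symm]
      simp only [← map_mul, ← map_sum]
      rw [show ∑ k, e k * rsO 𝔛 h ((leOfHom q).trans hZU) (c k ⟨i, hi⟩) = rsO 𝔛 h (leOfHom q) (b ⟨i, hi⟩) from he ⟨i, hi⟩,
        pr_rsO, hb, rsL_rsW]
      rfl
    · simp only [c', dif_neg hi, map_zero, mul_zero, Finset.sum_const_zero]
      exact ((congrArg ((𝔛.X n).presheaf.map (homOfLE hZ₁).op).hom (hd0 i hi)).trans (map_zero _)).symm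
  · show x ∈ 𝔛.toX n ⁻¹ᵁ 𝔛.lvU h n U
    rw [hUeq]
    exact hxU

include hL in
variable {M} in
/-- A killed section comes from a coherent module. -/
theorem exists_coh_through [SheafOfModules.IsQuasicoherent.{u} M] {U : (𝔛.X 0).Opens} (hU : IsAffineOpen U)
    (s : M.val.obj (op U)) (hs : KB M n s) :
    ∃ (C : FSch.ModF 𝔛 h) (f : C ⟶ M), FSch.IsCohF 𝔛 h C ∧ ∃ g : C.val.obj (op U), (f.val.app (op U)).hom g = s := by
  classical
  haveI := hL.2.2 n
  let F := killedMod hL M n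
  haveI : Coh.IsQCoh F := isQCoh_killedMod hL M n
  have hUn := affine_lvU (h := h) hU n
  let s' : Γ(F, 𝔛.lvU h n U) :=
    (⟨FPLocal.mres M (homOfLE (toX_lvU (h := h) n U).le).op s, FTors.KilledBy.res _ hs⟩ : killed M n (𝔛.lvU h n U))
  obtain ⟨N₀, hN₀, hs₀⟩ := SubLib.exists_good_section hUn s'
  obtain ⟨N, hN, hgood⟩ := SubLib.exists_good_top (fun y => by
    obtain ⟨W, hW, hyW, -⟩ := exists_isAffineOpen_mem_and_subset (X := 𝔛.X n) (x := y) (U := ⊤) trivial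
    haveI := QCohLib.isNoetherianRing_section (X := 𝔛.X n) hW
    exact ⟨W, hyW, AlgebraicGeometry.noetherianSpace_of_isAffineOpen W hW⟩) hN₀
  obtain ⟨G, i, hi, hGq, hGf, g, hg⟩ := SubLib.exists_sub_through s' hgood fun z hz => by
    rw [hN z hz]; exact hs₀ z hz
  haveI := hi
  haveI := hGq
  let C : FSch.ModF 𝔛 h := (FSch.levelMor 𝔛 h n).push.obj G
  let ev : ∀ V : (𝔛.X 0).Opens, Γ(G, 𝔛.lvU h n V) →+ M.val.obj (op V) := fun V => AddMonoidHom.mk'
    (fun m => FPLocal.mres M (homOfLE (toX_lvU (h := h) n V).ge).op (uv hL M n (i.app (𝔛.lvU h n V) m))) fun a b => by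
      rw [map_add]
      exact map_add (FPLocal.mres M (homOfLE (toX_lvU (h := h) n V).ge).op) _ _
  have ev_lin : ∀ V (r : OR 𝔛 h V) (m : Γ(G, 𝔛.lvU h n V)), ev V (pr 𝔛 h V n r • m) = r • ev V m := fun V r m => by
    show FPLocal.mres M _ (uv hL M n (i.app _ (pr 𝔛 h V n r • m))) = r • FPLocal.mres M _ _
    rw [show i.app (𝔛.lvU h n V) (pr 𝔛 h V n r • m) = pr 𝔛 h V n r • i.app (𝔛.lvU h n V) m from
      map_smul (i.val.app (op (𝔛.lvU h n V))).hom _ _]
    refine uv_smul hL M n _ _ (toX_lvU (h := h) n V).ge r ?_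
    exact (congr($((𝔛.X n).presheaf.map_id _) (pr 𝔛 h V n r))).symm
  let f : C ⟶ M := ⟨PresheafOfModules.homMk
    { app := fun V => AddCommGrpCat.ofHom (ev V.unop)
      naturality := fun V V' j => by
        ext m
        show ev V'.unop (G.presheaf.map (homOfLE (lvU_mono 𝔛 h (leOfHom j.unop) n)).op m) =
          FPLocal.mres M j (ev V.unop m)
        show FPLocal.mres M _ (uv hL M n (i.app _ (G.presheaf.map _ m))) = FPLocal.mres M j (FPLocal.mres M _ _)
        refine Eq.trans (congrArg (fun z => FPLocal.mres M _ (uv hL M n z))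
          (FPLocal.app_mres i (homOfLE (lvU_mono 𝔛 h (leOfHom j.unop) n)) m)) ?_
        show FPLocal.mres M _ (uv hL M n (FPLocal.mres F (homOfLE (lvU_mono 𝔛 h (leOfHom j.unop) n)).op _)) = _
        rw [uv_map, ← FPLocal.mres_comp, ← FPLocal.mres_comp]
        rfl }
    (fun V r m => ev_lin V.unop r m)⟩
  haveI : Mono f := FPLocal.mono_of_locally_zero f fun V m hm => ⟨⊤, GrothendieckTopology.top_mem _ _, fun Z q _ => by
    have h0 : uv hL M n (i.app (𝔛.lvU h n V) m) = 0 := by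
      have e := congrArg (FPLocal.mres M (homOfLE (toX_lvU (h := h) n V).le).op) (hm : ev V m = 0)
      rw [map_zero] at e
      exact (congr($(M.val.presheaf.map_id _) _)).symm.trans
        ((FPLocal.mres_comp (M := M) (homOfLE (toX_lvU (h := h) n V).ge).op (homOfLE (toX_lvU (h := h) n V).le).op _).trans e)
    have h1 : m = 0 := FPLocal.app_injective_of_mono i (𝔛.lvU h n V)
      ((uv_injective hL M n (h0 : uv hL M n _ = uv hL M n 0)).trans (map_zero _).symm)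
    exact (congrArg (FPLocal.mres C q.op) h1).trans (map_zero _)⟩
  refine ⟨C, f, FPLocal.isFinitePresentation_of_hasRels C fun W => ?_, g, ?_⟩
  · refine ⟨{ arrows := fun Z _ => FPLocal.HasRels C Z
              downward_closed := fun {Y Z} _ hY k => FPLocal.HasRels.restrict hY k }, fun x hx => ?_, fun Z _ hZ => hZ⟩
    obtain ⟨V, hVW, hxV, ⟨D⟩⟩ := exists_relData (𝔉 := M) hx
    obtain ⟨Y, hY, hxY, hYV⟩ := exists_affine_le (𝔛 := 𝔛) hxV
    refine ⟨Y, homOfLE (hYV.trans hVW), ?_, hxY⟩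
    haveI := QCohLib.finite_sections_of_isCoh (X := 𝔛.X n) ⟨hGq, hGf⟩ (affine_lvU (h := h) hY n)
    obtain ⟨m, γ₀, hγ⟩ := Submodule.fg_iff_exists_fin_generating_family.1
      (Module.Finite.fg_top (R := LR 𝔛 h Y n) (M := Γ(G, 𝔛.lvU h n Y)))
    let γ : ULift.{u} (Fin m) → C.val.obj (op Y) := fun k => γ₀ k.down
    obtain ⟨l, c, hc0, hc⟩ := relComplete_qc hL D hY hYV fun k => (f.val.app (op Y)).hom (γ k)
    refine ⟨ULift.{u} (Fin m), ULift.{u} (Fin l), inferInstance, inferInstance, γ, c, fun A k z => ?_, fun q => ?_,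
      fun A k d hd => hc k d ?_⟩
    · refine ⟨affSieve _ A, affSieve_mem _ A, fun Z q hq => ?_⟩
      obtain ⟨Z', hZ', hZZ', hZ'A⟩ := hq
      have hZ'Y : Z' ≤ Y := hZ'A.trans (leOfHom k)
      letI : Algebra (LR 𝔛 h Y n) (LR 𝔛 h Z' n) := (rsL 𝔛 h hZ'Y n).toAlgebra
      letI : Module (LR 𝔛 h Y n) Γ(G, 𝔛.lvU h n Z') := Module.compHom _ (rsL 𝔛 h hZ'Y n)
      haveI : IsScalarTower (LR 𝔛 h Y n) (LR 𝔛 h Z' n) Γ(G, 𝔛.lvU h n Z') := .of_algebraMap_smul fun _ _ => rfl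
      have hsp := span_baseChange (isBaseChange_res G (affine_lvU (h := h) hY n) (affine_lvU (h := h) hZ' n)
        (lvU_mono 𝔛 h hZ'Y n)) _ hγ
      have hz : (show Γ(G, 𝔛.lvU h n Z') from FPLocal.mres C (homOfLE hZ'A).op z) ∈ (⊤ : Submodule (LR 𝔛 h Z' n) _) :=
        trivial
      rw [← hsp, ← Set.range_comp] at hz
      obtain ⟨a, ha⟩ := (Submodule.mem_span_range_iff_exists_fun _).1 hz
      choose a' ha' using fun k' => pr_surjective (h := h) hL hZ' n (a k')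
      refine ⟨fun k' => rsO 𝔛 h hZZ' (a' k'.down), ?_⟩
      have e : ∑ k', a' k'.down • FPLocal.mres C (homOfLE hZ'Y).op (γ k') = FPLocal.mres C (homOfLE hZ'A).op z := by
        refine Eq.trans ?_ ha
        refine Fintype.sum_equiv Equiv.ulift _ _ fun k' => ?_
        show pr 𝔛 h Z' n (a' k'.down) • (show Γ(G, 𝔛.lvU h n Z') from _) = _
        rw [ha']
        rfl
      have e' := congrArg (FPLocal.mres C (homOfLE hZZ').op) e
      rw [map_sum, ← FPLocal.mres_comp] at e'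
      refine Eq.trans (Finset.sum_congr rfl fun k' _ => ?_) e'
      rw [mres_smul', ← FPLocal.mres_comp]
      rfl
    · refine FPLocal.app_injective_of_mono f Y ?_
      rw [map_sum, map_zero]
      exact Eq.trans (Finset.sum_congr rfl fun x _ => map_smul _ _ _) (hc0 q)
    · have e := congrArg (f.val.app (op A)).hom hd
      rw [map_sum, map_zero] at e
      refine Eq.trans (Finset.sum_congr rfl fun x _ => ?_) e
      rw [map_smul, FPLocal.app_mres]
  · show FPLocal.mres M _ (uv hL M n (i.app (𝔛.lvU h n U) g)) = s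
    rw [hg]
    show FPLocal.mres M _ (FPLocal.mres M _ s) = s
    rw [← FPLocal.mres_comp]
    exact congr($(M.val.presheaf.map_id (op U)) s)

include hL in
variable {M} in
/-- Quasi-coherent torsion modules are filtered colimits of coherent modules. -/
theorem ind_of_qct (hT : IsT M) [SheafOfModules.IsQuasicoherent.{u} M] :
    (ObjectProperty.ind.{u} fun 𝔊 : FSch.ModF 𝔛 h => FSch.IsCohF 𝔛 h 𝔊) M := by
  classical
  let A := Σ (U : {U : (𝔛.X 0).Opens // IsAffineOpen U}) (n : ℕ), {s : M.val.obj (op U.1) // KB M n s}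
  choose C f hC g hg using fun a : A => exists_coh_through hL (M := M) a.2.1 a.1.2 a.2.2.1 a.2.2.2
  haveI hf : Epi (Sigma.desc f) := FPLocal.epi_of_exists_preimage _ fun W m => by
    refine FPLocal.locally_of_near (fun Z Y k q hq => ?_) fun x hx => ?_
    · obtain ⟨y, hy⟩ := hq
      refine ⟨FPLocal.mres _ k.op y, ?_⟩
      rw [FPLocal.app_mres, hy, ← FPLocal.mres_comp']
    · obtain ⟨Z₀, l₀, hxZ₀, n, hn⟩ := FPLocal.Locally.near ((isTorsSect_iff _).1 (hT W m)) hx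
      obtain ⟨Z, hZ, hxZ, hZZ₀⟩ := exists_affine_le (𝔛 := 𝔛) hxZ₀
      let a : A := ⟨⟨Z, hZ⟩, n, ⟨FPLocal.mres M (homOfLE hZZ₀).op (FPLocal.mres M l₀.op m), FTors.KilledBy.res _ hn⟩⟩
      refine ⟨Z, homOfLE hZZ₀ ≫ l₀, hxZ, ((Sigma.ι C a).val.app (op Z)).hom (g a), ?_⟩
      refine Eq.trans (congrArg (fun φ : C a ⟶ M => (φ.val.app (op Z)).hom (g a)) (Sigma.ι_desc f a)) ?_
      exact (hg a).trans (FPLocal.mres_comp (M := M) _ _ m).symm
  obtain ⟨J, hJ, hJf, p, hp, -⟩ := exists_presentation_of_family f hL hC hf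
  exact ⟨J, hJ, hJf, p, hp⟩

end Groth.Agent.FCompl
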